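import Groth.Agent.AmpleVan.ThickPush
import Groth.Agent.S0058
import Groth.Agent.SchTop.Closed
import Groth.Agent.DivX.MeroMod
import Groth.Agent.InvX.Tensor
import Groth.Agent.InvX.GenLocus
import Groth.Agent.AmpleVan.RelVanish
import Groth.Agent.H23.PicMul

/-!
# Invertible modules trivial on all thickenings of the closed fibre
-/

set_option autoImplicit false
set_option linter.style.haveILetI false
set_option linter.unusedSectionVars false
set_option backward.isDefEq.respectTransparency false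
set_option backward.isDefEq.respectTransparency.types false
set_option maxHeartbeats 1000000

universe u

open CategoryTheory CategoryTheory.Limits AlgebraicGeometry TopologicalSpace Opposite

noncomputable section

namespace Groth.Agent.Pic13Lib.ThickTriv

open Groth.Agent

variable {A : Type u} [CommRing A] {X : Scheme.{u}} [X.Over (Spec (CommRingCat.of A))]

theorem π_completion_map (I : Ideal A) (M : X.Modules) {n k : ℕ} (h : n ≤ k) :
    Formal.modPowπ I (k + 1) M ≫ (Formal.completion I M).map (homOfLE h).op = Formal.modPowπ I (n + 1) M := by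
  induction k, h using Nat.le_induction with
  | base =>
    rw [show (homOfLE (le_refl n)).op = 𝟙 (op n) from Subsingleton.elim _ _, CategoryTheory.Functor.map_id]
    exact Category.comp_id _
  | succ k h ih =>
    rw [show (homOfLE (h.trans (Nat.le_succ k))).op = (homOfLE (Nat.le_succ k)).op ≫ (homOfLE h).op from
      Subsingleton.elim _ _, Functor.map_comp, ← Category.assoc]
    have e : (Formal.completion I M).map (homOfLE (Nat.le_succ k)).op = Formal.modPowTrans I (k + 1) M :=
      Functor.ofOpSequence_map_homOfLE_succ _ k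
    rw [e]
    exact (congrArg (· ≫ _) (Formal.modPowπ_trans I (k + 1) M)).trans ih

theorem HH_natural {M N : X.Modules} (φ : M ⟶ N) (y : Coh.HH X M 0) :
    Sheaf.H.equiv₀ (Coh.toAb N) isTerminalTop (Sheaf.H.map ((SheafOfModules.toSheaf _).map φ) 0 y) =
      φ.app ⊤ (Sheaf.H.equiv₀ (Coh.toAb M) isTerminalTop y) :=
  (Sheaf.H.equiv₀_naturality isTerminalTop ((SheafOfModules.toSheaf _).map φ) y).symm

/-- Triviality on the thickenings gives triviality. -/
theorem trivial_of_thickenings [IsNoetherianRing A] [IsLocalRing A] (I : Ideal A)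
    (hI : I ≤ IsLocalRing.maximalIdeal A) [IsProper (X ↘ Spec (CommRingCat.of A))] {Z : ℕ → Scheme.{u}}
    (i : ∀ n, Z n ⟶ X) (q : ∀ n, Z n ⟶ Spec (CommRingCat.of (A ⧸ I ^ (n + 1))))
    (sq : ∀ n, IsPullback (i n) (q n) (X ↘ Spec (CommRingCat.of A))
      (Spec.map (CommRingCat.ofHom (Ideal.Quotient.mk (I ^ (n + 1))))))
    {L : X.Modules} (hL : PicF.IsInvertible L)
    (hn : ∀ n, Nonempty ((Scheme.Modules.pullback (i n)).obj L ≅ Coh.structureModule (Z n))) :
    Nonempty (L ≅ Coh.structureModule X) := by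
  haveI : CompactSpace X := AmpleVan.compactSpace_of_proper (A := A)
  haveI : IsLocallyNoetherian X := LocallyOfFiniteType.isLocallyNoetherian (X ↘ Spec (CommRingCat.of A))
  haveI : ∀ n, IsClosedImmersion (i n) := fun n => by
    haveI : IsClosedImmersion (Spec.map (CommRingCat.ofHom (Ideal.Quotient.mk (I ^ (n + 1))))) :=
      IsClosedImmersion.spec_of_surjective _ Ideal.Quotient.mk_surjective
    exact MorphismProperty.of_isPullback (sq n).flip inferInstance
  have hLc : Coh.IsCoh L := AmpleVan.isCoh_invertible hL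
  obtain ⟨k, hk⟩ := S0058.result A I X L hLc 0
  have hrange := hk 0 k (Nat.zero_le k) (by omega)
  obtain ⟨h0, hd⟩ := AmpleVan.unit_desc_iso (sq k) hLc.1
  obtain ⟨b⟩ := hn k
  let η := (Scheme.Modules.pullbackPushforwardAdjunction (i k)).unit.app L
  let P := (Scheme.Modules.pushforward (i k)).obj ((Scheme.Modules.pullback (i k)).obj L)
  let d : Formal.modPow I (k + 1) L ⟶ P := cokernel.desc _ _ h0
  haveI : IsIso d := hd
  have hπd : Formal.modPowπ I (k + 1) L ≫ d = η := cokernel.π_desc _ _ _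
  let t : Γ(P, ⊤) := b.inv.app (i k ⁻¹ᵁ ⊤) (1 : Γ(Z k, i k ⁻¹ᵁ ⊤))
  let z : Γ(Formal.modPow I (k + 1) L, ⊤) := (inv d).app ⊤ t
  let τ : Formal.modPow I (k + 1) L ⟶ Formal.modPow I (0 + 1) L :=
    (Formal.completion I L).map (homOfLE (Nat.zero_le k)).op
  obtain ⟨y, hy⟩ : ∃ y : Coh.HH X L 0, Formal.toHHmodPow I L 0 0 y =
      Sheaf.H.map ((SheafOfModules.toSheaf X.ringCatSheaf).map τ) 0
        ((Sheaf.H.equiv₀ (Coh.toAb (Formal.modPow I (k + 1) L)) isTerminalTop).symm z) := by
    have hmem : Sheaf.H.map ((SheafOfModules.toSheaf X.ringCatSheaf).map τ) 0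
        ((Sheaf.H.equiv₀ (Coh.toAb (Formal.modPow I (k + 1) L)) isTerminalTop).symm z) ∈
        Set.range (Formal.toHHmodPow I L 0 0) := by
      rw [← hrange]
      exact ⟨_, rfl⟩
    obtain ⟨y, hy⟩ := hmem
    exact ⟨y, hy⟩
  let s : Γ(L, ⊤) := Sheaf.H.equiv₀ (Coh.toAb L) isTerminalTop y
  have hs : (Formal.modPowπ I (0 + 1) L).app ⊤ s = τ.app ⊤ z := by
    refine (HH_natural _ y).symm.trans ((congrArg _ hy).trans ((HH_natural τ _).trans ?_))
    exact congrArg (τ.app ⊤) (Equiv.apply_symm_apply _ _)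
  let φ : Coh.structureModule X ⟶ L := InvX.ofSect s
  suffices IsIso φ from ⟨(asIso φ).symm⟩
  have hgen : ∀ x : X, IsClosed ({x} : Set X) → x ∈ CohB1.genLocus L φ := by
    intro x hx
    obtain ⟨U₀, hxU₀, e₀, he₀⟩ := InvX.exists_frame hL x
    obtain ⟨U, hU, hxU, hUU⟩ := exists_isAffineOpen_mem_and_subset hxU₀
    let e : Γ(L, U) := AModX.res L hUU e₀
    have he : InvX.IsFrame e := he₀.res _
    obtain ⟨c, hc⟩ := he.exists_coord le_rfl (AModX.res L (le_top : U ≤ ⊤) s)
    rw [AModX.res_self] at hc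
    let V : (Z k).Opens := i k ⁻¹ᵁ U
    -- a preimage of the trivialisation
    obtain ⟨w, hw⟩ := (QCoh.unit_app_closed (i k) hLc.1 hU).1 (AModX.res P (le_top : U ≤ ⊤) t)
    obtain ⟨a, ha⟩ := he.exists_coord le_rfl w
    rw [AModX.res_self] at ha
    have htU : AModX.res P (le_top : U ≤ ⊤) t = (show Γ(P, U) from b.inv.app V (1 : Γ(Z k, V))) := by
      show AModX.res ((Scheme.Modules.pullback (i k)).obj L) ((i k).preimage_mono le_top) t = _
      rw [show t = b.inv.app (i k ⁻¹ᵁ ⊤) (1 : Γ(Z k, i k ⁻¹ᵁ ⊤)) from rfl, ← AModX.app_res]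
      exact congrArg (b.inv.app V) (map_one ((Z k).presheaf.map (homOfLE ((i k).preimage_mono (le_top : U ≤ ⊤))).op).hom)
    have hspec : ∀ r ∈ (i k).ker.ideal ⟨U, hU⟩, r ∈ (I ^ (k + 1)).map (AmpleVan.scal A U) := fun r hr => by
      rw [AmpleVan.ker_ideal_of_isPullback (sq k) ⟨U, hU⟩] at hr
      exact hr
    obtain ⟨a', ha'⟩ : ∃ a' : Γ(X, U), a * a' - 1 ∈ (I ^ (k + 1)).map (AmpleVan.scal A U) := by
      obtain ⟨a', ha'⟩ := (i k).app_surjective U hU (show Γ(Z k, V) from b.hom.app V (η.app U e))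
      refine ⟨a', hspec _ ?_⟩
      have h1 : η.app U w = (show Γ(P, U) from (i k).app U a • (show Γ((Scheme.Modules.pullback (i k)).obj L, V) from η.app U e)) := by
        rw [ha, Scheme.Modules.Hom.app_smul]
        rfl
      rw [hw, htU] at h1
      have h2 := congrArg (b.hom.app V) h1
      rw [Scheme.Modules.Hom.app_smul] at h2
      have h7 : b.hom.app V (b.inv.app V (1 : Γ(Z k, V))) = (1 : Γ(Z k, V)) :=
        congrArg (fun ψ => Scheme.Modules.Hom.app ψ V (1 : Γ(Z k, V))) b.inv_hom_id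
      rw [h7] at h2
      rw [FComplLib.ideal_ker, RingHom.mem_ker, map_sub, map_one, sub_eq_zero, map_mul]
      exact (congrArg (fun r => (i k).app U a * r) ha').trans h2.symm
    -- comparison with the section
    have h3 : (Formal.modPowπ I (0 + 1) L).app U (c • e) = (Formal.modPowπ I (0 + 1) L).app U w := by
      rw [← hc, AModX.app_res, hs, ← AModX.app_res]
      have h4 : AModX.res (Formal.modPow I (k + 1) L) (le_top : U ≤ ⊤) z = (Formal.modPowπ I (k + 1) L).app U w := by
        rw [show z = (inv d).app ⊤ t from rfl, ← AModX.app_res, ← hw]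
        exact (congrArg (fun ψ => Scheme.Modules.Hom.app ψ U w)
          (show η ≫ inv d = Formal.modPowπ I (k + 1) L by rw [← hπd, Category.assoc, IsIso.hom_inv_id, Category.comp_id]))
      rw [h4]
      exact congrArg (fun ψ => Scheme.Modules.Hom.app ψ U w) (π_completion_map I L (Nat.zero_le k))
    obtain ⟨h0', hd'⟩ := AmpleVan.unit_desc_iso (sq 0) hLc.1
    have h5 := congrArg ((cokernel.desc _ _ h0').app U) h3
    have h6 : ∀ v : Γ(L, U), (cokernel.desc _ _ h0').app U ((Formal.modPowπ I (0 + 1) L).app U v) =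
        ((Scheme.Modules.pullbackPushforwardAdjunction (i 0)).unit.app L).app U v := fun v =>
      congrArg (fun ψ => Scheme.Modules.Hom.app ψ U v) (cokernel.π_desc _ _ h0')
    rw [h6, h6, ha] at h5
    have h7 : ((Scheme.Modules.pullbackPushforwardAdjunction (i 0)).unit.app L).app U ((c - a) • e) = 0 := by
      rw [sub_smul, map_sub, h5, sub_self]
    obtain ⟨j, hj, hje⟩ : ∃ j ∈ (i 0).ker.ideal ⟨U, hU⟩, (c - a) • e = j • e := by
      have h8 := ((QCoh.unit_app_closed (i 0) hLc.1 hU).2 _).1 h7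
      refine Submodule.smul_induction_on (p := fun v => ∃ j ∈ (i 0).ker.ideal ⟨U, hU⟩, v = j • e) h8 ?_ ?_
      · intro r hr n _
        obtain ⟨g, hg⟩ := he.exists_coord le_rfl n
        rw [AModX.res_self] at hg
        exact ⟨r * g, Ideal.mul_mem_right _ _ hr, by rw [hg, mul_smul]⟩
      · rintro _ _ ⟨r, hr, rfl⟩ ⟨r', hr', rfl⟩
        exact ⟨r + r', Ideal.add_mem _ hr hr', (add_smul _ _ _).symm⟩
    have hca : c - a = j := he.coord_unique le_rfl (by rw [AModX.res_self]; exact hje)
    -- the point lies over the closed point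
    have hmI : (I ^ 1).map (AmpleVan.scal A U) ≤ (hU.primeIdealOf ⟨x, hxU⟩).asIdeal := by
      rw [pow_one, Ideal.map_le_iff_le_comap]
      intro r hr
      show AmpleVan.scal A U r ∈ (hU.primeIdealOf ⟨x, hxU⟩).asIdeal
      by_contra hne
      have hb := (QCoh.mem_basicOpen_iff_notMem hU hxU _).2 hne
      have hfx : IsClosed ({(X ↘ Spec (CommRingCat.of A)) x} : Set (Spec (CommRingCat.of A))) := by
        have := (X ↘ Spec (CommRingCat.of A)).isClosedMap _ hx
        rwa [Set.image_singleton] at this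
      have hmax : ((X ↘ Spec (CommRingCat.of A)) x).asIdeal = IsLocalRing.maximalIdeal A :=
        IsLocalRing.eq_maximalIdeal ((PrimeSpectrum.isClosed_singleton_iff_isMaximal _).1 hfx)
      refine notMem_of_scal hxU r hb ?_
      rw [hmax]
      exact hI hr
    have hca' : c * a' - 1 ∈ (hU.primeIdealOf ⟨x, hxU⟩).asIdeal := by
      have e1 : c * a' - 1 = (a * a' - 1) + j * a' := by rw [← hca]; ring
      rw [e1]
      refine Ideal.add_mem _ (hmI (Ideal.map_mono (Ideal.pow_le_pow_right (by omega)) ha'))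
        (Ideal.mul_mem_right _ _ (hmI ?_))
      rw [AmpleVan.ker_ideal_of_isPullback (sq 0) ⟨U, hU⟩] at hj
      exact hj
    have hcp : c ∉ (hU.primeIdealOf ⟨x, hxU⟩).asIdeal := fun hcm => by
      have h1 := Ideal.sub_mem _ (Ideal.mul_mem_right a' _ hcm) hca'
      rw [sub_sub_cancel] at h1
      exact (hU.primeIdealOf ⟨x, hxU⟩).isPrime.ne_top ((Ideal.eq_top_iff_one _).2 h1)
    have hg := InvX.genLocus_inf φ he (g := c) (by rw [InvX.one_ofSect]; exact hc)
    exact (hg.ge ((QCoh.mem_basicOpen_iff_notMem hU hxU c).2 hcp)).1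
  have htop : ∀ x : X, x ∈ CohB1.genLocus L φ := fun x => by
    obtain ⟨y, hxy, hy⟩ := SchTop.exists_isClosed_specializes x
    exact hxy.mem_open (CohB1.genLocus L φ).2 (hgen y hy)
  refine DivX.isIso_of_frames φ fun x => ?_
  obtain ⟨W, hxW, hW⟩ := InvX.mem_genLocus (htop x)
  refine ⟨W, hxW, (1 : Γ(X, W)), InvX.isFrame_one W, ?_⟩
  rw [InvX.app_eq_smul, one_smul]
  exact hW
where
  notMem_of_scal {U : X.Opens} {x : X} (hxU : x ∈ U) (r : A) (hb : x ∈ X.basicOpen (AmpleVan.scal A U r)) :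
      r ∉ ((X ↘ Spec (CommRingCat.of A)) x).asIdeal := by
    intro hr
    have h1 : x ∈ X.basicOpen ((Coh.toGlobal (X ↘ Spec (CommRingCat.of A))) r : Γ(X, ⊤)) := by
      have := X.basicOpen_res ((Coh.toGlobal (X ↘ Spec (CommRingCat.of A))) r : Γ(X, ⊤)) (homOfLE (le_top : U ≤ ⊤)).op
      exact (this.le hb).2
    have h2 : x ∈ (X ↘ Spec (CommRingCat.of A)) ⁻¹ᵁ (Spec (CommRingCat.of A)).basicOpen
        ((Scheme.ΓSpecIso (CommRingCat.of A)).inv r) := by
      rw [Scheme.preimage_basicOpen]; exact h1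
    rw [Scheme.Hom.mem_preimage, basicOpen_eq_of_affine'] at h2
    exact h2 (by simpa using hr)

end Groth.Agent.Pic13Lib.ThickTriv
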