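import Groth.Agent.SeesawX.PnFibre
import Groth.Agent.QCoh.FlatBC
import Groth.Agent.QCoh16.SerreFree
import Groth.Agent.LimModLib.FlatDescent
import Groth.Agent.H23.PicMul
import Groth.Agent.PnCoh.Chow.Proper
import Groth.Agent.SeesawX.Unit
import Groth.Prelude.Def_FGA
import Mathlib.LinearAlgebra.Dimension.Constructions

/-!
# Projective space under an extension of the field
-/

set_option autoImplicit false
set_option linter.style.haveILetI false
set_option linter.unusedSectionVars false
set_option backward.isDefEq.respectTransparency false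
set_option backward.isDefEq.respectTransparency.types false
set_option maxHeartbeats 1000000

universe u

open CategoryTheory CategoryTheory.Limits AlgebraicGeometry TopologicalSpace Opposite
open Groth.Agent.H23 Groth.Agent.H23.PicMul
open scoped TensorProduct

attribute [local instance] PicMul.clMonoid

noncomputable section

namespace Groth.Agent.Pic13Lib

/-- The map of projective spaces along an extension of fields. -/
theorem exists_pn_map (k K : Type u) [Field k] [Field K] [Algebra k K] (n : ℕ) :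
    ∃ φ : CohB1.ProjSpace n K ⟶ CohB1.ProjSpace n k,
      IsPullback φ (CohB1.ProjSpace.toSpec n K) (CohB1.ProjSpace.toSpec n k)
        (Spec.map (CommRingCat.ofHom (algebraMap k K))) ∧
      Nonempty ((Scheme.Modules.pullback φ).obj (Twist.twistProjSpace n k 1) ≅ Twist.twistProjSpace n K 1) := by
  obtain ⟨a, ha, ⟨τ⟩⟩ := SeesawX.PnSpec.exists_iso n k
  obtain ⟨b, hb, ⟨σ⟩⟩ := SeesawX.PnSpec.exists_iso n K
  let g : Spec (CommRingCat.of K) ⟶ Spec (CommRingCat.of k) := Spec.map (CommRingCat.ofHom (algebraMap k K))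
  let ψ := H28.PnBC.ψ (n := n) g
  refine ⟨b.inv ≫ ψ ≫ a.hom, ?_, ?_⟩
  · refine IsPullback.of_iso (SeesawX.PnFibre.isPullback_ψ (n := n) g) b a (Iso.refl _) (Iso.refl _) ?_ ?_ ?_ ?_
    · rw [Iso.hom_inv_id_assoc]
    · rw [Iso.refl_hom, Category.comp_id]; exact hb.symm
    · rw [Iso.refl_hom, Category.comp_id]; exact ha.symm
    · rw [Iso.refl_hom, Iso.refl_hom, Category.comp_id, Category.id_comp]
  · obtain ⟨e⟩ := H28.PnBC.pullback_twistOver (n := n) g 1
    exact ⟨((Scheme.Modules.pullbackComp b.inv (ψ ≫ a.hom)).app _).symm ≪≫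
      (Scheme.Modules.pullback b.inv).mapIso (((Scheme.Modules.pullbackComp ψ a.hom).app _).symm ≪≫
        (Scheme.Modules.pullback ψ).mapIso τ ≪≫ e ≪≫ σ.symm) ≪≫
      (Scheme.Modules.pullbackComp b.inv b.hom).app _ ≪≫ (Scheme.Modules.pullbackCongr b.inv_hom_id).app _ ≪≫
      (Scheme.Modules.pullbackId _).app _⟩

variable {k K : Type u} [Field k] [Field K] [Algebra k K] {n : ℕ} {φ : CohB1.ProjSpace n K ⟶ CohB1.ProjSpace n k}

theorem nonempty_pn_twist (h : Nonempty ((Scheme.Modules.pullback φ).obj (Twist.twistProjSpace n k 1) ≅ Twist.twistProjSpace n K 1))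
    (F : (CohB1.ProjSpace n k).Modules) (r : ℤ) :
    Nonempty ((Scheme.Modules.pullback φ).obj (CohB1.tensorMod F (Twist.twistProjSpace n k r)) ≅
      CohB1.tensorMod ((Scheme.Modules.pullback φ).obj F) (Twist.twistProjSpace n K r)) := by
  refine cl_eq_iff.1 ?_
  have h' : (pullHom φ).comp (SeesawX.PnFibre.twistHom n k) = SeesawX.PnFibre.twistHom n K :=
    MonoidHom.ext_mint (cl_eq_iff.2 h)
  show PicF.pullCl φ (PicF.cl (CohB1.tensorMod F (Twist.twistProjSpace n k r))) = _
  rw [cl_tensor, pullCl_mul, cl_tensor]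
  exact congrArg (PicF.pullCl φ (PicF.cl F) * ·) (DFunLike.congr_fun h' (Multiplicative.ofAdd r))

theorem pn_hh (hsq : IsPullback φ (CohB1.ProjSpace.toSpec n K) (CohB1.ProjSpace.toSpec n k)
      (Spec.map (CommRingCat.ofHom (algebraMap k K)))) {M : (CohB1.ProjSpace n k).Modules} (hM : Coh.IsQCoh M) (i : ℕ) :
    Module.finrank K (Coh.HH (CohB1.ProjSpace n K) ((Scheme.Modules.pullback φ).obj M) i) =
      Module.finrank k (Coh.HH (CohB1.ProjSpace n k) M i) ∧
    (Subsingleton (Coh.HH (CohB1.ProjSpace n K) ((Scheme.Modules.pullback φ).obj M) i) →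
      Subsingleton (Coh.HH (CohB1.ProjSpace n k) M i)) := by
  haveI hp : IsProper (CohB1.ProjSpace.toSpec n k) := PnCoh.Chow.isProper_toSpec n _
  haveI : IsProper ((CohB1.ProjSpace n k) ↘ Spec (CommRingCat.of k)) := hp
  haveI : CompactSpace (CohB1.ProjSpace n k) := AmpleVan.compactSpace_of_proper (A := k)
  haveI : (CohB1.ProjSpace n k).IsSeparated := AmpleVan.isSeparated_of_proper (A := k)
  obtain ⟨E⟩ := QCoh.HH_flatBaseChange (A := k) (B := K) hsq hM i
  refine ⟨E.finrank_eq.symm.trans (Module.finrank_baseChange), fun h => ?_⟩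
  have hT : Subsingleton (K ⊗[k] Coh.HH (CohB1.ProjSpace n k) M i) := @Equiv.subsingleton _ _ E.toEquiv h
  haveI : Module.FaithfullyFlat k K := inferInstance
  exact (Module.FaithfullyFlat.subsingleton_tensorProduct_iff_right k K).1 hT

end Groth.Agent.Pic13Lib
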