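import Groth.Agent.S1026
import Groth.Agent.QCoh.FlatBC
import Groth.Agent.QCoh.Support
import Groth.Agent.FlatG.Hilb
import Groth.Agent.FlatG.ZPoly
import Groth.Agent.H23.PicMul
import Groth.Agent.KFlatLib.Scheme.TensorOver
import Groth.Agent.Snapper.DimVanish
import Groth.Agent.Lib.Euler
import Groth.Agent.AmpleVan.RelVanish
import Groth.Agent.AlgStLib.Noetherian
import Groth.Agent.ZClosLib.CohDescent
import Groth.Prelude.Def_Pic13

/-!
# Euler characteristics are invariant under algebraic and τ-equivalence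
-/

set_option autoImplicit false
set_option linter.style.haveILetI false
set_option linter.unusedSectionVars false
set_option backward.isDefEq.respectTransparency false
set_option backward.isDefEq.respectTransparency.types false

universe u

open CategoryTheory CategoryTheory.Limits AlgebraicGeometry TopologicalSpace Opposite TensorProduct
open scoped Groth.Agent.H23.PicMul

attribute [local instance] HasDerivedCategory.standard

noncomputable section

namespace Groth.Agent.Pic13Lib

open Groth.Agent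

variable {k : Type u} [Field k] {X : Scheme.{u}} [X.Over (Spec (CommRingCat.of k))]
  [IsProper (X ↘ Spec (CommRingCat.of k))]

section Slice

variable {T : Scheme.{u}} (q : T ⟶ Spec (CommRingCat.of k)) (t : Spec (CommRingCat.of k) ⟶ T) (ht : t ≫ q = 𝟙 _)

theorem sliceAt_fst : Pic13.sliceAt k X q t ht ≫ pullback.fst (X ↘ Spec (CommRingCat.of k)) q = 𝟙 X :=
  pullback.lift_fst _ _ _

theorem sliceAt_snd : Pic13.sliceAt k X q t ht ≫ pullback.snd (X ↘ Spec (CommRingCat.of k)) q =
    (X ↘ Spec (CommRingCat.of k)) ≫ t :=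
  pullback.lift_snd _ _ _

/-- The Euler characteristic of the fibre over a rational point is that of the slice. -/
theorem eulerChar_point (G : (Pic13.prodK k X q).Modules) (hG : Coh.IsQCoh G) :
    PerfAux.eulerChar (pullback.snd (X ↘ Spec (CommRingCat.of k)) q) G (t (IsLocalRing.closedPoint k)) =
      Curv2.euler k X (Pic13.fibreMod k X q t ht G) := by
  let f := pullback.snd (X ↘ Spec (CommRingCat.of k)) q
  let s : T := t (IsLocalRing.closedPoint k)
  let K := T.residueField s
  obtain ⟨ψ, hψ⟩ : ∃ ψ : CommRingCat.of K ⟶ CommRingCat.of k, Spec.map ψ ≫ T.fromSpecResidueField s = t :=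
    ⟨_, Scheme.descResidueField_stalkClosedPointTo_fromSpecResidueField k T t⟩
  obtain ⟨φ, hφ⟩ : ∃ φ : CommRingCat.of k ⟶ CommRingCat.of K, Spec.map φ = T.fromSpecResidueField s ≫ q :=
    ⟨Spec.preimage _, Spec.map_preimage _⟩
  have hφψ : φ ≫ ψ = 𝟙 _ := Spec.map_injective (by rw [Spec.map_comp, hφ, reassoc_of% hψ, ht, Spec.map_id])
  have hbij : Function.Bijective φ := by
    refine ⟨φ.hom.injective, fun x => ⟨ψ x, ψ.hom.injective ?_⟩⟩
    exact congr($hφψ (ψ x))
  have hψφ : ψ ≫ φ = 𝟙 _ := CommRingCat.hom_ext (RingHom.ext fun x => ψ.hom.injective (congr($hφψ (ψ x)) :))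
  letI : Algebra k K := φ.hom.toAlgebra
  let g := f.fiberι s ≫ pullback.fst (X ↘ Spec (CommRingCat.of k)) q
  have hsq : IsPullback g (f.fiberToSpecResidueField s) (X ↘ Spec (CommRingCat.of k))
      (Spec.map (CommRingCat.ofHom (algebraMap k K))) := by
    rw [show CommRingCat.ofHom (algebraMap k K) = φ from rfl, hφ]
    exact (IsPullback.of_hasPullback f (T.fromSpecResidueField s)).paste_horiz (IsPullback.of_hasPullback _ _)
  have hgs : g ≫ Pic13.sliceAt k X q t ht = f.fiberι s := by
    refine pullback.hom_ext (by rw [Category.assoc, sliceAt_fst, Category.comp_id]) ?_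
    rw [Category.assoc, sliceAt_snd, reassoc_of% hsq.w,
      show CommRingCat.ofHom (algebraMap k K) = φ from rfl, ← hψ, ← Spec.map_comp_assoc, hψφ, Spec.map_id]
    exact (congrArg (f.fiberToSpecResidueField s ≫ ·) (Category.id_comp _)).trans
      ((IsPullback.of_hasPullback f (T.fromSpecResidueField s)).w).symm
  have hN : Coh.IsQCoh (Pic13.fibreMod k X q t ht G) := QCoh.isQCoh_pullback _ hG
  let e : (Scheme.Modules.pullback g).obj (Pic13.fibreMod k X q t ht G) ≅ (Scheme.Modules.pullback (f.fiberι s)).obj G :=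
    (Scheme.Modules.pullbackComp g _).app G ≪≫ (Scheme.Modules.pullbackCongr hgs).app G
  haveI : CompactSpace X := AmpleVan.compactSpace_of_proper (A := k)
  haveI : QuasiSeparatedSpace X := by
    haveI : X.IsSeparated := ⟨by
      rw [← Limits.terminal.comp_from (X ↘ Spec (CommRingCat.of k))]
      infer_instance⟩
    infer_instance
  letI : (f.fiber s).Over (Spec (CommRingCat.of K)) := ⟨f.fiberToSpecResidueField s⟩
  have hrk : ∀ i, PerfAux.betti f G s i = Module.finrank k (Coh.HH X (Pic13.fibreMod k X q t ht G) i) := fun i => by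
    obtain ⟨E⟩ := QCoh.HH_flatBaseChange (A := k) (B := K) hsq hN i
    show Module.finrank K (Coh.HH (f.fiber s) ((Scheme.Modules.pullback (f.fiberι s)).obj G) i) = _
    rw [← (CurveCohLib.hhEquiv (k := K) e i).finrank_eq]
    exact E.finrank_eq.symm.trans Module.finrank_baseChange
  unfold PerfAux.eulerChar Curv2.euler
  exact finsum_congr fun i => by rw [hrk i]

end Slice

omit [IsProper (X ↘ Spec (CommRingCat.of k))] in
theorem euler_of_cl {A B : X.Modules} (h : PicF.cl A = PicF.cl B) : Curv2.euler k X A = Curv2.euler k X B :=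
  CurveCohLib.euler_congr (H23.PicMul.cl_eq_iff.1 h).some

/-- Euler characteristics of twists by algebraically trivial modules. -/
theorem euler_tensor_of_isAlgEquivZero {L : X.Modules} (hL : Pic13.IsAlgEquivZero k X L) {F : X.Modules}
    (hF : Coh.IsCoh F) : Curv2.euler k X (CohB1.tensorMod F L) = Curv2.euler k X F := by
  obtain ⟨T, q, hconn, hft, hqc, M, hM, t, t₀, ht, ht₀, ⟨e⟩, ⟨e₀⟩⟩ := hL
  haveI := hconn
  haveI := hft
  haveI : IsLocallyNoetherian T := LocallyOfFiniteType.isLocallyNoetherian q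
  haveI : IsLocallyNoetherian X := LocallyOfFiniteType.isLocallyNoetherian (X ↘ Spec (CommRingCat.of k))
  let P := Pic13.prodK k X q
  let p := pullback.fst (X ↘ Spec (CommRingCat.of k)) q
  let f := pullback.snd (X ↘ Spec (CommRingCat.of k)) q
  haveI : IsProper f := MorphismProperty.pullback_snd _ _ inferInstance
  haveI : IsLocallyNoetherian P := LocallyOfFiniteType.isLocallyNoetherian f
  haveI : LocallyOfFinitePresentation (X ↘ Spec (CommRingCat.of k)) :=
    AlgStLib.locallyOfFinitePresentation_of_isLocallyNoetherian _ inferInstance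
  haveI : LocallyOfFinitePresentation f := MorphismProperty.pullback_snd _ _ inferInstance
  let G := CohB1.tensorMod M ((Scheme.Modules.pullback p).obj F)
  have hG : Coh.IsCoh G := AmpleVan.isCoh_tensor (AmpleVan.isCoh_invertible hM) (ZClosLib.isCoh_pullback p hF)
  have hfl : FlatMod.IsFlatOver f G := by
    refine KFlatLib.isFlatOver_tensor _
      (KFlatLib.isFlat_of_isFinLocFree (H23.PullPush.isFinLocFree_of_isInvertible hM)) ?_
    exact FlatBC5.isFlatOver_of_baseChange (IsPullback.of_hasPullback _ q) hF.1 (FlatG.isFlatOver_spec_field _ F)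
  have hlc := S1026.result f G ((QCoh.isCoh_iff_isFP).1 hG) hfl
  haveI : PreconnectedSpace T := inferInstance
  have heq := hlc.apply_eq_of_preconnectedSpace (t (IsLocalRing.closedPoint k)) (t₀ (IsLocalRing.closedPoint k))
  have key : ∀ (t : Spec (CommRingCat.of k) ⟶ T) (ht : t ≫ q = 𝟙 _) {N : X.Modules}
      (_ : Pic13.fibreMod k X q t ht M ≅ N),
      PerfAux.eulerChar f G (t (IsLocalRing.closedPoint k)) = Curv2.euler k X (CohB1.tensorMod F N) := by
    intro t ht N eN
    rw [eulerChar_point q t ht G hG.1]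
    obtain ⟨a⟩ := H23.PicMul.pull (Pic13.sliceAt k X q t ht) M ((Scheme.Modules.pullback p).obj F)
    obtain ⟨b⟩ := H23.PicMul.comm N F
    refine CurveCohLib.euler_congr ((show Pic13.fibreMod k X q t ht G ≅ _ from a) ≪≫ (DCoh.tensorBi.mapIso eN).app _ ≪≫
      (DCoh.tensorBi.obj N).mapIso ((Scheme.Modules.pullbackComp _ p).app F ≪≫
        (Scheme.Modules.pullbackCongr (sliceAt_fst q t ht)).app F ≪≫ (Scheme.Modules.pullbackId _).app F) ≪≫ b)
  rw [key t ht e, key t₀ ht₀ e₀] at heq
  obtain ⟨u⟩ := H23.PicMul.unit F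
  exact heq.trans (CurveCohLib.euler_congr u)

/-- Euler characteristics of twists by τ-trivial modules. -/
theorem euler_tensor_of_isTauEquivZero {L : X.Modules} (hL : PicF.IsInvertible L)
    (hτ : Pic13.IsTauEquivZero k X L) {F : X.Modules} (hF : Coh.IsCoh F) :
    Curv2.euler k X (CohB1.tensorMod F L) = Curv2.euler k X F := by
  obtain ⟨n, hn, halg⟩ := hτ
  haveI : IsNoetherian X := CurveCohLib.isNoetherian_of_proper (k := k)
  obtain ⟨d, hd⟩ := HilbPoly.exists_dim_bound X k
  obtain ⟨P, hP, -, -⟩ := HilbPoly.exists_poly (HilbPoly.additive_euler k) hL hF (hd _)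
  have hper : ∀ j : ℕ, P.eval ((j + n : ℕ) : ℚ) = P.eval (j : ℚ) := fun j => by
    rw [← hP, ← hP]
    refine congrArg Int.cast ?_
    refine Eq.trans (euler_of_cl ?_) (euler_tensor_of_isAlgEquivZero halg
      (AmpleVan.isCoh_tensor hF (AmpleVan.isCoh_invertible (H23.PicMul.isInvertible_tensorPow hL j))))
    simp only [HilbPoly.pw, H23.PicMul.cl_tensor, H23.PicMul.cl_tensorPow]
    rw [pow_add, mul_assoc]
  have hmul : ∀ j : ℕ, P.eval ((n * j : ℕ) : ℚ) = P.eval (0 : ℚ) := fun j => by
    induction j with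
    | zero => simp
    | succ j ih => rw [Nat.mul_succ, hper, ih]
  have hconst : P = Polynomial.C (P.eval 0) := by
    refine Polynomial.eq_of_infinite_eval_eq _ _ (Set.Infinite.mono ?_
      (Set.infinite_range_of_injective (f := fun j : ℕ => ((n * j : ℕ) : ℚ)) fun a b h => ?_))
    · rintro _ ⟨j, rfl⟩
      simp only [Set.mem_setOf_eq, Polynomial.eval_C]
      exact hmul j
    · exact Nat.eq_of_mul_eq_mul_left hn (Nat.cast_injective h)
  have h1 : (Curv2.euler k X (HilbPoly.pw L F 1) : ℚ) = (Curv2.euler k X (HilbPoly.pw L F 0) : ℚ) := by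
    rw [hP, hP, hconst, Polynomial.eval_C, Polynomial.eval_C]
  refine ((euler_of_cl ?_).trans (Int.cast_injective h1)).trans (euler_of_cl ?_)
  · simp only [HilbPoly.pw, H23.PicMul.cl_tensor, H23.PicMul.cl_tensorPow, pow_one]
  · simp only [HilbPoly.pw, H23.PicMul.cl_tensor, H23.PicMul.cl_tensorPow, pow_zero, mul_one]

/-- Euler characteristics in bounded degrees. -/
theorem eulerCharLE_eq {d : ℕ} (hd : topologicalKrullDim X ≤ d) {M : X.Modules} (hM : Coh.IsQCoh M) :
    FGA.eulerCharLE k X M d = Curv2.euler k X M := by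
  haveI := CurveCohLib.isNoetherian_of_proper (k := k) (X := X)
  haveI : X.IsSeparated := ⟨by
    rw [← Limits.terminal.comp_from (X ↘ Spec (CommRingCat.of k))]
    infer_instance⟩
  exact (Euler.euler_eq_sum k _ (d + 1) fun i hi =>
    Snapper.subsingleton_HH_of_dim_le hd hM (by omega)).symm

end Groth.Agent.Pic13Lib

namespace Groth.Agent.Pic13Lib

open Groth.Agent

/-- Algebraic equivalence to zero is preserved by inverse images. -/
theorem isAlgEquivZero_pullback {k : Type u} [Field k] {X Y : Scheme.{u}} [X.Over (Spec (CommRingCat.of k))]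
    [Y.Over (Spec (CommRingCat.of k))] (i : Y ⟶ X)
    (hi : i ≫ (X ↘ Spec (CommRingCat.of k)) = Y ↘ Spec (CommRingCat.of k)) {L : X.Modules}
    (hL : Pic13.IsAlgEquivZero k X L) : Pic13.IsAlgEquivZero k Y ((Scheme.Modules.pullback i).obj L) := by
  obtain ⟨T, q, hconn, hft, hqc, M, hM, t, t₀, ht, ht₀, ⟨e⟩, ⟨e₀⟩⟩ := hL
  let j : Pic13.prodK k Y q ⟶ Pic13.prodK k X q :=
    pullback.map _ _ _ _ i (𝟙 T) (𝟙 _) (by rw [Category.comp_id, hi]) (by rw [Category.comp_id, Category.id_comp])
  refine ⟨T, q, hconn, hft, hqc, (Scheme.Modules.pullback j).obj M, PicClLib.isInvertible_pullback j hM, t, t₀, ht, ht₀, ?_, ?_⟩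
  all_goals
    have key : ∀ (t : Spec (CommRingCat.of k) ⟶ T) (ht : t ≫ q = 𝟙 _),
        Pic13.sliceAt k Y q t ht ≫ j = i ≫ Pic13.sliceAt k X q t ht := fun t ht => by
      refine pullback.hom_ext ?_ ?_
      · simp [j, Pic13.sliceAt]
        exact Category.id_comp i
      · simp [j, Pic13.sliceAt, reassoc_of% hi]
  · exact ⟨(Scheme.Modules.pullbackComp _ j).app M ≪≫ (Scheme.Modules.pullbackCongr (key t ht)).app M ≪≫
      ((Scheme.Modules.pullbackComp i _).app M).symm ≪≫ (Scheme.Modules.pullback i).mapIso e⟩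
  · exact ⟨(Scheme.Modules.pullbackComp _ j).app M ≪≫ (Scheme.Modules.pullbackCongr (key t₀ ht₀)).app M ≪≫
      ((Scheme.Modules.pullbackComp i _).app M).symm ≪≫ (Scheme.Modules.pullback i).mapIso e₀ ≪≫
      (PicClLib.nonempty_pullback_structureModule i).some⟩

/-- τ-equivalence to zero is preserved by inverse images. -/
theorem isTauEquivZero_pullback {k : Type u} [Field k] {X Y : Scheme.{u}} [X.Over (Spec (CommRingCat.of k))]
    [Y.Over (Spec (CommRingCat.of k))] (i : Y ⟶ X)
    (hi : i ≫ (X ↘ Spec (CommRingCat.of k)) = Y ↘ Spec (CommRingCat.of k)) {L : X.Modules}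
    (hL : Pic13.IsTauEquivZero k X L) : Pic13.IsTauEquivZero k Y ((Scheme.Modules.pullback i).obj L) := by
  obtain ⟨n, hn, h⟩ := hL
  refine ⟨n, hn, ?_⟩
  obtain ⟨T, q, hconn, hft, hqc, M, hM, t, t₀, ht, ht₀, ⟨e⟩, h₀⟩ := isAlgEquivZero_pullback i hi h
  obtain ⟨a⟩ := AmpleVan.RelVanish.pullback_tensorPow i L n
  exact ⟨T, q, hconn, hft, hqc, M, hM, t, t₀, ht, ht₀, ⟨e ≪≫ a⟩, h₀⟩

end Groth.Agent.Pic13Lib
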