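import Groth.Agent.Lib.IntNumEquiv
import Groth.Agent.Lib.IntPush
import Groth.Agent.Lib.TopInt
import Groth.Agent.H23.SheafPush
import Groth.Agent.Nakai.Main
import Groth.Agent.Pic13Lib.AlgEqEuler
import Groth.Agent.DimFormula.QuasiSection
import Groth.Agent.CycLib.Finite
import Groth.Prelude.Def_Pic13

/-!
# Intersection numbers, degrees on curves and numerical equivalence
-/

set_option autoImplicit false
set_option linter.style.haveILetI false
set_option linter.unusedSectionVars false
set_option backward.isDefEq.respectTransparency false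
set_option backward.isDefEq.respectTransparency.types false
set_option maxHeartbeats 1000000

universe u

open CategoryTheory CategoryTheory.Limits AlgebraicGeometry TopologicalSpace
open Groth.Agent.H23 Groth.Agent.H23.PicMul
open Groth.Agent.H23.IntNumCycle (alt)

noncomputable section

namespace Groth.Agent.Pic13Lib

attribute [local instance] PicMul.clMonoid

variable {k : Type u} [Field k] {X : Scheme.{u}} [X.Over (Spec (CommRingCat.of k))]
  [IsProper (X ↘ Spec (CommRingCat.of k))]

/-- Euler characteristics along closed immersions. -/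
theorem euler_push {Y : Scheme.{u}} [Y.Over (Spec (CommRingCat.of k))] (i : Y ⟶ X) [IsAffineHom i]
    (hi : i ≫ (X ↘ Spec (CommRingCat.of k)) = Y ↘ Spec (CommRingCat.of k))
    {N : Y.Modules} (hN : Coh.IsQCoh N) : Curv2.euler k X ((Coh.push i).obj N) = Curv2.euler k Y N := by
  refine finsum_congr fun n => ?_
  obtain ⟨a⟩ := PnCoh.exists_linearEquiv_push k i hi hN n
  rw [a.finrank_eq]

theorem cohLe_pred_of_dim_lt {F : X.Modules} (hF : Coh.IsCoh F) {r : ℕ}
    (hr : topologicalKrullDim ↥(CohB1.support F) < r) : Cyc.CohLe (SnapLead.δ k) ((r : ℤ) - 1) F := by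
  cases r with
  | zero =>
    refine ⟨hF, fun x hx => absurd hr ?_⟩
    haveI : Nonempty (IrreducibleCloseds ↥(CohB1.support F)) :=
      ⟨⟨closure {⟨x, not_subsingleton_iff_nontrivial.2 hx⟩}, isIrreducible_singleton.closure, isClosed_closure⟩⟩
    rw [not_lt]
    exact_mod_cast Order.krullDim_nonneg
  | succ r =>
    have h : Cyc.CohLe (SnapLead.δ k) r F := SnapLead.cohLe_of_dim k hF (by
      revert hr
      generalize topologicalKrullDim ↥(CohB1.support F) = a
      intro hr
      cases a with
      | bot => exact bot_le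
      | coe a =>
        cases a with
        | top => simp at hr
        | coe a => exact_mod_cast Nat.lt_succ_iff.1 (by exact_mod_cast hr))
    exact ⟨h.1, fun x hx => by have := h.2 x hx; push_cast; omega⟩

section Curve

variable {Y : Scheme.{u}} (ι : Y ⟶ X) [IsClosedImmersion ι]

theorem euler_push_tensor (M : X.Modules) (hM : PicF.IsInvertible M) :
    letI : Y.Over (Spec (CommRingCat.of k)) := ⟨ι ≫ (X ↘ Spec (CommRingCat.of k))⟩
    Curv2.euler k X (CohB1.tensorMod ((Coh.push ι).obj (Coh.structureModule Y)) M) =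
      Curv2.euler k Y ((Scheme.Modules.pullback ι).obj M) := by
  letI : Y.Over (Spec (CommRingCat.of k)) := ⟨ι ≫ (X ↘ Spec (CommRingCat.of k))⟩
  haveI := CurveCohLib.isNoetherian_of_proper (k := k) (X := X)
  haveI : IsLocallyNoetherian Y := LocallyOfFiniteType.isLocallyNoetherian ι
  obtain ⟨e₂⟩ := AmpleVan.FiniteSurj.nonempty_push_twist ι (Coh.structureModule Y) hM
  let e₄ := CurveTensor.structureTensorIso ((Scheme.Modules.pullback ι).obj M)
  exact (CurveCohLib.euler_congr (k := k) (e₂ ≪≫ (Coh.push ι).mapIso e₄)).trans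
    (euler_push ι rfl (AmpleVan.isCoh_invertible (PicClLib.isInvertible_pullback ι hM)).1)

/-- The degree of a curve through Euler characteristics on the ambient scheme. -/
theorem curveDeg_eq (hdim : topologicalKrullDim Y = 1) (M : X.Modules) (hM : PicF.IsInvertible M) :
    Pic13.curveDeg k (ι ≫ (X ↘ Spec (CommRingCat.of k))) ((Scheme.Modules.pullback ι).obj M) =
      Curv2.euler k X (CohB1.tensorMod ((Coh.push ι).obj (Coh.structureModule Y)) M) -
        Curv2.euler k X ((Coh.push ι).obj (Coh.structureModule Y)) := by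
  letI : Y.Over (Spec (CommRingCat.of k)) := ⟨ι ≫ (X ↘ Spec (CommRingCat.of k))⟩
  haveI : IsProper (Y ↘ Spec (CommRingCat.of k)) :=
    show IsProper (ι ≫ (X ↘ Spec (CommRingCat.of k))) from inferInstance
  haveI := CurveCohLib.isNoetherian_of_proper (k := k) (X := X)
  haveI : IsLocallyNoetherian Y := LocallyOfFiniteType.isLocallyNoetherian ι
  have hd : topologicalKrullDim Y ≤ ((1 : ℕ) : WithBot ℕ∞) := by rw [hdim, Nat.cast_one]
  have hO : Coh.IsCoh (Coh.structureModule Y) := QCoh.isCoh_structureModule'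
  unfold Pic13.curveDeg
  rw [euler_push_tensor ι M hM, euler_push ι rfl hO.1,
    ← eulerCharLE_eq hd (AmpleVan.isCoh_invertible (PicClLib.isInvertible_pullback ι hM)).1,
    ← eulerCharLE_eq hd hO.1]

variable [IsIntegral Y]

/-- An integral closed subscheme is the closure of its generic point. -/
theorem nonempty_closure_iso :
    Nonempty (Cyc.closureStructureSheaf (ι (genericPoint Y)) ≅ (Coh.push ι).obj (Coh.structureModule Y)) := by
  haveI : IsReduced ι.image := (S2266.result ι).1
  haveI : IsReduced ι.ker.subscheme := ‹IsReduced ι.image›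
  have hker : ι.ker = IntMult.ptIdeal (ι (genericPoint Y)) := by
    rw [IntMult.ptIdeal, AlgSpLib.CartierRegular.eq_vanishingIdeal_support ι.ker]
    congr 1
    refine Closeds.ext ?_
    rw [Scheme.Hom.support_ker]
    show closure (Set.range ι) = closure ({ι (genericPoint Y)} : Set X)
    refine Set.Subset.antisymm (closure_minimal ?_ isClosed_closure)
      (closure_mono (Set.singleton_subset_iff.2 ⟨genericPoint Y, rfl⟩))
    rintro _ ⟨c, rfl⟩
    exact specializes_iff_mem_closure.1 ((genericPoint_specializes c).map ι.continuous)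
  obtain ⟨e⟩ := DivisorExt.nonempty_quotMod_iso ι
  obtain ⟨e'⟩ := IntAlt.nonempty_quot_ptIdeal (ι (genericPoint Y))
  rw [hker] at e
  exact ⟨e'.symm ≪≫ e⟩

theorem delta_generic_eq (d : ℕ) (hdim : topologicalKrullDim Y = d) :
    SnapLead.δ k (ι (genericPoint Y)) = (d : ℤ) := by
  refine (IntAlt.delta_eq_iff k _ d).1 ?_
  have hcl : closure ({ι (genericPoint Y)} : Set X) = Set.range ι := by
    refine Set.Subset.antisymm (closure_minimal (Set.singleton_subset_iff.2 ⟨_, rfl⟩)
      ι.isClosedEmbedding.isClosed_range) ?_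
    rintro _ ⟨c, rfl⟩
    exact specializes_iff_mem_closure.1 ((genericPoint_specializes c).map ι.continuous)
  rw [hcl, ← hdim]
  exact (IsHomeomorph.topologicalKrullDim_eq _ (ι.isClosedEmbedding.isEmbedding.toHomeomorph.isHomeomorph)).symm

/-- Numerically equivalent modules have the same degree on every integral curve. -/
theorem curveDeg_eq_of_numEq (hdim : topologicalKrullDim Y = 1) {M M' : X.Modules}
    (hM : PicF.IsInvertible M) (hM' : PicF.IsInvertible M') (h : IntAlt.NumEq k M M') :
    Pic13.curveDeg k (ι ≫ (X ↘ Spec (CommRingCat.of k))) ((Scheme.Modules.pullback ι).obj M) =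
      Pic13.curveDeg k (ι ≫ (X ↘ Spec (CommRingCat.of k))) ((Scheme.Modules.pullback ι).obj M') := by
  obtain ⟨e⟩ := nonempty_closure_iso ι
  have h1 := h (ι (genericPoint Y)) (by simpa using delta_generic_eq ι 1 (by rw [hdim]; rfl))
  rw [CurveCohLib.euler_congr (k := k) (PicGrp.tensorModIso e (Iso.refl M)),
    CurveCohLib.euler_congr (k := k) (PicGrp.tensorModIso e (Iso.refl M'))] at h1
  rw [curveDeg_eq ι hdim M hM, curveDeg_eq ι hdim M' hM', h1]

end Curve

/-- Same degree on every integral curve gives numerical equivalence. -/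
theorem numEq_of_curveDeg {M M' : X.Modules} (hM : PicF.IsInvertible M) (hM' : PicF.IsInvertible M')
    (h : ∀ (Y : Scheme.{u}) (ι : Y ⟶ X) [IsClosedImmersion ι], IsIntegral Y → topologicalKrullDim Y = 1 →
      Pic13.curveDeg k (ι ≫ (X ↘ Spec (CommRingCat.of k))) ((Scheme.Modules.pullback ι).obj M) =
        Pic13.curveDeg k (ι ≫ (X ↘ Spec (CommRingCat.of k))) ((Scheme.Modules.pullback ι).obj M')) :
    IntAlt.NumEq k M M' := by
  intro ξ hξ
  haveI : IsIntegral (IntMult.ptIdeal ξ).subscheme := QCoh.isIntegral_closure_point ξ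
  let ι := (IntMult.ptIdeal ξ).subschemeι
  have hdim : topologicalKrullDim (IntMult.ptIdeal ξ).subscheme = 1 := by
    have h1 : topologicalKrullDim ↥((IntMult.ptIdeal ξ).support : Set X) = 1 := by
      rw [IntMult.ptIdeal, Scheme.IdealSheafData.coe_support_vanishingIdeal]
      exact_mod_cast (IntAlt.delta_eq_iff k ξ 1).2 (by exact_mod_cast hξ)
    rw [← h1]
    refine (IsHomeomorph.topologicalKrullDim_eq _
      (ι.isClosedEmbedding.isEmbedding.toHomeomorph.isHomeomorph)).trans ?_
    rw [Scheme.IdealSheafData.range_subschemeι]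
  have h2 := h _ ι inferInstance hdim
  rw [curveDeg_eq ι hdim M hM, curveDeg_eq ι hdim M' hM', sub_left_inj] at h2
  exact h2

theorem curveDeg_structure {Y : Scheme.{u}} (ι : Y ⟶ X) :
    Pic13.curveDeg k (ι ≫ (X ↘ Spec (CommRingCat.of k))) ((Scheme.Modules.pullback ι).obj (Coh.structureModule X)) = 0 := by
  letI : Y.Over (Spec (CommRingCat.of k)) := ⟨ι ≫ (X ↘ Spec (CommRingCat.of k))⟩
  obtain ⟨e⟩ := cl_eq_iff.1 (show PicF.cl ((Scheme.Modules.pullback ι).obj (Coh.structureModule X)) =
      PicF.cl (Coh.structureModule Y) by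
    rw [← PicMul.one_def]
    show PicF.pullCl ι (PicF.cl (Coh.structureModule X)) = _
    rw [← PicMul.one_def, PicMul.pullCl_one])
  unfold Pic13.curveDeg FGA.eulerCharLE
  rw [sub_eq_zero]
  refine Finset.sum_congr rfl fun n _ => ?_
  rw [(CurveCohLib.hhEquiv (k := k) e n).finrank_eq]

/-- Numerical triviality is numerical equivalence with the structure sheaf. -/
theorem numEq_structure {L : X.Modules} (hL : PicF.IsInvertible L) (h : Pic13.IsNumEquivZero k X L) :
    IntAlt.NumEq k L (Coh.structureModule X) :=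
  numEq_of_curveDeg hL InvX.isInvertible_structureModule fun Y ι _ hY hd => by
    rw [h Y ι hY hd, curveDeg_structure ι]

theorem isNumEquivZero_of_numEq {L : X.Modules} (hL : PicF.IsInvertible L)
    (h : IntAlt.NumEq k L (Coh.structureModule X)) : Pic13.IsNumEquivZero k X L := by
  intro Y ι _ hY hd
  haveI := hY
  rw [curveDeg_eq_of_numEq ι hd hL InvX.isInvertible_structureModule h, curveDeg_structure ι]

section Map

variable {X' : Scheme.{u}} [X'.Over (Spec (CommRingCat.of k))] [IsProper (X' ↘ Spec (CommRingCat.of k))]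

omit [X.Over (Spec (CommRingCat.of k))] [IsProper (X ↘ Spec (CommRingCat.of k))] [X'.Over (Spec (CommRingCat.of k))]
  [IsProper (X' ↘ Spec (CommRingCat.of k))] in
theorem support_push_subset (g : X' ⟶ X) [IsProper g] {F : X'.Modules} (hF : Coh.IsCoh F) :
    CohB1.support ((Coh.push g).obj F) ⊆ g '' CohB1.support F := by
  intro y hy
  by_contra hyn
  have hcl : IsClosed (g '' CohB1.support F) :=
    g.isClosedMap _ (QCoh.isClosed_support_of_isFT hF.1 hF.2)
  refine hy ⟨fun a b => ?_⟩
  suffices h : ∀ a, a = (0 : ((Coh.push g).obj F).presheaf.stalk y) from (h a).trans (h b).symm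
  intro a
  obtain ⟨U, hyU, s, rfl⟩ := TopCat.Presheaf.exists_germ_eq ((Coh.push g).obj F).presheaf a
  let V : X.Opens := U ⊓ ⟨_, hcl.isOpen_compl⟩
  have hyV : y ∈ V := ⟨hyU, hyn⟩
  rw [← ((Coh.push g).obj F).presheaf.germ_res_apply (homOfLE (inf_le_left : V ≤ U)) y hyV]
  have hz : ((Coh.push g).obj F).presheaf.map (homOfLE (inf_le_left : V ≤ U)).op s = 0 := by
    refine TopCat.Presheaf.section_ext ⟨F.presheaf, F.isSheaf⟩ (g ⁻¹ᵁ V) _ _ fun x hx => ?_
    haveI : Subsingleton (F.presheaf.stalk x) := by
      by_contra h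
      exact hx.2 ⟨x, h, rfl⟩
    exact Subsingleton.elim (α := (F.presheaf.stalk x)) _ _
  rw [hz]
  exact map_zero _

/-- Numerical equivalence is stable under pullback. -/
theorem numEq_pullback (g : X' ⟶ X) (hg : g ≫ (X ↘ Spec (CommRingCat.of k)) = X' ↘ Spec (CommRingCat.of k))
    {L N : X.Modules} (hL : PicF.IsInvertible L) (hN : PicF.IsInvertible N) (h : IntAlt.NumEq k L N) :
    IntAlt.NumEq k ((Scheme.Modules.pullback g).obj L) ((Scheme.Modules.pullback g).obj N) := by
  haveI := CurveCohLib.isNoetherian_of_proper (k := k) (X := X)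
  haveI := CurveCohLib.isNoetherian_of_proper (k := k) (X := X')
  haveI := IntPush.isProper k g hg
  intro ξ hξ
  have hF : Cyc.CohLe (SnapLead.δ k) ((1 : ℕ) : ℤ) (Cyc.closureStructureSheaf ξ) :=
    SnapLead.cohLe_closure k (by simpa using hξ)
  obtain ⟨a, ha⟩ := IntNumCycle.main.exists_cycle (SnapLead.isDimFun k) hF
  have hmap := SheafPush.map_sheafFun (SnapLead.isDimFun k) (SnapLead.isDimFun k) g (IntPush.deltaCompat k g hg)
    _ _ hF.1 hF.2 a ha
  have hfin : (Function.support (AlgebraicCycle.map g (SnapLead.δ k) (SnapLead.δ k) a)).Finite := by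
    rw [hmap]
    exact IntAlt.finite_sheafFun k (cohLe_push g hg hF)
  have hs : ∀ η ∈ hfin.toFinset, SnapLead.δ k η = ((1 : ℕ) : ℤ) := fun η hη => by
    have h' := hfin.mem_toFinset.1 hη
    rw [hmap] at h'
    by_contra hne
    exact h' (by simp only [Cyc.sheafFun, if_neg hne])
  have key : ∀ M : X.Modules, PicF.IsInvertible M →
      Curv2.euler k X' (Cyc.closureStructureSheaf ξ) -
        Curv2.euler k X' (CohB1.tensorMod (Cyc.closureStructureSheaf ξ) ((Scheme.Modules.pullback g).obj M)) =
      ∑ η ∈ hfin.toFinset, AlgebraicCycle.map g (SnapLead.δ k) (SnapLead.δ k) a η *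
        (Curv2.euler k X (Cyc.closureStructureSheaf η) -
          Curv2.euler k X (CohB1.tensorMod (Cyc.closureStructureSheaf η) M)) := fun M hM => by
    have h' := IntPush.alt_pullback k g hg (L := fun _ : Fin 1 => M) (fun _ => hM) hF a ha hfin.toFinset hs
      fun η hη => hfin.mem_toFinset.2 hη
    simp only [IntAlt.alt_one] at h'
    exact h'
  have h1 := key L hL
  rw [Finset.sum_congr rfl fun η hη => by rw [h η (by simpa using hs η hη)], ← key N hN] at h1
  exact sub_right_inj.1 h1
where
  cohLe_push (g : X' ⟶ X) [IsProper g] (hg : g ≫ (X ↘ Spec (CommRingCat.of k)) = X' ↘ Spec (CommRingCat.of k))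
      {F : X'.Modules} {r : ℤ} (hF : Cyc.CohLe (SnapLead.δ k) r F) :
      Cyc.CohLe (SnapLead.δ k) r ((Coh.push g).obj F) := by
    haveI := CurveCohLib.isNoetherian_of_proper (k := k) (X := X)
    refine ⟨ExistEasy.isCoh_pushforward_proper g hF.1, fun y hy => ?_⟩
    obtain ⟨x, hx, rfl⟩ := support_push_subset g hF.1 (not_subsingleton_iff_nontrivial.2 hy)
    have h2 := CycLib.deltaCompat_eq g (IntPush.deltaCompat k g hg) x
    have h3 := hF.2 x (not_subsingleton_iff_nontrivial.1 hx)
    omega

/-- Numerical equivalence descends along surjective morphisms. -/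
theorem numEq_of_pullback (g : X' ⟶ X) (hg : g ≫ (X ↘ Spec (CommRingCat.of k)) = X' ↘ Spec (CommRingCat.of k))
    [Surjective g] {L N : X.Modules} (hL : PicF.IsInvertible L) (hN : PicF.IsInvertible N)
    (h : IntAlt.NumEq k ((Scheme.Modules.pullback g).obj L) ((Scheme.Modules.pullback g).obj N)) :
    IntAlt.NumEq k L N := by
  classical
  haveI := CurveCohLib.isNoetherian_of_proper (k := k) (X := X)
  haveI := CurveCohLib.isNoetherian_of_proper (k := k) (X := X')
  haveI := IntPush.isProper k g hg
  intro ξ hξ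
  haveI : CompactSpace ↥(g ⁻¹' {ξ}) := isCompact_iff_compactSpace.1 (g.isCompact_preimage_singleton ξ)
  haveI : CompactSpace ↥(g.fiber ξ) := (g.fiberHomeo ξ).symm.compactSpace
  obtain ⟨x₀, hx₀⟩ := Surjective.surj (f := g) ξ
  haveI : Nonempty ↥(g.fiber ξ) := ⟨(g.fiberHomeo ξ).symm ⟨x₀, hx₀⟩⟩
  obtain ⟨z, -, hz⟩ := IsClosed.exists_closed_singleton (S := (Set.univ : Set ↥(g.fiber ξ)))
    isClosed_univ Set.univ_nonempty
  let η := g.fiberι ξ z
  have hgη : g η = ξ := FibDim.fiber_apply_fiberι g z
  have hrd : FibDim.rd g η = 0 := DimFormula.rd_eq_zero_of_closed g fun x' hx' hsp => by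
    rw [hgη] at hx'
    obtain ⟨w, rfl⟩ : x' ∈ Set.range (g.fiberι ξ) := by rw [g.range_fiberι]; exact hx'
    have hw : z ⤳ w := (g.fiberι ξ).isEmbedding.isInducing.specializes_iff.1 hsp
    have hwz : w = z := hw.mem_closed hz (Set.mem_singleton z)
    rw [hwz]
  have hδ : SnapLead.δ k η = 1 := by
    have := CycLib.deltaCompat_eq g (IntPush.deltaCompat k g hg) η
    rw [hrd, hgη, hξ] at this
    simpa using this
  have hF : Cyc.CohLe (SnapLead.δ k) ((1 : ℕ) : ℤ) (Cyc.closureStructureSheaf η) :=
    SnapLead.cohLe_closure k (by simpa using hδ)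
  obtain ⟨a, ha⟩ := IntNumCycle.main.exists_cycle (SnapLead.isDimFun k) hF
  have haη : ∀ x, a x = if x = η then 1 else 0 := fun x => by
    rw [ha, SnapLead.sheafFun_closure k (by simpa using hδ)]
  let c : ℤ := (AlgebraicCycle.mapCoeff g (SnapLead.δ k) (SnapLead.δ k) η : ℤ)
  have hmap : ∀ x, AlgebraicCycle.map g (SnapLead.δ k) (SnapLead.δ k) a x = if x = ξ then c else 0 := fun x => by
    rw [CycLib.map_apply']
    split_ifs with hx
    · rw [finsum_mem_eq_sum_of_inter_support_eq (t := {η}) _ ?_, Finset.sum_singleton, haη, if_pos rfl, one_mul]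
      ext y
      simp only [Set.mem_inter_iff, Set.mem_preimage, Set.mem_singleton_iff, Function.mem_support,
        Finset.coe_singleton]
      refine ⟨fun h => ⟨?_, h.2⟩, fun h => ⟨?_, h.2⟩⟩
      · by_contra hne
        exact h.2 (by rw [haη, if_neg hne, zero_mul])
      · rw [h.1, hx, hgη]
    · refine finsum_mem_eq_zero_of_forall_eq_zero fun y hy => ?_
      rw [haη, if_neg, zero_mul]
      rintro rfl
      exact hx (hy.symm.trans hgη)
  have key : ∀ M : X.Modules, PicF.IsInvertible M →
      Curv2.euler k X' (Cyc.closureStructureSheaf η) -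
        Curv2.euler k X' (CohB1.tensorMod (Cyc.closureStructureSheaf η) ((Scheme.Modules.pullback g).obj M)) =
      c * (Curv2.euler k X (Cyc.closureStructureSheaf ξ) -
          Curv2.euler k X (CohB1.tensorMod (Cyc.closureStructureSheaf ξ) M)) := fun M hM => by
    have h' := IntPush.alt_pullback k g hg (L := fun _ : Fin 1 => M) (fun _ => hM) hF a ha {ξ}
      (fun x hx => by rw [Finset.mem_singleton.1 hx]; simpa using hξ)
      (fun x hx => by
        rw [hmap] at hx
        exact Finset.mem_singleton.2 (by_contra fun hne => hx (if_neg hne)))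
    rw [Finset.sum_singleton, hmap, if_pos rfl] at h'
    simp only [IntAlt.alt_one] at h'
    exact h'
  have hc : c ≠ 0 := by
    have hfin := CycLib.finite_residueFieldMap_of_rd_eq_zero g η hrd
    letI := (g.residueFieldMap η).hom.toAlgebra
    haveI : Module.Finite (X.residueField (g η)) (X'.residueField η) := hfin
    have hpos : 0 < g.residueDegree η := Module.finrank_pos
    simp only [c, AlgebraicCycle.mapCoeff]
    rw [if_pos (by rw [hδ]; exact (hgη.symm ▸ hξ).symm)]
    exact_mod_cast hpos.ne'
  have h1 := key L hL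
  rw [h η hδ, key N hN] at h1
  have h2 := mul_left_cancel₀ hc h1
  linarith

end Map

end Groth.Agent.Pic13Lib
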