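import Groth.Agent.Pic13Lib.SectBound
import Groth.Agent.S12112
import Groth.Agent.Lib.TopInt

/-!
# Euler characteristics and regularity are uniform in numerically trivial twists
-/

set_option autoImplicit false
set_option linter.style.haveILetI false
set_option linter.unusedSectionVars false
set_option backward.isDefEq.respectTransparency false
set_option backward.isDefEq.respectTransparency.types false
set_option maxHeartbeats 1000000

universe u

open CategoryTheory CategoryTheory.Limits AlgebraicGeometry TopologicalSpace Opposite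
open Groth.Agent.H23 Groth.Agent.H23.PicMul

attribute [local instance] PicMul.clMonoid

noncomputable section

namespace Groth.Agent.Pic13Lib.NumTriv

variable {k : Type u} [Field k] {X : Scheme.{u}} [X.Over (Spec (CommRingCat.of k))]
  [IsProper (X ↘ Spec (CommRingCat.of k))]

/-- The change of the Euler characteristic under a twist. -/
def phi (k : Type u) [Field k] [X.Over (Spec (CommRingCat.of k))] (c : PicF.Cl X) (F : X.Modules) : ℤ :=
  SurfPairing.χ k (PicF.cl F * c) - SurfPairing.χ k (PicF.cl F)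

theorem chi_add {S : ShortComplex X.Modules} (hS : S.ShortExact) (h1 : Coh.IsCoh S.X₁) (h2 : Coh.IsCoh S.X₂)
    (h3 : Coh.IsCoh S.X₃) : SurfPairing.χ k (PicF.cl S.X₂) = SurfPairing.χ k (PicF.cl S.X₁) + SurfPairing.χ k (PicF.cl S.X₃) :=
  Euler.euler_add k hS h1 h2 h3

theorem phi_add {A : X.Modules} (hA : PicF.IsInvertible A) {S : ShortComplex X.Modules} (hS : S.ShortExact)
    (h1 : Coh.IsCoh S.X₁) (h2 : Coh.IsCoh S.X₂) (h3 : Coh.IsCoh S.X₃) :
    phi k (PicF.cl A) S.X₂ = phi k (PicF.cl A) S.X₁ + phi k (PicF.cl A) S.X₃ := by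
  haveI := CurveCohLib.isNoetherian_of_proper (k := k) (X := X)
  obtain ⟨S', hS', d1, d2, d3, e1, e2, e3⟩ := exists_ses_ten hA hS h1 h2 h3 rfl rfl rfl
  simp only [phi]
  rw [← e1, ← e2, ← e3, chi_add hS' d1 d2 d3, chi_add hS h1 h2 h3]
  ring

/-- Invariance in lower dimension makes the change blind to invertible twists. -/
theorem phi_twist {A P : X.Modules} (hA : PicF.IsInvertible A) (hP : PicF.IsInvertible P) (d : ℕ)
    (hlow : ∀ M, Cyc.CohLe (SnapLead.δ k) ((d : ℤ) - 1) M → phi k (PicF.cl A) M = 0)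
    {F : X.Modules} (hF : Cyc.CohLe (SnapLead.δ k) d F) {M : X.Modules} (hM : PicF.cl M = PicF.cl F * PicF.cl P) :
    phi k (PicF.cl A) M = phi k (PicF.cl A) F := by
  haveI := CurveCohLib.isNoetherian_of_proper (k := k) (X := X)
  have hM' : phi k (PicF.cl A) M = phi k (PicF.cl A) ((K0TensorInv.ten P).obj F) := by
    rw [phi, phi, hM, cl_ten]
  have hfin := IntAlt.finite_sheafFun k hF
  have hs : ∀ ξ ∈ hfin.toFinset, SnapLead.δ k ξ = (d : ℤ) := fun ξ hξ => by
    have h := hfin.mem_toFinset.1 hξ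
    by_contra hne
    exact h (by simp only [Cyc.sheafFun, if_neg hne])
  have hfun : Cyc.sheafFun (SnapLead.δ k) d ((K0TensorInv.ten P).obj F) = Cyc.sheafFun (SnapLead.δ k) d F :=
    K0TensorInv.sheafFun_ten hP _ _ F
  rw [hM', IntAlt.eq_sum k (phi k (PicF.cl A)) d (fun S hS a b c => phi_add hA hS a.1 b.1 c.1) hlow hF hfin.toFinset hs
      fun ξ h => hfin.mem_toFinset.2 h,
    IntAlt.eq_sum k (phi k (PicF.cl A)) d (fun S hS a b c => phi_add hA hS a.1 b.1 c.1) hlow
      (K0TensorInv.cohLe_ten hP hF) hfin.toFinset hs fun ξ h => hfin.mem_toFinset.2 (by rwa [hfun] at h), hfun]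

variable {n : ℕ} (i : X ⟶ CohB1.ProjSpace n k) [IsClosedImmersion i]

variable (k) in
/-- The uniform statement in a given dimension. -/
def Unif (F : X.Modules) : Prop :=
  (∀ L, IsNT k L → phi k (PicF.cl L) F = 0) ∧
    ∃ m : ℤ, ∀ L, IsNT k L → ∀ M : X.Modules, PicF.cl M = PicF.cl F * PicF.cl L → Pic13.IsMRegular k i M m

theorem unif_of_empty {F : X.Modules} (hF : Cyc.CohLe (SnapLead.δ k) (-1) F) : Unif k i F := by
  haveI := CurveCohLib.isNoetherian_of_proper (k := k) (X := X)
  have hz : IsZero F := (AssPtX.isZero_iff hF.1.1).2 fun x hx => by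
    have h1 := hF.2 x (mem_support_iff.1 (AssPtX.mem_support_of_isWeakAssPoint hx))
    rw [delta_eq_deg] at h1
    omega
  have hA : ∀ A : X.Modules, IsZero ((K0TensorInv.ten A).obj F) := fun A => (K0TensorInv.ten A).map_isZero hz
  have h0 : ∀ M : X.Modules, IsZero M → SurfPairing.χ k (PicF.cl M) = 0 := fun M hM => by
    rw [SurfPairing.χ_cl, Euler.euler_eq_sum k M 0 fun q _ => Euler.subsingleton_HH_of_isZero hM q, Finset.range_zero,
      Finset.sum_empty]
  refine ⟨fun L _ => ?_, 0, fun L _ M hM q _ => ?_⟩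
  · rw [phi, ← cl_ten, h0 _ (hA L), h0 F hz, sub_zero]
  · obtain ⟨e⟩ := cl_eq_iff.1 (show PicF.cl (Pic13.twistOn k i M (0 - q)) =
        PicF.cl ((K0TensorInv.ten (CohB1.tensorMod L (twMod i (0 - q)))).obj F) by
      rw [cl_twistOn, cl_ten, cl_tensor, hM, mul_assoc]
      rfl)
    exact Euler.subsingleton_HH_of_isZero ((hA _).of_iso e) q

variable [IsAlgClosed k]

theorem unif_step (hi : i ≫ CohB1.ProjSpace.toSpec n k = X ↘ Spec (CommRingCat.of k)) (d : ℕ)
    (IH : ∀ M, Cyc.CohLe (SnapLead.δ k) ((d : ℤ) - 1) M → Unif k i M)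
    {F : X.Modules} (hF : Cyc.CohLe (SnapLead.δ k) d F) : Unif k i F := by
  haveI := CurveCohLib.isNoetherian_of_proper (k := k) (X := X)
  obtain ⟨G, hG, hGs, hseq⟩ := exists_hyp i hF.1
  have hGle : Cyc.CohLe (SnapLead.δ k) ((d : ℤ) - 1) G := ⟨hG, fun x hx => by
    obtain ⟨y, hy, hyx, hne⟩ := hGs x (mem_support_iff.2 hx)
    have h1 := NefCrit.deg_lt_of_mem_closure (k := k) (specializes_iff_mem_closure.1 hyx) (Ne.symm hne)
    have h2 := hF.2 y (mem_support_iff.1 hy)
    rw [delta_eq_deg] at h2 ⊢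
    omega⟩
  obtain ⟨m, hm⟩ := (IH G hGle).2
  obtain ⟨B, hB⟩ := exists_bd i hF.1 d hF (m - 1)
  -- the descent for each twist
  have hdesc : ∀ L, IsNT k L → ∀ M : X.Modules, PicF.cl M = PicF.cl F * PicF.cl L →
      (Module.finrank k (Coh.HH X (Pic13.twistOn k i M (m - 1)) 0) : ℤ) ≤ B ∧
      SurfPairing.χ k (PicF.cl F * PicF.cl L * tw i (m - 1)) =
        (Module.finrank k (Coh.HH X (Pic13.twistOn k i M (m - 1)) 0) : ℤ) -
          Module.finrank k (Coh.HH X (Pic13.twistOn k i M (m - 1)) 1) ∧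
      Pic13.IsMRegular k i M (m + Module.finrank k (Coh.HH X (Pic13.twistOn k i M (m - 1)) 1)) := by
    intro L hL M hM
    obtain ⟨S, hS, d1, d2, d3, e1, e2, e3⟩ := hseq L hL.1
    have hMc : Coh.IsCoh M := by
      obtain ⟨e⟩ := cl_eq_iff.1 (hM.trans e2.symm)
      exact QCoh.isCoh_of_mono e.hom d2 ((QCoh.isQCoh_iff_iso e).2 d2.1)
    obtain ⟨a⟩ := cl_eq_iff.1 (show PicF.cl S.X₁ = PicF.cl (Pic13.twistOn k i M (-1)) by
      rw [e1, cl_twistOn, hM]; ac_rfl)
    obtain ⟨b⟩ := cl_eq_iff.1 (hM.trans e2.symm)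
    have hw : (a.inv ≫ S.f ≫ b.inv) ≫ (b.hom ≫ S.g) = 0 := by
      simp
    have hS' : (ShortComplex.mk (a.inv ≫ S.f ≫ b.inv) (b.hom ≫ S.g) hw).ShortExact :=
      ShortComplex.shortExact_of_iso (ShortComplex.isoMk a b.symm (Iso.refl _) (by simp) (by simp)) hS
    obtain ⟨hhigh, -, -, hreg⟩ := S12112.result k n X i hi M S.X₃ hMc d3 _ _ hw hS' m (hm L hL _ e3)
    refine ⟨?_, ?_, hreg⟩
    · have h := hB L hL 0 (Pic13.twistOn k i M (m - 1)) (by rw [cl_twistOn, hM, Nat.cast_zero, add_zero])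
      rw [zero_add, Nat.choose_self, mul_one] at h
      exact_mod_cast h
    · rw [← hM, ← cl_twistOn, SurfPairing.χ_cl, Euler.euler_eq_sum k _ 2 fun q hq => hhigh q (m - 1) hq (by omega),
        Finset.sum_range_succ, Finset.sum_range_one]
      ring
  have hlow : ∀ L, IsNT k L → ∀ M, Cyc.CohLe (SnapLead.δ k) ((d : ℤ) - 1) M → phi k (PicF.cl L) M = 0 :=
    fun L hL M hM => (IH M hM).1 L hL
  -- the change is linear in the twist
  have hlin : ∀ L L', IsNT k L → IsNT k L' →
      phi k (PicF.cl L * PicF.cl L') F = phi k (PicF.cl L) F + phi k (PicF.cl L') F := by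
    intro L L' hL hL'
    have h := phi_twist hL'.1 hL.1 d (hlow L' hL') hF (M := (K0TensorInv.ten L).obj F) (cl_ten F L)
    rw [← h]
    simp only [phi, cl_ten]
    rw [mul_assoc]
    ring
  let C : ℤ := B - SurfPairing.χ k (PicF.cl F * tw i (m - 1))
  have hT : PicF.cl (twMod i (m - 1)) = tw i (m - 1) := rfl
  -- the change is bounded above
  have hbd : ∀ L, IsNT k L → phi k (PicF.cl L) F ≤ C := by
    intro L hL
    obtain ⟨h0, hχ, -⟩ := hdesc L hL _ (cl_tensor F L)
    have h := phi_twist hL.1 (isInvertible_tw i (m - 1)) d (hlow L hL) hF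
      (M := (K0TensorInv.ten (twMod i (m - 1))).obj F) (cl_ten F _)
    rw [← h]
    simp only [phi, cl_ten]
    have h' : SurfPairing.χ k (PicF.cl F * PicF.cl (twMod i (m - 1)) * PicF.cl L) =
        SurfPairing.χ k (PicF.cl F * PicF.cl L * tw i (m - 1)) := by
      congr 1
      rw [tw_eq]
      ac_rfl
    rw [h', hχ, hT]
    simp only [C]
    omega
  have hzero : ∀ L, IsNT k L → phi k (PicF.cl L) F = 0 := by
    have key : ∀ L, IsNT k L → ∀ t : ℕ, phi k (PicF.cl L ^ t) F = t * phi k (PicF.cl L) F := by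
      intro L hL t
      induction t with
      | zero => simp [phi]
      | succ t ih =>
        rw [pow_succ, ← cl_tensorPow, hlin _ _ (hL.pow k t) hL, cl_tensorPow, ih]
        push_cast
        ring
    intro L hL
    obtain ⟨L', hL', hinv⟩ := hL.exists_inverse k
    have hneg : phi k (PicF.cl L') F = - phi k (PicF.cl L) F := by
      have h := hlin L L' hL hL'
      rw [hinv] at h
      simp only [phi, mul_one, sub_self] at h ⊢
      omega
    have h1 := hbd _ (hL.pow k (C.natAbs + 1))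
    have h2 := hbd _ (hL'.pow k (C.natAbs + 1))
    rw [cl_tensorPow, key L hL] at h1
    rw [cl_tensorPow, key L' hL', hneg] at h2
    push_cast at h1 h2
    have hC : C ≤ |C| := le_abs_self C
    have ha : (0 : ℤ) ≤ |C| := abs_nonneg C
    generalize phi k (PicF.cl L) F = p at h1 h2 ⊢
    generalize |C| = a at h1 h2 hC ha
    rcases lt_trichotomy p 0 with h | h | h
    · nlinarith [mul_le_mul_of_nonneg_left (show (1 : ℤ) ≤ -p by omega) (show (0 : ℤ) ≤ a + 1 by omega)]
    · exact h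
    · nlinarith [mul_le_mul_of_nonneg_left (show (1 : ℤ) ≤ p by omega) (show (0 : ℤ) ≤ a + 1 by omega)]
  refine ⟨hzero, m + C.natAbs, fun L hL M hM => ?_⟩
  obtain ⟨h0, hχ, hreg⟩ := hdesc L hL M hM
  have hMc : Coh.IsCoh M := by
    obtain ⟨e⟩ := cl_eq_iff.1 (hM.trans (cl_ten F L).symm)
    exact QCoh.isCoh_of_mono e.hom (K0TensorInv.isCoh_ten hL.1 hF.1)
      ((QCoh.isQCoh_iff_iso e).2 (K0TensorInv.isCoh_ten hL.1 hF.1).1)
  refine Pic13Regular.isMRegular_of_le i hMc hreg (add_le_add le_rfl ?_)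
  have h := phi_twist hL.1 (isInvertible_tw i (m - 1)) d (hlow L hL) hF
    (M := (K0TensorInv.ten (twMod i (m - 1))).obj F) (cl_ten F _)
  rw [hzero L hL] at h
  simp only [phi, cl_ten] at h
  have h' : SurfPairing.χ k (PicF.cl F * PicF.cl (twMod i (m - 1)) * PicF.cl L) =
      SurfPairing.χ k (PicF.cl F * PicF.cl L * tw i (m - 1)) := by
    congr 1
    rw [tw_eq]
    ac_rfl
  rw [h', hχ, sub_eq_zero, hT] at h
  have hC : C ≤ (C.natAbs : ℤ) := Int.le_natAbs
  simp only [C] at hC ⊢
  omega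

/-- Numerically trivial twists keep Euler characteristics and are uniformly regular. -/
theorem unif (hi : i ≫ CohB1.ProjSpace.toSpec n k = X ↘ Spec (CommRingCat.of k)) {F : X.Modules}
    (hF : Coh.IsCoh F) : Unif k i F := by
  haveI := CurveCohLib.isNoetherian_of_proper (k := k) (X := X)
  suffices h : ∀ (d : ℕ) (F : X.Modules), Cyc.CohLe (SnapLead.δ k) ((d : ℤ) - 1) F → Unif k i F by
    refine h (n + 1) F ?_
    have h1 := SnapLead.cohLe_of_dim k hF ((topologicalKrullDim_subspace_le X _).trans (dim_le_of_closed i))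
    simpa using h1
  intro d
  induction d with
  | zero => exact fun F hF => unif_of_empty i (by simpa using hF)
  | succ d ih => exact fun F hF => unif_step i hi d ih (by simpa using hF)

end Groth.Agent.Pic13Lib.NumTriv
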