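import Groth.Agent.Pic13Lib.EulerProper
import Groth.Agent.PnCoh.Chow.Exists
import Groth.Agent.QCoh.FlatBC
import Mathlib.FieldTheory.IsAlgClosed.AlgebraicClosure

/-!
# Numerical triviality and extensions of the base field
-/

set_option autoImplicit false
set_option linter.style.haveILetI false
set_option linter.unusedSectionVars false
set_option backward.isDefEq.respectTransparency false
set_option backward.isDefEq.respectTransparency.types false
set_option maxHeartbeats 1000000

universe u

open CategoryTheory CategoryTheory.Limits AlgebraicGeometry TopologicalSpace Opposite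
open Groth.Agent.H23 Groth.Agent.H23.PicMul

attribute [local instance] PicMul.clMonoid

noncomputable section

namespace Groth.Agent.Pic13Lib.NumTriv

variable {k : Type u} [Field k]

section Criterion

variable {X : Scheme.{u}} [X.Over (Spec (CommRingCat.of k))] [IsProper (X ↘ Spec (CommRingCat.of k))]

/-- Ample twists of all powers in both directions force numerical triviality. -/
theorem isNT_of_ample_twists {H L L' : X.Modules} (hH : CohB1.IsAmple H) (hL : PicF.IsInvertible L)
    (hL' : PicF.IsInvertible L') (h : PicF.cl L * PicF.cl L' = 1)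
    (hamp : ∀ m : ℕ, 0 < m → CohB1.IsAmple (CohB1.tensorMod (CohB1.tensorPow L m) H) ∧
      CohB1.IsAmple (CohB1.tensorMod (CohB1.tensorPow L' m) H)) : IsNT k L := by
  refine ⟨hL, fun Y ι _ hY hd => ?_⟩
  haveI := hY
  letI : Y.Over (Spec (CommRingCat.of k)) := ⟨ι ≫ (X ↘ Spec (CommRingCat.of k))⟩
  haveI : IsProper (Y ↘ Spec (CommRingCat.of k)) :=
    show IsProper (ι ≫ (X ↘ Spec (CommRingCat.of k))) from inferInstance
  haveI : CompactSpace X := QuasiCompact.compactSpace_of_compactSpace (X ↘ Spec (CommRingCat.of k))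
  haveI : CompactSpace Y := ι.isClosedEmbedding.compactSpace
  let D : X.Modules → ℤ := fun A =>
    Pic13.curveDeg k (ι ≫ (X ↘ Spec (CommRingCat.of k))) ((Scheme.Modules.pullback ι).obj A)
  have hpos : ∀ A, CohB1.IsAmple A → 0 < D A := fun A hA => by
    have hA' := AmpleVan.FiniteSurj.isAmple_pullback_of_isAffineHom ι hA
    show 0 < Pic13.curveDeg k (Y ↘ Spec (CommRingCat.of k)) _
    rw [curveDeg_eq_deg k hd.le hA'.1]
    exact CurveAmple.deg_pos_of_ample hd hA'
  have hlin : ∀ A, PicF.IsInvertible A → ∀ m : ℕ,
      D (CohB1.tensorMod (CohB1.tensorPow A m) H) = m * D A + D H := by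
    intro A hA m
    show Pic13.curveDeg k _ _ = _
    rw [curveDeg_tensor k ι hd (PicMul.isInvertible_tensorPow hA m) hH.1]
    congr 1
    induction m with
    | zero => rw [Nat.cast_zero, zero_mul]; exact Pic13Lib.curveDeg_structure ι
    | succ m ih =>
      show Pic13.curveDeg k _ ((Scheme.Modules.pullback ι).obj (CohB1.tensorMod (CohB1.tensorPow A m) A)) = _
      rw [curveDeg_tensor k ι hd (PicMul.isInvertible_tensorPow hA m) hA, ih]
      push_cast
      ring
  have hsum : D L + D L' = 0 := by
    show Pic13.curveDeg k _ _ + Pic13.curveDeg k _ _ = 0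
    rw [← curveDeg_tensor k ι hd hL hL', curveDeg_of_cl k ι (show PicF.cl (CohB1.tensorMod L L') =
      PicF.cl (Coh.structureModule X) by rw [cl_tensor, h, PicMul.one_def])]
    exact Pic13Lib.curveDeg_structure ι
  show D L = 0
  have h0 := hpos H hH
  obtain ⟨a, ha⟩ : ∃ a : ℕ, (a : ℤ) = D H := ⟨(D H).toNat, Int.toNat_of_nonneg h0.le⟩
  have h1 := hpos _ (hamp a (by omega)).1
  have h2 := hpos _ (hamp a (by omega)).2
  rw [hlin L hL, ha] at h1
  rw [hlin L' hL', ha, show D L' = - D L by omega] at h2
  rcases lt_trichotomy (D L) 0 with h | h | h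
  · nlinarith
  · exact h
  · nlinarith

end Criterion

variable {E : Type u} [Field E] [Algebra k E] {X X' : Scheme.{u}} [X.Over (Spec (CommRingCat.of k))]
  [IsProper (X ↘ Spec (CommRingCat.of k))] [X'.Over (Spec (CommRingCat.of E))]
  [IsProper (X' ↘ Spec (CommRingCat.of E))] (g : X' ⟶ X)
  (sq : IsPullback g (X' ↘ Spec (CommRingCat.of E)) (X ↘ Spec (CommRingCat.of k))
    (Spec.map (CommRingCat.ofHom (algebraMap k E))))

include sq in
/-- Euler characteristics do not change under extensions of the base field. -/
theorem euler_bc {F : X.Modules} (hF : Coh.IsQCoh F) :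
    Curv2.euler E X' ((Scheme.Modules.pullback g).obj F) = Curv2.euler k X F := by
  haveI := CurveCohLib.isNoetherian_of_proper (k := k) (X := X)
  haveI : X.IsSeparated := ⟨by
    rw [← Limits.terminal.comp_from (X ↘ Spec (CommRingCat.of k))]
    infer_instance⟩
  refine finsum_congr fun i => ?_
  obtain ⟨e⟩ := QCoh.HH_flatBaseChange (A := k) (B := E) sq hF i
  congr 2
  exact e.finrank_eq.symm.trans Module.finrank_baseChange

include sq in
theorem isNT_bc_proj {H : X.Modules} (hH : CohB1.IsAmple H) {L : X.Modules} (hL : IsNT k L) :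
    IsNT E ((Scheme.Modules.pullback g).obj L) := by
  haveI : IsAffineHom g := MorphismProperty.of_isPullback sq.flip inferInstance
  haveI : CompactSpace X := QuasiCompact.compactSpace_of_compactSpace (X ↘ Spec (CommRingCat.of k))
  haveI : CompactSpace X' := QuasiCompact.compactSpace_of_compactSpace (X' ↘ Spec (CommRingCat.of E))
  obtain ⟨L', hL', hinv⟩ := hL.exists_inverse k
  have hnef : ∀ {A : X.Modules}, IsNT k A → NefCrit.NefC k A := fun hA Y i _ hY hd => (hA.2 Y i hY hd).ge
  refine isNT_of_ample_twists (AmpleVan.FiniteSurj.isAmple_pullback_of_isAffineHom g hH)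
    (PicClLib.isInvertible_pullback g hL.1) (PicClLib.isInvertible_pullback g hL'.1) ?_ fun m hm => ?_
  · show PicF.pullCl g (PicF.cl L) * PicF.pullCl g (PicF.cl L') = 1
    rw [← PicMul.pullCl_mul, hinv, PicMul.pullCl_one]
  · have h : ∀ A : X.Modules, IsNT k A → CohB1.IsAmple
        (CohB1.tensorMod (CohB1.tensorPow ((Scheme.Modules.pullback g).obj A) m) ((Scheme.Modules.pullback g).obj H)) :=
      fun A hA => by
        obtain ⟨e⟩ := cl_eq_iff.1 (show PicF.cl ((Scheme.Modules.pullback g).obj (CohB1.tensorMod (CohB1.tensorPow A m) H)) =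
            PicF.cl (CohB1.tensorMod (CohB1.tensorPow ((Scheme.Modules.pullback g).obj A) m)
              ((Scheme.Modules.pullback g).obj H)) by
          show PicF.pullCl g (PicF.cl _) = _
          rw [cl_tensor, PicMul.pullCl_mul, cl_tensor]
          congr 1
          exact cl_eq_iff.2 (AmpleVan.RelVanish.pullback_tensorPow g A m))
        exact AmpleX.isAmple_of_iso e (AmpleVan.FiniteSurj.isAmple_pullback_of_isAffineHom g
          (NefCrit.isAmple_of_nef k hA.1 hH (hnef hA) hm))
    exact ⟨h L hL, h L' hL'⟩

include sq in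
/-- Numerical triviality is preserved by extensions of the base field. -/
theorem isNT_bc {L : X.Modules} (hL : IsNT k L) : IsNT E ((Scheme.Modules.pullback g).obj L) := by
  refine ⟨PicClLib.isInvertible_pullback g hL.1, fun C κ _ hC hCd => ?_⟩
  haveI := hC
  haveI := CurveCohLib.isNoetherian_of_proper (k := k) (X := X)
  -- an integral closed subscheme downstairs containing the image of the curve
  let x : X := g (κ (genericPoint C))
  haveI : IsIntegral (IntMult.ptIdeal x).subscheme := QCoh.isIntegral_closure_point x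
  let ι := (IntMult.ptIdeal x).subschemeι
  letI : (IntMult.ptIdeal x).subscheme.Over (Spec (CommRingCat.of k)) := ⟨ι ≫ (X ↘ Spec (CommRingCat.of k))⟩
  haveI : IsProper ((IntMult.ptIdeal x).subscheme ↘ Spec (CommRingCat.of k)) :=
    show IsProper (ι ≫ (X ↘ Spec (CommRingCat.of k))) from inferInstance
  obtain ⟨N, P, π, p, hint, hp, hpf, hπ, U, hU, hiso⟩ :=
    PnCoh.Chow.chow_integral ((IntMult.ptIdeal x).subscheme ↘ Spec (CommRingCat.of k))
  let h : P ⟶ X := π ≫ ι
  letI : P.Over (Spec (CommRingCat.of k)) := ⟨h ≫ (X ↘ Spec (CommRingCat.of k))⟩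
  haveI : IsProper (P ↘ Spec (CommRingCat.of k)) :=
    show IsProper (h ≫ (X ↘ Spec (CommRingCat.of k))) from inferInstance
  haveI : CompactSpace P := QuasiCompact.compactSpace_of_compactSpace (P ↘ Spec (CommRingCat.of k))
  have hA : CohB1.IsAmple ((Scheme.Modules.pullback p).obj (Twist.twistProjSpace N k 1)) :=
    AmpleVan.FiniteSurj.isAmple_pullback_of_isAffineHom p isAmple_twistProjSpace_one
  have hLP : IsNT k ((Scheme.Modules.pullback h).obj L) := by
    refine ⟨PicClLib.isInvertible_pullback h hL.1, isNumEquivZero_of_numEq (PicClLib.isInvertible_pullback h hL.1) ?_⟩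
    obtain ⟨e⟩ := PicClLib.nonempty_pullback_structureModule h
    have h1 := numEq_pullback (k := k) h rfl hL.1 InvX.isInvertible_structureModule (numEq_structure hL.1 hL.2)
    intro ξ' hξ'
    rw [h1 ξ' hξ']
    exact CurveCohLib.euler_congr (k := k) (PicGrp.tensorModIso (Iso.refl _) e)
  -- the base change of the modification
  letI : (pullback h g).Over (Spec (CommRingCat.of E)) := ⟨pullback.snd h g ≫ (X' ↘ Spec (CommRingCat.of E))⟩
  haveI : IsProper h := inferInstanceAs (IsProper (π ≫ ι))
  haveI : IsProper (pullback.snd h g) := MorphismProperty.pullback_snd _ _ inferInstance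
  haveI : IsProper (pullback h g ↘ Spec (CommRingCat.of E)) :=
    show IsProper (pullback.snd h g ≫ (X' ↘ Spec (CommRingCat.of E))) from inferInstance
  have hPE := isNT_bc_proj (E := E) (pullback.fst h g)
    (show IsPullback (pullback.fst h g) (pullback h g ↘ Spec (CommRingCat.of E)) (P ↘ Spec (CommRingCat.of k))
        (Spec.map (CommRingCat.ofHom (algebraMap k E))) from (IsPullback.of_hasPullback h g).paste_vert sq) hA hLP
  -- over the curve
  letI : C.Over (Spec (CommRingCat.of E)) := ⟨κ ≫ (X' ↘ Spec (CommRingCat.of E))⟩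
  haveI : IsProper (C ↘ Spec (CommRingCat.of E)) :=
    show IsProper (κ ≫ (X' ↘ Spec (CommRingCat.of E))) from inferInstance
  let r := pullback.fst κ (pullback.snd h g)
  let t := pullback.snd κ (pullback.snd h g)
  letI : (pullback κ (pullback.snd h g)).Over (Spec (CommRingCat.of E)) := ⟨r ≫ (C ↘ Spec (CommRingCat.of E))⟩
  haveI : IsProper r := MorphismProperty.pullback_fst _ _ inferInstance
  haveI : IsProper (pullback κ (pullback.snd h g) ↘ Spec (CommRingCat.of E)) :=
    show IsProper (r ≫ (C ↘ Spec (CommRingCat.of E))) from inferInstance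
  have hsurj : Surjective r := by
    refine ⟨fun c => ?_⟩
    have hgc : g (κ c) ∈ Set.range h := by
      have hsp : x ⤳ g (κ c) := ((genericPoint_specializes c).map κ.continuous).map g.continuous
      obtain ⟨z, hz⟩ : g (κ c) ∈ Set.range ι := by
        rw [Scheme.IdealSheafData.range_subschemeι, IntMult.ptIdeal, Scheme.IdealSheafData.coe_support_vanishingIdeal]
        exact specializes_iff_mem_closure.1 hsp
      obtain ⟨w, hw⟩ : z ∈ Set.range π := by
        have hcl : IsClosed (Set.range π) := π.isClosedMap.isClosed_range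
        have hgen : genericPoint (IntMult.ptIdeal x).subscheme ∈ Set.range π := by
          have hη : genericPoint (IntMult.ptIdeal x).subscheme ∈ U :=
            ((genericPoint_spec _).mem_open_set_iff U.2).2 (by obtain ⟨u⟩ := hU; exact ⟨u.1, trivial, u.2⟩)
          haveI := hiso
          obtain ⟨w, hw⟩ := (TopCat.homeoOfIso (asIso (π ∣_ U).base)).surjective ⟨_, hη⟩
          exact ⟨(π ⁻¹ᵁ U).ι w, by
            rw [← Scheme.Hom.comp_apply, ← morphismRestrict_ι, Scheme.Hom.comp_apply]
            exact congrArg Subtype.val hw⟩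
        exact hcl.closure_subset_iff.2 (Set.singleton_subset_iff.2 hgen)
          ((genericPoint_closure _).ge (Set.mem_univ z))
      exact ⟨w, (Scheme.Hom.comp_apply π ι w).trans (by rw [hw, hz])⟩
    obtain ⟨w, hw⟩ := hgc
    obtain ⟨w', -, hw'⟩ := Scheme.Pullback.exists_preimage_pullback w (κ c) hw
    obtain ⟨v, hv, -⟩ := Scheme.Pullback.exists_preimage_pullback c w' hw'.symm
    exact ⟨v, hv⟩
  obtain ⟨eC⟩ := PicClLib.nonempty_pullback_structureModule r
  obtain ⟨et⟩ := PicClLib.nonempty_pullback_structureModule t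
  have hC' : IntAlt.NumEq E ((Scheme.Modules.pullback r).obj ((Scheme.Modules.pullback κ).obj
      ((Scheme.Modules.pullback g).obj L))) ((Scheme.Modules.pullback r).obj (Coh.structureModule C)) := by
    have hcomp : r ≫ κ ≫ g = t ≫ pullback.fst h g ≫ h := by
      rw [← Category.assoc, pullback.condition, Category.assoc, ← pullback.condition (f := h) (g := g)]
    let α : (Scheme.Modules.pullback r).obj ((Scheme.Modules.pullback κ).obj ((Scheme.Modules.pullback g).obj L)) ≅
        (Scheme.Modules.pullback t).obj ((Scheme.Modules.pullback (pullback.fst h g)).obj ((Scheme.Modules.pullback h).obj L)) :=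
      (Scheme.Modules.pullback r).mapIso ((Scheme.Modules.pullbackComp κ g).app L) ≪≫
        (Scheme.Modules.pullbackComp r (κ ≫ g)).app L ≪≫ (Scheme.Modules.pullbackCongr hcomp).app L ≪≫
        ((Scheme.Modules.pullbackComp t (pullback.fst h g ≫ h)).app L).symm ≪≫
        (Scheme.Modules.pullback t).mapIso ((Scheme.Modules.pullbackComp (pullback.fst h g) h).app L).symm
    have ht : t ≫ (pullback h g ↘ Spec (CommRingCat.of E)) = r ≫ (C ↘ Spec (CommRingCat.of E)) := by
      show t ≫ pullback.snd h g ≫ (X' ↘ Spec (CommRingCat.of E)) = r ≫ κ ≫ (X' ↘ Spec (CommRingCat.of E))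
      rw [← Category.assoc, ← Category.assoc, pullback.condition]
    have h1 := numEq_pullback (k := E) t ht hPE.1 InvX.isInvertible_structureModule (numEq_structure hPE.1 hPE.2)
    intro η hη
    rw [CurveCohLib.euler_congr (k := E) (PicGrp.tensorModIso (Iso.refl _) α), h1 η hη]
    exact CurveCohLib.euler_congr (k := E) (PicGrp.tensorModIso (Iso.refl _) (et ≪≫ eC.symm))
  haveI := hsurj
  have hCLi := PicClLib.isInvertible_pullback κ (PicClLib.isInvertible_pullback g hL.1)
  have h2 := numEq_of_pullback (k := E) r rfl hCLi InvX.isInvertible_structureModule hC'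
  have h3 := curveDeg_eq_of_numEq (k := E) (𝟙 C) hCd hCLi InvX.isInvertible_structureModule h2
  rw [curveDeg_structure (k := E) (𝟙 C)] at h3
  rw [Category.id_comp] at h3
  exact (curveDeg_congr E _ ((Scheme.Modules.pullbackId C).app _)).symm.trans h3

variable (k) in
/-- Numerically trivial twists do not change Euler characteristics, over any field. -/
theorem euler_tensor_nt {L : X.Modules} (hL : IsNT k L) {F : X.Modules} (hF : Coh.IsCoh F) :
    Curv2.euler k X (CohB1.tensorMod F L) = Curv2.euler k X F := by
  haveI := CurveCohLib.isNoetherian_of_proper (k := k) (X := X)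
  let K := AlgebraicClosure k
  let g := pullback.fst (X ↘ Spec (CommRingCat.of k)) (Spec.map (CommRingCat.ofHom (algebraMap k K)))
  letI : (pullback (X ↘ Spec (CommRingCat.of k)) (Spec.map (CommRingCat.ofHom (algebraMap k K)))).Over
      (Spec (CommRingCat.of K)) := ⟨pullback.snd _ _⟩
  haveI : IsProper (pullback (X ↘ Spec (CommRingCat.of k)) (Spec.map (CommRingCat.ofHom (algebraMap k K))) ↘
      Spec (CommRingCat.of K)) := MorphismProperty.pullback_snd (P := @IsProper) _ _ inferInstance
  have sq : IsPullback g (pullback (X ↘ Spec (CommRingCat.of k)) (Spec.map (CommRingCat.ofHom (algebraMap k K))) ↘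
      Spec (CommRingCat.of K)) (X ↘ Spec (CommRingCat.of k)) (Spec.map (CommRingCat.ofHom (algebraMap k K))) :=
    IsPullback.of_hasPullback _ _
  haveI := CurveCohLib.isNoetherian_of_proper (k := K)
    (X := pullback (X ↘ Spec (CommRingCat.of k)) (Spec.map (CommRingCat.ofHom (algebraMap k K))))
  have h := phi_eq_zero (isNT_bc g sq hL) (ZClosLib.isCoh_pullback g hF)
  rw [phi, ← cl_tensor, SurfPairing.χ_cl, SurfPairing.χ_cl, sub_eq_zero] at h
  have hFL : Coh.IsCoh (CohB1.tensorMod F L) := AmpleVan.isCoh_tensor hF (AmpleVan.isCoh_invertible hL.1)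
  rw [← euler_bc g sq hFL.1, ← euler_bc g sq hF.1, ← h]
  obtain ⟨e⟩ := PicMul.pull g F L
  exact CurveCohLib.euler_congr (k := K) e

/-- Euler characteristics detect numerical triviality. -/
theorem isNT_of_euler {L : X.Modules} (hL : PicF.IsInvertible L)
    (h : ∀ F : X.Modules, Coh.IsCoh F → Curv2.euler k X (CohB1.tensorMod F L) = Curv2.euler k X F) :
    IsNT k L := by
  haveI := CurveCohLib.isNoetherian_of_proper (k := k) (X := X)
  refine ⟨hL, fun Y ι _ _ hd => ?_⟩
  rw [curveDeg_eq ι hd L hL, h _ (QCoh.isCoh_push_structure ι), sub_self]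

include sq in
/-- Numerical triviality descends along extensions of the base field. -/
theorem isNT_of_bc {L : X.Modules} (hL : PicF.IsInvertible L) (h : IsNT E ((Scheme.Modules.pullback g).obj L)) :
    IsNT k L := by
  haveI := CurveCohLib.isNoetherian_of_proper (k := k) (X := X)
  haveI := CurveCohLib.isNoetherian_of_proper (k := E) (X := X')
  refine isNT_of_euler hL fun F hF => ?_
  have hFL : Coh.IsCoh (CohB1.tensorMod F L) := AmpleVan.isCoh_tensor hF (AmpleVan.isCoh_invertible hL)
  rw [← euler_bc g sq hFL.1, ← euler_bc g sq hF.1]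
  obtain ⟨e⟩ := PicMul.pull g F L
  exact (CurveCohLib.euler_congr (k := E) e).trans (euler_tensor_nt E h (ZClosLib.isCoh_pullback g hF))

end Groth.Agent.Pic13Lib.NumTriv
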