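import Groth.Agent.AVTors.CurveThru

/-!
# Curves through a point leaving a closed subset
-/

set_option autoImplicit false
set_option backward.isDefEq.respectTransparency.types false

universe u

open CategoryTheory AlgebraicGeometry TopologicalSpace Order

namespace Groth.Agent.Pic13Lib

/-- A curve through a closed point leaving a proper closed subset, over any field. -/
theorem exists_curve_leaving {k : Type u} [Field k] {X : Scheme.{u}} [IsIntegral X]
    (f : X ⟶ Spec (CommRingCat.of k)) [LocallyOfFiniteType f] {x : X} (hx : IsClosed ({x} : Set X)) {Z : Set X}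
    (hZc : IsClosed Z) (hZ : Z ≠ Set.univ) (hxZ : x ∈ Z) : ∃ ξ : X, ξ ⤳ x ∧ VarDim.deg f ξ = 1 ∧ ξ ∉ Z := by
  obtain ⟨U, hU, hxU, -⟩ := exists_isAffineOpen_mem_and_subset (x := x) (U := ⊤) trivial
  obtain ⟨m, rfl⟩ := VarDim.exists_fromSpec_eq hU hxU
  obtain ⟨_, hft⟩ := VarDim.exists_algebra f hU
  haveI : IsNoetherianRing Γ(X, U) := Algebra.FiniteType.isNoetherianRing k _
  haveI : Nonempty U := ⟨⟨_, hxU⟩⟩
  obtain ⟨I, hI⟩ := (PrimeSpectrum.isClosed_iff_zeroLocus_ideal (hU.fromSpec ⁻¹' Z)).1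
    (hZc.preimage hU.fromSpec.continuous)
  have hI0 : I ≠ ⊥ := by
    rintro rfl
    rw [Submodule.bot_coe, PrimeSpectrum.zeroLocus_singleton_zero] at hI
    refine hZ (hZc.closure_eq ▸ Set.eq_univ_of_univ_subset ?_)
    rw [← (U.2.dense ⟨_, hxU⟩).closure_eq]
    refine closure_mono fun y hy => ?_
    obtain ⟨p, rfl⟩ := VarDim.exists_fromSpec_eq hU hy
    exact hI.ge (Set.mem_univ p)
  obtain ⟨a, haI, ha0⟩ := Submodule.exists_mem_ne_zero_of_ne_bot hI0
  obtain ⟨P, hPm, haP⟩ := AVTors.exists_covBy_not_mem m ha0 ((hI.le (show m ∈ hU.fromSpec ⁻¹' Z from hxZ)) haI)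
  refine ⟨hU.fromSpec P, (VarDim.fromSpec_specializes_iff hU P m).2 hPm.1.le, ?_, fun h => haP (hI.le h haI)⟩
  have h1 := VarDim.coheight_of_covBy k hPm
  have h2 := (VarDim.closedPoint_iff_deg_eq_zero f _).1 hx
  rw [VarDim.deg_eq_coheight f hU, VarDim.deg_eq_coheight f hU, h2] at h1
  exact_mod_cast h1

end Groth.Agent.Pic13Lib
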