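import Groth.Agent.Pic13Lib.IntNum
import Groth.Agent.Pic13Lib.CurveThru
import Groth.Agent.Lib.CurveAmple
import Groth.Agent.Lib.SurfNegDef

/-!
# Numerically trivial invertible modules and vanishing of sections of negative modules
-/

set_option autoImplicit false
set_option linter.style.haveILetI false
set_option linter.unusedSectionVars false
set_option backward.isDefEq.respectTransparency false
set_option backward.isDefEq.respectTransparency.types false
set_option maxHeartbeats 1000000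

universe u

open CategoryTheory CategoryTheory.Limits AlgebraicGeometry TopologicalSpace Opposite
open Groth.Agent.H23 Groth.Agent.H23.TrivBasic

noncomputable section

namespace Groth.Agent.Pic13Lib.NumTriv

attribute [local instance] PicMul.clMonoid

variable (k : Type u) [Field k] {X : Scheme.{u}} [X.Over (Spec (CommRingCat.of k))]
  [IsProper (X ↘ Spec (CommRingCat.of k))]

theorem curveDeg_congr {Y : Scheme.{u}} (p : Y ⟶ Spec (CommRingCat.of k)) {M N : Y.Modules} (e : M ≅ N) :
    Pic13.curveDeg k p M = Pic13.curveDeg k p N := by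
  letI : Y.Over (Spec (CommRingCat.of k)) := ⟨p⟩
  unfold Pic13.curveDeg FGA.eulerCharLE
  simp only [(CurveCohLib.hhEquiv (k := k) e _).finrank_eq]

/-- The degree on a curve is the degree in the sense of the curve library. -/
theorem curveDeg_eq_deg {Y : Scheme.{u}} [Y.Over (Spec (CommRingCat.of k))]
    [IsProper (Y ↘ Spec (CommRingCat.of k))] (hdim : topologicalKrullDim Y ≤ 1) {M : Y.Modules}
    (hM : PicF.IsInvertible M) :
    Pic13.curveDeg k (Y ↘ Spec (CommRingCat.of k)) M = Curv2.deg k Y M 1 := by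
  haveI := CurveCohLib.isNoetherian_of_proper (k := k) (X := Y)
  have hd : topologicalKrullDim Y ≤ ((1 : ℕ) : WithBot ℕ∞) := by rwa [Nat.cast_one]
  show FGA.eulerCharLE k Y M 1 - FGA.eulerCharLE k Y (Coh.structureModule Y) 1 = _
  rw [Pic13Lib.eulerCharLE_eq hd (AmpleVan.isCoh_invertible hM).1,
    Pic13Lib.eulerCharLE_eq hd (QCoh.isCoh_structureModule' (X := Y)).1, Curv2.deg, Nat.cast_one, one_mul]

/-- Degrees on curves are additive. -/
theorem curveDeg_tensor {Y : Scheme.{u}} (ι : Y ⟶ X) [IsClosedImmersion ι] [IsIntegral Y]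
    (hdim : topologicalKrullDim Y = 1) {L M : X.Modules} (hL : PicF.IsInvertible L) (hM : PicF.IsInvertible M) :
    Pic13.curveDeg k (ι ≫ (X ↘ Spec (CommRingCat.of k))) ((Scheme.Modules.pullback ι).obj (CohB1.tensorMod L M)) =
      Pic13.curveDeg k (ι ≫ (X ↘ Spec (CommRingCat.of k))) ((Scheme.Modules.pullback ι).obj L) +
        Pic13.curveDeg k (ι ≫ (X ↘ Spec (CommRingCat.of k))) ((Scheme.Modules.pullback ι).obj M) := by
  letI : Y.Over (Spec (CommRingCat.of k)) := ⟨ι ≫ (X ↘ Spec (CommRingCat.of k))⟩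
  haveI : IsProper (Y ↘ Spec (CommRingCat.of k)) :=
    show IsProper (ι ≫ (X ↘ Spec (CommRingCat.of k))) from inferInstance
  have hL' := PicClLib.isInvertible_pullback ι hL
  have hM' := PicClLib.isInvertible_pullback ι hM
  show Pic13.curveDeg k (Y ↘ Spec (CommRingCat.of k)) _ = Pic13.curveDeg k (Y ↘ Spec (CommRingCat.of k)) _ +
    Pic13.curveDeg k (Y ↘ Spec (CommRingCat.of k)) _
  rw [curveDeg_eq_deg k hdim.le (PicClLib.isInvertible_pullback ι (InvX.isInvertible_tensorMod hL hM)),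
    curveDeg_eq_deg k hdim.le hL', curveDeg_eq_deg k hdim.le hM', ← CurveRR.deg_tensor k hdim hL' hM']
  obtain ⟨e⟩ := PicMul.cl_eq_iff.1 (show PicF.cl ((Scheme.Modules.pullback ι).obj (CohB1.tensorMod L M)) =
      PicF.cl (CohB1.tensorMod ((Scheme.Modules.pullback ι).obj L) ((Scheme.Modules.pullback ι).obj M)) by
    show PicF.pullCl ι (PicF.cl _) = _
    rw [PicMul.cl_tensor, PicMul.cl_tensor, PicMul.pullCl_mul]
    rfl)
  exact CurveRR.deg_congr k e 1

theorem curveDeg_of_cl {Y : Scheme.{u}} (ι : Y ⟶ X) {L M : X.Modules} (h : PicF.cl L = PicF.cl M) :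
    Pic13.curveDeg k (ι ≫ (X ↘ Spec (CommRingCat.of k))) ((Scheme.Modules.pullback ι).obj L) =
      Pic13.curveDeg k (ι ≫ (X ↘ Spec (CommRingCat.of k))) ((Scheme.Modules.pullback ι).obj M) := by
  obtain ⟨e⟩ := PicMul.cl_eq_iff.1 h
  exact curveDeg_congr k _ ((Scheme.Modules.pullback ι).mapIso e)

/-- Numerically trivial invertible modules. -/
def IsNT (L : X.Modules) : Prop := PicF.IsInvertible L ∧ Pic13.IsNumEquivZero k X L

theorem isNT_one : IsNT k (Coh.structureModule X) :=
  ⟨InvX.isInvertible_structureModule, fun _ ι _ _ _ => Pic13Lib.curveDeg_structure ι⟩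

theorem IsNT.mul {L M : X.Modules} (hL : IsNT k L) (hM : IsNT k M) : IsNT k (CohB1.tensorMod L M) :=
  ⟨InvX.isInvertible_tensorMod hL.1 hM.1, fun Y ι _ hY hd => by
    haveI := hY
    rw [curveDeg_tensor k ι hd hL.1 hM.1, hL.2 Y ι hY hd, hM.2 Y ι hY hd, add_zero]⟩

theorem IsNT.of_cl {L M : X.Modules} (hL : IsNT k L) (h : PicF.cl L = PicF.cl M) : IsNT k M :=
  ⟨PicMul.isInvertible_of_iso (PicMul.cl_eq_iff.1 h).some hL.1, fun Y ι _ hY hd =>
    (curveDeg_of_cl k ι h).symm.trans (hL.2 Y ι hY hd)⟩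

theorem IsNT.inverse {L L' : X.Modules} (hL : IsNT k L) (hL' : PicF.IsInvertible L')
    (h : PicF.cl L * PicF.cl L' = 1) : IsNT k L' :=
  ⟨hL', fun Y ι _ hY hd => by
    haveI := hY
    have h1 := curveDeg_tensor k ι hd hL.1 hL'
    rw [hL.2 Y ι hY hd, zero_add] at h1
    rw [← h1, curveDeg_of_cl k ι (show PicF.cl (CohB1.tensorMod L L') = PicF.cl (Coh.structureModule X) by
      rw [PicMul.cl_tensor, h, PicMul.one_def]), Pic13Lib.curveDeg_structure ι]⟩

theorem IsNT.exists_inverse {L : X.Modules} (hL : IsNT k L) :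
    ∃ L', IsNT k L' ∧ PicF.cl L * PicF.cl L' = 1 := by
  obtain ⟨L', hL', ⟨e⟩⟩ := PicInv.exists_inverse hL.1
  have h : PicF.cl L * PicF.cl L' = 1 := (PicMul.cl_tensor _ _).symm.trans ((PicMul.cl_eq_iff.2 ⟨e⟩).trans PicMul.one_def.symm)
  exact ⟨L', hL.inverse k hL' h, h⟩

theorem IsNT.pow {L : X.Modules} (hL : IsNT k L) : ∀ n : ℕ, IsNT k (CohB1.tensorPow L n)
  | 0 => isNT_one k
  | n + 1 => (hL.pow n).mul k hL

/-- On an integral scheme of positive dimension a module with negative degree on all curves has no sections. -/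
theorem h0_eq_zero_of_neg [IsIntegral X] (hdim : 1 ≤ VarDim.deg (X ↘ Spec (CommRingCat.of k)) (genericPoint X))
    {M : X.Modules} (hM : PicF.IsInvertible M)
    (hneg : ∀ (Y : Scheme.{u}) (ι : Y ⟶ X) [IsClosedImmersion ι], IsIntegral Y → topologicalKrullDim Y = 1 →
      Pic13.curveDeg k (ι ≫ (X ↘ Spec (CommRingCat.of k))) ((Scheme.Modules.pullback ι).obj M) < 0) :
    Module.finrank k (Coh.HH X M 0) = 0 := by
  haveI := CurveCohLib.isNoetherian_of_proper (k := k) (X := X)
  by_contra h0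
  obtain ⟨φ, hφ⟩ := CurveRR.exists_hom_ne_zero k (P := M) h0
  have hs : InvX.one φ ≠ 0 := fun h => hφ (CurveRR.hom_ext_one (by
    show InvX.one φ = InvX.one (0 : Coh.structureModule X ⟶ M)
    rw [h]
    rfl))
  obtain ⟨z, hz⟩ := (Opens.ne_bot_iff_nonempty _).1 (TrivBasic.locus_ne_bot hM hs)
  have hg : genericPoint X ∈ locus (InvX.one φ) :=
    (genericPoint_specializes z).mem_open (locus _).isOpen hz
  obtain ⟨x, hgx, hx⟩ := VarDim.exists_closed_specialization (X ↘ Spec (CommRingCat.of k)) (genericPoint X)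
  obtain ⟨ξ, hξ⟩ : ∃ ξ : X, VarDim.deg (X ↘ Spec (CommRingCat.of k)) ξ = 1 ∧ ξ ∈ locus (InvX.one φ) := by
    by_cases hxl : x ∈ locus (InvX.one φ)
    · -- any curve through a point of the locus meets it
      have hxne : ({x} : Set X) ≠ Set.univ := fun h => by
        have h1 : genericPoint X = x := h.ge (Set.mem_univ _)
        have h2 := DiagReg.deg_eq_zero (X ↘ Spec (CommRingCat.of k)) hx
        rw [h1] at hdim
        omega
      obtain ⟨ξ, hξx, hd, -⟩ := exists_curve_leaving (X ↘ Spec (CommRingCat.of k)) hx hx hxne rfl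
      exact ⟨ξ, hd, hξx.mem_open (locus _).isOpen hxl⟩
    · obtain ⟨ξ, -, hd, hξ⟩ := exists_curve_leaving (X ↘ Spec (CommRingCat.of k)) hx
        (locus (InvX.one φ)).isOpen.isClosed_compl (fun h => (h.ge (Set.mem_univ (genericPoint X))) hg) hxl
      exact ⟨ξ, hd, not_not.1 hξ⟩
  haveI : IsIntegral (IntMult.ptIdeal ξ).subscheme := QCoh.isIntegral_closure_point ξ
  let C := (IntMult.ptIdeal ξ).subscheme
  let ι := (IntMult.ptIdeal ξ).subschemeι
  have hC : topologicalKrullDim C = 1 := by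
    refine (IsHomeomorph.topologicalKrullDim_eq _
      (ι.isClosedEmbedding.isEmbedding.toHomeomorph.isHomeomorph)).trans ?_
    rw [Scheme.IdealSheafData.range_subschemeι, IntMult.ptIdeal, Scheme.IdealSheafData.coe_support_vanishingIdeal]
    have h1 := VarDim.topologicalKrullDim_closure_singleton (X ↘ Spec (CommRingCat.of k)) ξ
    rw [hξ.1] at h1
    exact_mod_cast h1
  obtain ⟨c, hc⟩ : ξ ∈ Set.range ι := by
    rw [Scheme.IdealSheafData.range_subschemeι, IntMult.ptIdeal, Scheme.IdealSheafData.coe_support_vanishingIdeal]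
    exact subset_closure rfl
  letI : C.Over (Spec (CommRingCat.of k)) := ⟨ι ≫ (X ↘ Spec (CommRingCat.of k))⟩
  haveI : IsProper (C ↘ Spec (CommRingCat.of k)) :=
    show IsProper (ι ≫ (X ↘ Spec (CommRingCat.of k))) from inferInstance
  have hnn := SurfNegDef.deg_nonneg_of_locus (k := k) ι hC.le hM c (s := InvX.one φ)
    (show ι c ∈ locus (InvX.one φ) by rw [hc]; exact hξ.2)
  have hlt := hneg C ι inferInstance hC
  rw [show Pic13.curveDeg k (ι ≫ (X ↘ Spec (CommRingCat.of k))) ((Scheme.Modules.pullback ι).obj M) =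
    Curv2.deg k C ((Scheme.Modules.pullback ι).obj M) 1 from
      curveDeg_eq_deg k hC.le (PicClLib.isInvertible_pullback ι hM)] at hlt
  exact absurd hlt (not_lt.2 hnn)

end Groth.Agent.Pic13Lib.NumTriv
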