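import Groth.Agent.Pic13Lib.HypSeq
import Groth.Agent.Pic13Lib.NumTrivBasic
import Groth.Agent.AmpleX.Proj
import Groth.Agent.QCoh.DevissageTheta
import Groth.Agent.S17630
import Groth.Agent.Pic13Lib.BoundedRegular
import Groth.Agent.Nakai.Nef
import Groth.Agent.Lib.Euler

/-!
# Sections of twists of a coherent module by numerically trivial modules
-/

set_option autoImplicit false
set_option linter.style.haveILetI false
set_option linter.unusedSectionVars false
set_option backward.isDefEq.respectTransparency false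
set_option backward.isDefEq.respectTransparency.types false
set_option maxHeartbeats 1000000

universe u

open CategoryTheory CategoryTheory.Limits AlgebraicGeometry TopologicalSpace Opposite
open Groth.Agent.H23 Groth.Agent.H23.PicMul

attribute [local instance] PicMul.clMonoid

noncomputable section

namespace Groth.Agent.Pic13Lib.NumTriv

variable {k : Type u} [Field k] {n : ℕ} {X : Scheme.{u}} [X.Over (Spec (CommRingCat.of k))]
  [IsProper (X ↘ Spec (CommRingCat.of k))]

theorem finrank_of_cl {M N : X.Modules} (h : PicF.cl M = PicF.cl N) (q : ℕ) :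
    Module.finrank k (Coh.HH X M q) = Module.finrank k (Coh.HH X N q) :=
  (CurveCohLib.hhEquiv (k := k) (cl_eq_iff.1 h).some q).finrank_eq

theorem mem_support_iff {M : X.Modules} {x : X} : x ∈ CohB1.support M ↔ Nontrivial (M.presheaf.stalk x) :=
  not_subsingleton_iff_nontrivial

theorem cohLe_of_support {M N : X.Modules} (hM : Coh.IsCoh M) (h : CohB1.support M ⊆ CohB1.support N) {d : ℤ}
    (hN : Cyc.CohLe (SnapLead.δ k) d N) : Cyc.CohLe (SnapLead.δ k) d M :=
  ⟨hM, fun x hx => hN.2 x (mem_support_iff.1 (h (mem_support_iff.2 hx)))⟩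

theorem delta_eq_deg (x : X) : SnapLead.δ k x = (VarDim.deg (X ↘ Spec (CommRingCat.of k)) x : ℤ) := by
  have h1 := VarDim.topologicalKrullDim_closure_singleton (X ↘ Spec (CommRingCat.of k)) x
  exact (IntAlt.delta_eq_iff k x _).1 (by exact_mod_cast h1)

theorem isAmple_twistProjSpace_one :
    CohB1.IsAmple (Twist.twistProjSpace n k 1) := by
  classical
  refine AmpleX.isAmple_twist_one _ (Finset.univ.image (ProjRegular.coords k n)) (fun f hf => ?_) ?_
  · obtain ⟨j, -, rfl⟩ := Finset.mem_image.1 hf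
    exact ProjRegular.coords_mem j
  · refine top_le_iff.1 (le_trans ProjRegular.coords_cover.ge (iSup_le fun j => ?_))
    exact le_iSup_of_le (⟨ProjRegular.coords k n j, Finset.mem_image.2 ⟨j, Finset.mem_univ j, rfl⟩⟩ :
      {f // f ∈ Finset.univ.image (ProjRegular.coords k n)}) le_rfl

variable (i : X ⟶ CohB1.ProjSpace n k) [IsClosedImmersion i]

/-- The twisting modules. -/
abbrev twMod (d : ℤ) : X.Modules := (Scheme.Modules.pullback i).obj (Twist.twistProjSpace n k d)

/-- Negative twists have negative degree on curves. -/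
theorem curveDeg_tw_neg {Y : Scheme.{u}} (ι : Y ⟶ X) [IsClosedImmersion ι] [IsIntegral Y]
    (hdim : topologicalKrullDim Y = 1) {d : ℤ} (hd : d < 0) :
    Pic13.curveDeg k (ι ≫ (X ↘ Spec (CommRingCat.of k))) ((Scheme.Modules.pullback ι).obj (twMod i d)) < 0 := by
  letI : Y.Over (Spec (CommRingCat.of k)) := ⟨ι ≫ (X ↘ Spec (CommRingCat.of k))⟩
  haveI : IsProper (Y ↘ Spec (CommRingCat.of k)) :=
    show IsProper (ι ≫ (X ↘ Spec (CommRingCat.of k))) from inferInstance
  haveI := CurveCohLib.isNoetherian_of_proper (k := k) (X := Y)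
  let D : ℤ → ℤ := fun a =>
    Pic13.curveDeg k (ι ≫ (X ↘ Spec (CommRingCat.of k))) ((Scheme.Modules.pullback ι).obj (twMod i a))
  have hadd : ∀ a b, D (a + b) = D a + D b := fun a b => by
    refine Eq.trans ?_ (curveDeg_tensor k ι hdim (isInvertible_tw i a) (isInvertible_tw i b))
    refine curveDeg_of_cl k ι ?_
    rw [cl_tensor]
    exact tw_add i a b
  have h1 : 0 < D 1 := by
    have hA : CohB1.IsAmple ((Scheme.Modules.pullback ι).obj (twMod i 1)) := by
      haveI : CompactSpace X := QuasiCompact.compactSpace_of_compactSpace (X ↘ Spec (CommRingCat.of k))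
      exact AmpleVan.FiniteSurj.isAmple_pullback_of_isAffineHom ι
        (AmpleVan.FiniteSurj.isAmple_pullback_of_isAffineHom i isAmple_twistProjSpace_one)
    show 0 < Pic13.curveDeg k (Y ↘ Spec (CommRingCat.of k)) _
    rw [curveDeg_eq_deg k hdim.le hA.1]
    exact CurveAmple.deg_pos_of_ample hdim hA
  let D' : ℤ →+ ℤ := AddMonoidHom.mk' D hadd
  have h2 : D d = d * D 1 := by
    have h := map_zsmul D' d (1 : ℤ)
    rw [smul_eq_mul, smul_eq_mul, mul_one] at h
    exact h
  show D d < 0
  rw [h2]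
  exact mul_neg_of_neg_of_pos hd h1

omit [IsClosedImmersion i] in
/-- The sections of a twist of a closed subscheme live on it. -/
theorem h0_push {Z : Scheme.{u}} (ι : Z ⟶ X) [IsClosedImmersion ι] {A : X.Modules} (hA : PicF.IsInvertible A)
    {M : X.Modules} (hM : PicF.cl M = PicF.cl ((Coh.push ι).obj (Coh.structureModule Z)) * PicF.cl A) :
    letI : Z.Over (Spec (CommRingCat.of k)) := ⟨ι ≫ (X ↘ Spec (CommRingCat.of k))⟩
    Module.finrank k (Coh.HH X M 0) = Module.finrank k (Coh.HH Z ((Scheme.Modules.pullback ι).obj A) 0) := by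
  letI : Z.Over (Spec (CommRingCat.of k)) := ⟨ι ≫ (X ↘ Spec (CommRingCat.of k))⟩
  obtain ⟨e₂⟩ := AmpleVan.FiniteSurj.nonempty_push_twist ι (Coh.structureModule Z) hA
  let e₄ := CurveTensor.structureTensorIso ((Scheme.Modules.pullback ι).obj A)
  have hA' := PicClLib.isInvertible_pullback ι hA
  obtain ⟨e⟩ := cl_eq_iff.1 (hM.trans (cl_tensor _ _).symm)
  rw [(CurveCohLib.hhEquiv (k := k) (e ≪≫ e₂ ≪≫ (Coh.push ι).mapIso e₄) 0).finrank_eq]
  haveI := CurveCohLib.isNoetherian_of_proper (k := k) (X := X)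
  haveI : IsLocallyNoetherian Z := LocallyOfFiniteType.isLocallyNoetherian ι
  exact finrank_push (k := k) ι rfl (AmpleVan.isCoh_invertible hA').1

variable (k) in
/-- The family of twists of a module has boundedly many sections. -/
def Bd (F : X.Modules) (r : ℕ) (j : ℤ) (B : ℕ) : Prop :=
  ∀ L : X.Modules, IsNT k L → ∀ (m : ℕ) (M : X.Modules), PicF.cl M = PicF.cl F * PicF.cl L * tw i (j + m) →
    Module.finrank k (Coh.HH X M 0) ≤ B * (m + r).choose r

variable (k) in
/-- All twists of a module have boundedly many sections. -/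
def PBd (F : X.Modules) : Prop := ∀ r : ℕ, Cyc.CohLe (SnapLead.δ k) r F → ∀ j : ℤ, ∃ B, Bd k i F r j B

theorem pBd_iso (M N : X.Modules) (e : Nonempty (M ≅ N)) (h : PBd k i M) : PBd k i N := fun r hr j => by
  obtain ⟨e⟩ := e
  haveI := CurveCohLib.isNoetherian_of_proper (k := k) (X := X)
  have hc : Coh.IsCoh M := QCoh.isCoh_of_mono e.hom hr.1 ((QCoh.isQCoh_iff_iso e).2 hr.1.1)
  obtain ⟨B, hB⟩ := h r (cohLe_of_support hc (QCoh.support_iso e hc.1).le hr) j
  exact ⟨B, fun L hL m P hP => hB L hL m P (by rw [hP, cl_eq_iff.2 ⟨e⟩])⟩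

theorem pBd_zero (F : X.Modules) (h : IsZero F) : PBd k i F := fun r _ j => ⟨0, fun L hL m M hM => by
  rw [zero_mul, Nat.le_zero]
  have hA : PicF.IsInvertible (CohB1.tensorMod L (twMod i (j + m))) :=
    InvX.isInvertible_tensorMod hL.1 (isInvertible_tw i _)
  have hz : IsZero ((K0TensorInv.ten (CohB1.tensorMod L (twMod i (j + m)))).obj F) :=
    (K0TensorInv.ten _).map_isZero h
  rw [finrank_of_cl (N := (K0TensorInv.ten (CohB1.tensorMod L (twMod i (j + m)))).obj F) (by
    rw [cl_ten, cl_tensor, hM, mul_assoc]; rfl)]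
  haveI : Subsingleton (Coh.HH X ((K0TensorInv.ten (CohB1.tensorMod L (twMod i (j + m)))).obj F) 0) :=
    Euler.subsingleton_HH_of_isZero hz 0
  exact Module.finrank_zero_of_subsingleton⟩

theorem pBd_ext (S : ShortComplex X.Modules) (hS : S.ShortExact) (c1 : Coh.IsCoh S.X₁) (c2 : Coh.IsCoh S.X₂)
    (c3 : Coh.IsCoh S.X₃) (h1 : PBd k i S.X₁) (h3 : PBd k i S.X₃) : PBd k i S.X₂ := fun r hr j => by
  haveI := CurveCohLib.isNoetherian_of_proper (k := k) (X := X)
  haveI := hS.mono_f
  haveI := hS.epi_g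
  obtain ⟨B₁, hB₁⟩ := h1 r (cohLe_of_support c1 (QCoh.mem_support_of_mono c1.1 c2.1 S.f) hr) j
  obtain ⟨B₃, hB₃⟩ := h3 r (cohLe_of_support c3 (QCoh.support_of_epi c2.1 c3.1 S.g) hr) j
  refine ⟨B₁ + B₃, fun L hL m M hM => ?_⟩
  obtain ⟨S', hS', d1, d2, d3, e1, e2, e3⟩ := exists_ses_ten (InvX.isInvertible_tensorMod hL.1 (isInvertible_tw i (j + m)))
    hS c1 c2 c3 rfl rfl rfl
  rw [cl_tensor] at e1 e2 e3
  rw [add_mul, finrank_of_cl (N := S'.X₂) (by rw [e2, hM, mul_assoc]; rfl)]
  refine (S17630.bounds k hS' d1 d2 d3 0).1.trans (add_le_add (hB₁ L hL m _ ?_) (hB₃ L hL m _ ?_))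
  · rw [e1, mul_assoc]; rfl
  · rw [e3, mul_assoc]; rfl

theorem pBd_of_mono {F G : X.Modules} (f : F ⟶ G) [Mono f] (hF : Coh.IsCoh F) (hG : Coh.IsCoh G) {r : ℕ} {j : ℤ}
    {B : ℕ} (h : Bd k i G r j B) : Bd k i F r j B := fun L hL m M hM => by
  haveI := CurveCohLib.isNoetherian_of_proper (k := k) (X := X)
  obtain ⟨S', hS', d1, d2, d3, e1, e2, -⟩ := exists_ses_ten (InvX.isInvertible_tensorMod hL.1 (isInvertible_tw i (j + m)))
    (show (ShortComplex.mk f (cokernel.π f) (cokernel.condition f)).ShortExact from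
      .mk' (ShortComplex.exact_of_g_is_cokernel _ (cokernelIsCokernel f)) ‹_› inferInstance)
    hF hG (QCoh.isCoh_cokernel hF.1 hG f) rfl rfl rfl
  rw [cl_tensor] at e1 e2
  rw [finrank_of_cl (N := S'.X₁) (by rw [e1, hM, mul_assoc]; rfl)]
  refine (S17630.bounds k hS' d1 d2 d3 0).2.1.trans (h L hL m _ ?_)
  rw [e2, mul_assoc]; rfl

theorem sum_choose (r m : ℕ) : ∑ l ∈ Finset.range m, (l + r).choose r ≤ (m + (r + 1)).choose (r + 1) := by
  induction m with
  | zero => simp
  | succ m ih =>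
    rw [Finset.sum_range_succ, show m + 1 + (r + 1) = (m + (r + 1)) + 1 by omega, Nat.choose_succ_succ']
    have : (m + r).choose r ≤ (m + (r + 1)).choose r := Nat.choose_le_choose r (by omega)
    omega

/-- The structure sheaf of an integral closed subscheme. -/
theorem exists_bd_push [Infinite k] {ξ : X}
    (hsmall : ∀ M : X.Modules, Coh.IsCoh M → CohB1.support M ⊆ closure {ξ} → ξ ∉ CohB1.support M → PBd k i M)
    (Z : Scheme.{u}) (ι : Z ⟶ X) [IsClosedImmersion ι] [IsIntegral Z] (hZ : Set.range ι = closure {ξ})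
    {r : ℕ} (hr : SnapLead.δ k ξ ≤ r) (j : ℤ) :
    ∃ B, Bd k i ((Coh.push ι).obj (Coh.structureModule Z)) r j B := by
  haveI := CurveCohLib.isNoetherian_of_proper (k := k) (X := X)
  letI : Z.Over (Spec (CommRingCat.of k)) := ⟨ι ≫ (X ↘ Spec (CommRingCat.of k))⟩
  haveI : IsProper (Z ↘ Spec (CommRingCat.of k)) :=
    show IsProper (ι ≫ (X ↘ Spec (CommRingCat.of k))) from inferInstance
  let O := (Coh.push ι).obj (Coh.structureModule Z)
  have hO : Coh.IsCoh O := QCoh.isCoh_push_structure ι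
  have hOs : CohB1.support O ⊆ closure {ξ} :=
    (QCoh.support_push_subset ι QCoh.isQCoh_structureModule).trans hZ.le
  have hξ : ι (genericPoint Z) = ξ := by
    refine ((specializes_iff_mem_closure.2 (?_ : ξ ∈ closure {ι (genericPoint Z)})).antisymm
      (specializes_iff_mem_closure.2 (hZ.le ⟨_, rfl⟩))).eq
    rw [← QCoh.range_eq_closure ι, hZ]
    exact subset_closure rfl
  have hdegZ : SnapLead.δ k ξ = (VarDim.deg (Z ↘ Spec (CommRingCat.of k)) (genericPoint Z) : ℤ) := by
    rw [← hξ, delta_eq_deg]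
    exact_mod_cast (NefCrit.deg_closed (k := k) ι (genericPoint Z)).symm
  rcases Nat.eq_zero_or_pos (VarDim.deg (Z ↘ Spec (CommRingCat.of k)) (genericPoint Z)) with hd0 | hd
  · -- a point
    have hpt : ∀ z : Z, z = genericPoint Z := fun z =>
      (VarDim.eq_of_specializes_of_deg_le (Z ↘ Spec (CommRingCat.of k)) (genericPoint_specializes z)
        (by omega)).symm
    refine ⟨Module.finrank k (Coh.HH Z (Coh.structureModule Z) 0), fun L hL m M hM => ?_⟩
    refine le_trans (le_of_eq ?_) (Nat.le_mul_of_pos_right _ (Nat.choose_pos (by omega)))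
    rw [h0_push ι (InvX.isInvertible_tensorMod hL.1 (isInvertible_tw i (j + m)))
      (hM.trans (by rw [cl_tensor, mul_assoc]; rfl))]
    obtain ⟨U, hU, e, he⟩ := InvX.exists_frame
      (PicClLib.isInvertible_pullback ι (InvX.isInvertible_tensorMod hL.1 (isInvertible_tw i (j + m)))) (genericPoint Z)
    have hU' : U = ⊤ := top_le_iff.1 fun z _ => by rw [hpt z]; exact hU
    subst hU'
    obtain ⟨φ⟩ := H23.TrivBasic.triv_of_frame he
    exact (CurveCohLib.hhEquiv (k := k) φ 0).finrank_eq
  · obtain ⟨r, rfl⟩ : ∃ r', r = r' + 1 := ⟨r - 1, by omega⟩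
    obtain ⟨G, hG, hGs, hseq⟩ := exists_hyp i hO
    have hGξ : ∀ x ∈ CohB1.support G, x ∈ closure {ξ} ∧ x ≠ ξ := fun x hx => by
      obtain ⟨y, hy, hyx, hne⟩ := hGs x hx
      have hξy : ξ ⤳ y := specializes_iff_mem_closure.2 (hOs hy)
      exact ⟨specializes_iff_mem_closure.1 (hξy.trans hyx), fun h => hne (by
        subst h; exact (hyx.antisymm hξy).eq)⟩
    have hGle : Cyc.CohLe (SnapLead.δ k) r G := ⟨hG, fun x hx => by
      obtain ⟨hxc, hne⟩ := hGξ x (mem_support_iff.2 hx)
      have h1 := NefCrit.deg_lt_of_mem_closure (k := k) hxc hne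
      rw [delta_eq_deg] at hr ⊢
      omega⟩
    have hPG : PBd k i G := hsmall G hG (fun x hx => (hGξ x hx).1) fun h => (hGξ ξ h).2 rfl
    have hstep : ∀ L : X.Modules, IsNT k L → ∀ t : ℤ, ∀ M M' N : X.Modules,
        PicF.cl M = PicF.cl O * PicF.cl L * tw i (t - 1) → PicF.cl M' = PicF.cl O * PicF.cl L * tw i t →
        PicF.cl N = PicF.cl G * PicF.cl L * tw i t →
        Module.finrank k (Coh.HH X M' 0) ≤ Module.finrank k (Coh.HH X M 0) + Module.finrank k (Coh.HH X N 0) := by
      intro L hL t M M' N hM hM' hN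
      obtain ⟨S, hS, d1, d2, d3, e1, e2, e3⟩ := hseq _ (InvX.isInvertible_tensorMod hL.1 (isInvertible_tw i t))
      rw [cl_tensor] at e1 e2 e3
      rw [finrank_of_cl (N := S.X₁) (M := M) (by rw [e1, hM, sub_eq_add_neg, tw_add, tw_eq i t]; ac_rfl),
        finrank_of_cl (N := S.X₂) (M := M') (by rw [e2, hM', tw_eq i t, mul_assoc]),
        finrank_of_cl (N := S.X₃) (M := N) (by rw [e3, hN, tw_eq i t, mul_assoc])]
      exact (S17630.bounds k hS d1 d2 d3 0).1
    let mk : X.Modules → X.Modules → ℤ → X.Modules := fun F L t => CohB1.tensorMod F (CohB1.tensorMod L (twMod i t))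
    have hmk : ∀ F L t, PicF.cl (mk F L t) = PicF.cl F * PicF.cl L * tw i t := fun F L t => by
      show PicF.cl (CohB1.tensorMod F (CohB1.tensorMod L (twMod i t))) = _
      rw [cl_tensor, cl_tensor, mul_assoc]
      rfl
    have hneg : ∀ L : X.Modules, IsNT k L → ∀ t : ℤ, t < 0 → ∀ M : X.Modules,
        PicF.cl M = PicF.cl O * PicF.cl L * tw i t → Module.finrank k (Coh.HH X M 0) = 0 := by
      intro L hL t ht M hM
      have hA := InvX.isInvertible_tensorMod hL.1 (isInvertible_tw i t)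
      rw [h0_push ι hA (hM.trans (by rw [cl_tensor, mul_assoc]; rfl))]
      refine h0_eq_zero_of_neg k hd (PicClLib.isInvertible_pullback ι hA) fun Y κ _ hY hYd => ?_
      haveI := hY
      have h1 := curveDeg_tensor k (κ ≫ ι) hYd hL.1 (isInvertible_tw i t)
      rw [hL.2 Y (κ ≫ ι) hY hYd, zero_add] at h1
      have h2 := curveDeg_tw_neg i (κ ≫ ι) hYd ht
      rw [← h1, Category.assoc] at h2
      refine lt_of_eq_of_lt ?_ h2
      exact curveDeg_congr k _ ((Scheme.Modules.pullbackComp κ ι).app _)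
    obtain ⟨B', hB'⟩ := hPG r hGle (j + 1)
    obtain ⟨B'', hB''⟩ := hPG r hGle 0
    let B₀ := B'' * ((j + 1).toNat + (r + 1)).choose (r + 1)
    have hbase : ∀ L : X.Modules, IsNT k L → ∀ M, PicF.cl M = PicF.cl O * PicF.cl L * tw i j →
        Module.finrank k (Coh.HH X M 0) ≤ B₀ := by
      intro L hL M hM
      rcases lt_or_ge j 0 with hj | hj
      · rw [hneg L hL j hj M hM]
        exact Nat.zero_le _
      have key : ∀ t : ℕ, Module.finrank k (Coh.HH X (mk O L ((t : ℤ) - 1)) 0) ≤
          B'' * ∑ l ∈ Finset.range t, (l + r).choose r := by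
        intro t
        induction t with
        | zero => rw [hneg L hL (-1) (by norm_num) _ (by rw [hmk]; norm_num)]; exact Nat.zero_le _
        | succ t ih =>
          rw [Finset.sum_range_succ, mul_add]
          refine (hstep L hL t _ _ _ (hmk O L _) (?_) (hmk G L _)).trans
            (add_le_add ih (hB'' L hL t _ ((hmk G L _).trans (by rw [zero_add]))))
          rw [hmk]
          push_cast
          rw [add_sub_cancel_right]
      have h := key (j + 1).toNat
      rw [finrank_of_cl (M := mk O L (((j + 1).toNat : ℤ) - 1)) (N := M) (by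
        rw [hmk, hM, show (((j + 1).toNat : ℤ) - 1) = j by omega])] at h
      exact h.trans (Nat.mul_le_mul_left _ (sum_choose r _))
    refine ⟨B₀ + B', fun L hL m M hM => ?_⟩
    have key : ∀ m : ℕ, Module.finrank k (Coh.HH X (mk O L (j + m)) 0) ≤
        B₀ + B' * ∑ l ∈ Finset.range m, (l + r).choose r := by
      intro m
      induction m with
      | zero => exact (hbase L hL _ (by rw [hmk]; simp)).trans (Nat.le_add_right _ _)
      | succ m ih =>
        rw [Finset.sum_range_succ, mul_add, ← add_assoc]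
        refine (hstep L hL (j + (m + 1 : ℕ)) _ _ _ (hmk O L _) (hmk O L _) (hmk G L _)).trans
          (add_le_add ?_ (hB' L hL m _ ((hmk G L _).trans (by push_cast; ring_nf))))
        rw [show j + ((m + 1 : ℕ) : ℤ) - 1 = j + m by push_cast; ring]
        exact ih
    rw [finrank_of_cl (N := mk O L (j + m)) (by rw [hmk, hM])]
    refine (key m).trans ?_
    rw [add_mul]
    exact add_le_add (Nat.le_mul_of_pos_right _ (Nat.choose_pos (by omega))) (Nat.mul_le_mul_left _ (sum_choose r m))

/-- Numerically trivial twists have boundedly many sections. -/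
theorem exists_bd [Infinite k] {F : X.Modules} (hF : Coh.IsCoh F) : PBd k i F := by
  haveI := CurveCohLib.isNoetherian_of_proper (k := k) (X := X)
  refine QCoh.devissage_ideals (PBd k i) (pBd_iso i) (pBd_zero i) Set.univ
    (fun S hS c1 c2 c3 h1 h3 => pBd_ext i S hS c1 c2 c3 h1 h3)
    (fun ξ _ hsmall Z ι _ _ hZ I θ hθ hI hI0 r hr j => ?_) hF (Set.subset_univ _)
  haveI := hθ
  haveI : IsLocallyNoetherian Z := LocallyOfFiniteType.isLocallyNoetherian ι
  haveI : Mono ((Coh.push ι).map θ) := Functor.map_mono _ θ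
  have hξ : ξ ∈ CohB1.support ((Coh.push ι).obj I) := by
    rw [QCoh.support_push_ideal ι θ hI hI0, ← QCoh.range_eq_closure ι, hZ]
    exact subset_closure rfl
  obtain ⟨B, hB⟩ := exists_bd_push i hsmall Z ι hZ (hr.2 ξ (mem_support_iff.1 hξ)) j
  exact ⟨B, pBd_of_mono i ((Coh.push ι).map θ) hr.1 (QCoh.isCoh_push_structure ι) hB⟩

end Groth.Agent.Pic13Lib.NumTriv
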