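import Groth.Agent.Pic13Lib.AlgEqEuler
import Groth.Agent.Pic13Lib.NumTrivBasic
import Groth.Agent.CurveCohLib.PointTwist
import Groth.Agent.CurveCohLib.SmoothCurve
import Groth.Agent.RelCurveDiv.AddPoint
import Groth.Agent.RelCurveDiv.Flags
import Groth.Agent.CurveFin.RelDim
import Groth.Agent.CurveEmbed.Equiv
import Groth.Agent.H26.InterDiv
import Groth.Agent.Lib.AVPicMul
import Groth.Agent.Lib.AVDual
import Groth.Agent.Lib.CurveDualPrep

/-!
# Algebraic equivalence on a smooth proper curve
-/

set_option autoImplicit false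
set_option linter.style.haveILetI false
set_option linter.unusedSectionVars false
set_option backward.isDefEq.respectTransparency false
set_option backward.isDefEq.respectTransparency.types false

universe u

open CategoryTheory CategoryTheory.Limits AlgebraicGeometry TopologicalSpace Opposite
open Groth.Agent.PnCoh.Finite (mapLin)

namespace Groth.Agent.Pic13Lib.CurveAlgEq

open Groth.Agent Groth.Agent.H23 Groth.Agent.H23.PicMul Groth.Agent.H26
open scoped Groth.Agent.H23.PicMul

attribute [local instance] PicMul.clMonoid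

noncomputable section

variable {k : Type u} [Field k] {X : Scheme.{u}} [X.Over (Spec (CommRingCat.of k))]

/-- A class is algebraically equivalent to zero. -/
def AE (k : Type u) [Field k] {X : Scheme.{u}} [X.Over (Spec (CommRingCat.of k))] (c : PicF.Cl X) : Prop :=
  ∃ M : X.Modules, PicF.cl M = c ∧ Pic13.IsAlgEquivZero k X M

theorem AE.of_mem {c : PicF.Cl X} (h : AE k c) {L : X.Modules} (hL : PicF.cl L = c) :
    Pic13.IsAlgEquivZero k X L := by
  obtain ⟨M, hM, hA⟩ := h
  exact AVDual.algEquivZero_of_iso (PicMul.cl_eq_iff.1 (hM.trans hL.symm)).some hA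

theorem AE.one : AE k (1 : PicF.Cl X) := ⟨_, rfl, AVDual.algEquivZero_structure X⟩

theorem AE.mul {c d : PicF.Cl X} (hc : AE k c) (hd : AE k d) : AE k (c * d) := by
  obtain ⟨M, rfl, hM⟩ := hc
  obtain ⟨N, rfl, hN⟩ := hd
  exact ⟨_, PicMul.cl_tensor M N, AVPicMul.algEquivZero_tensor hM hN⟩

/-- If `H⁰` of the first two terms have the same dimension, the second map kills all sections. -/
theorem mapLin_zero_of_mono {A B C : X.Modules} (f : A ⟶ B) (g : B ⟶ C) (w : f ≫ g = 0)
    (hS : (ShortComplex.mk f g w).ShortExact)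
    [Module.Finite k (Coh.HH X A 0)] [Module.Finite k (Coh.HH X B 0)]
    (h : Module.finrank k (Coh.HH X A 0) = Module.finrank k (Coh.HH X B 0)) (t : Coh.HH X B 0) :
    mapLin k g 0 t = 0 := by
  obtain ⟨o, rfl⟩ := (LinearMap.injective_iff_surjective_of_finrank_eq_finrank h).1
    (CurveCohLib.mapLin_f_zero_injective (A := k) hS) t
  exact CurveCohLib.mapLin_comp_eq_zero (A := k) (S := ShortComplex.mk f g w) 0 o

section Slice

/-- The pullback of the diagonal along a slice is the point. -/
theorem ker_diag_comap_slice [IsSeparated (X ↘ Spec (CommRingCat.of k))]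
    (t : Spec (CommRingCat.of k) ⟶ X) (ht : t ≫ (X ↘ Spec (CommRingCat.of k)) = 𝟙 _) :
    (pullback.diagonal (X ↘ Spec (CommRingCat.of k))).ker.comap
        (Pic13.sliceAt k X (X ↘ Spec (CommRingCat.of k)) t ht) = t.ker := by
  let f := X ↘ Spec (CommRingCat.of k)
  let Δ : X ⟶ pullback f f := pullback.diagonal f
  let j : X ⟶ pullback f f := Pic13.sliceAt k X f t ht
  haveI : IsClosedImmersion Δ := IsSeparated.isClosedImmersion_diagonal
  have hj1 : j ≫ pullback.fst f f = 𝟙 X := pullback.lift_fst _ _ _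
  have hj2 : j ≫ pullback.snd f f = f ≫ t := pullback.lift_snd _ _ _
  have hw : t ≫ j = t ≫ Δ := by
    refine pullback.hom_ext ?_ ?_
    · rw [Category.assoc, Category.assoc, hj1, pullback.diagonal_fst]
    · rw [Category.assoc, Category.assoc, hj2, pullback.diagonal_snd, reassoc_of% ht,
        Category.comp_id]
  have hlim : IsLimit (PullbackCone.mk t t hw) := by
    refine PullbackCone.IsLimit.mk _ (fun s => s.fst ≫ f) (fun s => ?_) (fun s => ?_) (fun s m h1 _ => ?_)
    · have h1 : (s.fst ≫ j) ≫ pullback.fst f f = (s.snd ≫ Δ) ≫ pullback.fst f f :=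
        congrArg (fun m => m ≫ pullback.fst f f) s.condition
      have h2 : (s.fst ≫ j) ≫ pullback.snd f f = (s.snd ≫ Δ) ≫ pullback.snd f f :=
        congrArg (fun m => m ≫ pullback.snd f f) s.condition
      rw [Category.assoc, Category.assoc, hj1, pullback.diagonal_fst, Category.comp_id, Category.comp_id] at h1
      rw [Category.assoc, Category.assoc, hj2, pullback.diagonal_snd, Category.comp_id] at h2
      rw [Category.assoc, h2, h1]
    · have h2 : (s.fst ≫ j) ≫ pullback.snd f f = (s.snd ≫ Δ) ≫ pullback.snd f f :=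
        congrArg (fun m => m ≫ pullback.snd f f) s.condition
      rw [Category.assoc, Category.assoc, hj2, pullback.diagonal_snd, Category.comp_id] at h2
      rw [Category.assoc, h2]
    · rw [← h1, Category.assoc, ht, Category.comp_id]
  have H : IsPullback t t j Δ := IsPullback.of_isLimit hlim
  show Δ.ker.comap j = t.ker
  rw [← Scheme.IdealSheafData.ker_fst_of_isClosedImmersion, ← H.isoPullback_hom_fst,
    Scheme.Hom.ker_comp_of_isIso]

end Slice

variable [IsAlgClosed k] [IsIntegral X] [IsProper (X ↘ Spec (CommRingCat.of k))]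
  [Smooth (X ↘ Spec (CommRingCat.of k))]

/-- The diagonal of a smooth curve is an effective Cartier divisor. -/
theorem isEffCartier_diag (hdim : topologicalKrullDim X = 1) :
    BlowUp.IsEffCartierIdeal (pullback.diagonal (X ↘ Spec (CommRingCat.of k))).ker := by
  let f := X ↘ Spec (CommRingCat.of k)
  haveI : SmoothOfRelativeDimension 1 f := CurveFin.smoothOfRelativeDimension_of_dim f hdim
  haveI := RelCurveDiv.smooth_XTproj f (Over.mk f)
  exact RelCurveDiv.isEffCartier_of_isDiv (PicF.XTproj f (Over.mk f))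
    (RelCurveDiv.secGraph_deg f (Over.mk f) (𝟙 X) (Category.id_comp f))

/-- Two points are algebraically equivalent. -/
theorem ae_points (hdim : topologicalKrullDim X = 1) (x y : X) (hx : IsClosed ({x} : Set X))
    (hy : IsClosed ({y} : Set X)) {J : X.Modules} (hJ : PicF.IsInvertible J)
    (h : PicF.cl (CurvePoint.ptMod y hy) * PicF.cl J = 1) :
    AE k (PicF.cl (CurvePoint.ptMod x hx) * PicF.cl J) := by
  classical
  let f := X ↘ Spec (CommRingCat.of k)
  let t : Spec (CommRingCat.of k) ⟶ X := pointOfClosedPoint f x hx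
  let t₀ : Spec (CommRingCat.of k) ⟶ X := pointOfClosedPoint f y hy
  have ht : t ≫ f = 𝟙 _ := pointOfClosedPoint_comp f x hx
  have ht₀ : t₀ ≫ f = 𝟙 _ := pointOfClosedPoint_comp f y hy
  have hD := isEffCartier_diag (k := k) hdim
  let I := (pullback.diagonal f).ker
  let M := CohB1.tensorMod (ClSub.idealMod I) ((Scheme.Modules.pullback (pullback.fst f f)).obj J)
  have key : ∀ (z : X) (hz : IsClosed ({z} : Set X)) (s : Spec (CommRingCat.of k) ⟶ X) (hs : s ≫ f = 𝟙 _),
      s (IsLocalRing.closedPoint k) = z →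
      PicF.cl (Pic13.fibreMod k X f s hs M) = PicF.cl (CurvePoint.ptMod z hz) * PicF.cl J := by
    intro z hz s hs hsz
    subst hsz
    obtain ⟨hz', hker, -⟩ := CurveEmbed.section_point k s hs
    have hcomap : I.comap (Pic13.sliceAt k X f s hs) = CurvePoint.ptIdeal (s (IsLocalRing.closedPoint k)) hz :=
      (ker_diag_comap_slice s hs).trans hker
    have hpt : BlowUp.IsEffCartierIdeal (CurvePoint.ptIdeal (s (IsLocalRing.closedPoint k)) hz) :=
      (S8914.result _).1 (CurvePoint.isInvertible_ptMod _ hz k hdim)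
    obtain ⟨e⟩ := InterDiv.nonempty_pullback_idealMod (Pic13.sliceAt k X f s hs) I hD
      (hcomap.symm ▸ hpt)
    rw [hcomap] at e
    show PicF.pullCl (Pic13.sliceAt k X f s hs) (PicF.cl M) = _
    rw [PicMul.cl_tensor, PicMul.pullCl_mul]
    refine congrArg₂ (· * ·) (PicMul.cl_eq_iff.2 ⟨e⟩) ?_
    show PicF.pullCl (Pic13.sliceAt k X f s hs) (PicF.pullCl (pullback.fst f f) (PicF.cl J)) = _
    rw [PicClLib.pullCl_comp, sliceAt_fst, PicClLib.pullCl_id]
  refine ⟨Pic13.fibreMod k X f t ht M, key x hx t ht (pointOfClosedPoint_apply f x hx _),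
    X, f, inferInstance, inferInstance, inferInstance, M,
    PicMul.isInvertible_tensor (IdealCl.isInvertible_idealMod hD) (PicClLib.isInvertible_pullback _ hJ),
    t, t₀, ht, ht₀, ⟨Iso.refl _⟩, ?_⟩
  refine PicMul.cl_eq_iff.1 ?_
  rw [key y hy t₀ ht₀ (pointOfClosedPoint_apply f y hy _), h]
  exact PicMul.one_def

theorem deg_tensorMod (hdim : topologicalKrullDim X = 1) {L M : X.Modules} (hL : PicF.IsInvertible L)
    (hM : PicF.IsInvertible M) :
    Curv2.deg k X (CohB1.tensorMod L M) 1 = Curv2.deg k X L 1 + Curv2.deg k X M 1 :=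
  CurveRR.deg_tensor k hdim hL hM

/-- An effective class of positive degree loses a point. -/
theorem exists_pt (hdim : topologicalKrullDim X = 1) {N : X.Modules} (hN : PicF.IsInvertible N)
    (hd : 0 < Curv2.deg k X N 1) (h : Module.finrank k (Coh.HH X N 0) ≠ 0) :
    ∃ (p : X) (hp : IsClosed ({p} : Set X)),
      Module.finrank k (Coh.HH X (CohB1.tensorMod N (CurvePoint.ptMod p hp)) 0) ≠ 0 := by
  classical
  haveI := CurveCohLib.isNoetherian_of_proper (k := k) (X := X)
  by_contra hcon
  push Not at hcon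
  have hlt : ∀ (p : X) (hp : IsClosed ({p} : Set X)),
      Module.finrank k (Coh.HH X ((DCoh.tensorBi.obj N).obj (CurvePoint.ptMod p hp)) 0) <
        Module.finrank k (Coh.HH X N 0) := fun p hp => by
    have := hcon p hp
    exact lt_of_eq_of_lt this (Nat.pos_of_ne_zero h)
  obtain ⟨S, hS, hcl⟩ := CurveSection.exists_closed_finset k (X := X) hdim 1
  obtain ⟨p, hp⟩ := Finset.card_pos.1 (show 0 < S.card by omega)
  have h1 : Module.finrank k (Coh.HH X N 0) = 1 := by
    have h2 := CurveCohLib.PointTwist.h0_le k hN p (hcl p hp)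
    have h3 : Module.finrank k (Coh.HH X ((DCoh.tensorBi.obj N).obj (CurvePoint.ptMod p (hcl p hp))) 0) = 0 :=
      hcon p (hcl p hp)
    omega
  have hgg := CurveCohLib.PointTwist.gg_of_lt k hN hdim hlt
  obtain ⟨s, hs⟩ := CurveRR.exists_hom_ne_zero (P := N) k h
  haveI : Mono s := InvEnd.mono_of_ne_zero CurveDeg.isInvertible_structureModule hN s hs
  haveI : Module.Finite k (Coh.HH X (Coh.structureModule X) 0) := CurveCohLib.finite_HH QCoh.isCoh_structureModule' 0
  haveI : Module.Finite k (Coh.HH X N 0) := CurveCohLib.finite_HH (CurveDeg.isCoh_of_isInvertible hN) 0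
  have hπ : cokernel.π s = 0 := CurveCohLib.PointTwist.eq_zero_of_gg k hgg _
    (mapLin_zero_of_mono s (cokernel.π s) (cokernel.condition s)
      { exact := ShortComplex.exact_of_g_is_cokernel _ (cokernelIsCokernel s) }
      ((CurveCohLib.finrank_h0_eq_one k X).trans h1.symm))
  haveI : Epi s := Preadditive.epi_of_cokernel_zero hπ
  haveI : IsIso s := isIso_of_mono_of_epi s
  have := CurveRR.deg_congr k (asIso s) 1
  rw [CurveDeg.deg_structureModule] at this
  omega

/-- Effective classes of degree `n` are algebraically equivalent to `n` times a point. -/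
theorem ae_effective (hdim : topologicalKrullDim X = 1) (y : X) (hy : IsClosed ({y} : Set X)) :
    ∀ (n : ℕ) (N : X.Modules), PicF.IsInvertible N → Curv2.deg k X N 1 = n →
      Module.finrank k (Coh.HH X N 0) ≠ 0 →
      AE k (PicF.cl N * PicF.cl (CurvePoint.ptMod y hy) ^ n) := by
  intro n
  induction n with
  | zero =>
    intro N hN hd h
    obtain ⟨s, hs⟩ := CurveRR.exists_hom_ne_zero (P := N) k h
    obtain ⟨-, h2⟩ := CurveDeg.deg_le_and_isIso k hdim.le CurveDeg.isInvertible_structureModule hN s hs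
    haveI := h2 (by rw [CurveDeg.deg_structureModule, hd]; simp)
    rw [pow_zero, mul_one, ← PicMul.cl_eq_iff.2 ⟨asIso s⟩]
    exact AE.one
  | succ n ih =>
    intro N hN hd h
    obtain ⟨p, hp, hp0⟩ := exists_pt hdim hN (by omega) h
    have hI := CurvePoint.isInvertible_ptMod p hp k hdim
    have h1 := ih (CohB1.tensorMod N (CurvePoint.ptMod p hp)) (PicMul.isInvertible_tensor hN hI) (by
      rw [deg_tensorMod hdim hN hI, CurvePoint.deg_ptMod p hp k, hd]; push_cast; ring) hp0
    obtain ⟨J, hJ, ⟨e⟩⟩ := PicInv.exists_inverse hI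
    have hJ1 : PicF.cl (CurvePoint.ptMod p hp) * PicF.cl J = 1 :=
      (PicMul.cl_tensor _ _).symm.trans ((PicMul.cl_eq_iff.2 ⟨e⟩).trans PicMul.one_def.symm)
    have h2 := h1.mul (ae_points hdim y p hy hp hJ hJ1)
    rw [PicMul.cl_tensor] at h2
    convert h2 using 1
    calc PicF.cl N * PicF.cl (CurvePoint.ptMod y hy) ^ (n + 1)
        = (PicF.cl (CurvePoint.ptMod p hp) * PicF.cl J) *
            (PicF.cl N * PicF.cl (CurvePoint.ptMod y hy) ^ (n + 1)) := by rw [hJ1, one_mul]
      _ = _ := by rw [pow_succ]; ac_rfl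

/-- A class of degree zero is algebraically equivalent to zero. -/
theorem isAlgEquivZero_of_deg_zero (hdim : topologicalKrullDim X = 1) {L : X.Modules} (hL : PicF.IsInvertible L)
    (hd : Curv2.deg k X L 1 = 0) : Pic13.IsAlgEquivZero k X L := by
  haveI := CurveCohLib.isNoetherian_of_proper (k := k) (X := X)
  obtain ⟨S, hS, hcl⟩ := CurveSection.exists_closed_finset k (X := X) hdim 1
  obtain ⟨y, hy'⟩ := Finset.card_pos.1 (show 0 < S.card by omega)
  have hy := hcl y hy'
  have hI := CurvePoint.isInvertible_ptMod y hy k hdim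
  obtain ⟨J, hJ, ⟨e⟩⟩ := PicInv.exists_inverse hI
  have hJ1 : PicF.cl (CurvePoint.ptMod y hy) * PicF.cl J = 1 :=
    (PicMul.cl_tensor _ _).symm.trans ((PicMul.cl_eq_iff.2 ⟨e⟩).trans PicMul.one_def.symm)
  have hdJ : Curv2.deg k X J 1 = 1 := by
    have h1 := deg_tensorMod (k := k) hdim hI hJ
    rw [show Curv2.deg k X (CohB1.tensorMod (CurvePoint.ptMod y hy) J) 1 = 0 from
      (CurveRR.deg_congr k e 1).trans (CurveDeg.deg_structureModule k), CurvePoint.deg_ptMod y hy k] at h1
    omega
  let m : ℕ := (1 - Curv2.euler k X (Coh.structureModule X)).toNat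
  let P := CohB1.tensorPow J m
  have hP : PicF.IsInvertible P := PicMul.isInvertible_tensorPow hJ m
  have hdP : Curv2.deg k X P 1 = m := by
    have := CurveAmple.deg_tensorPow (k := k) hdim hJ m
    rw [hdJ] at this
    simpa using this
  let N := CohB1.tensorMod L P
  have hN : PicF.IsInvertible N := PicMul.isInvertible_tensor hL hP
  have hdN : Curv2.deg k X N 1 = m := by rw [deg_tensorMod hdim hL hP, hd, hdP, zero_add]
  have h0 : Module.finrank k (Coh.HH X N 0) ≠ 0 := by
    have h1 := CurveSlope.euler_le_h0 k hdim.le (CurveDeg.isCoh_of_isInvertible hN)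
    have h2 := hdN
    unfold Curv2.deg at h2
    simp only [Nat.cast_one, one_mul] at h2
    have h3 : (1 - Curv2.euler k X (Coh.structureModule X)) ≤ (m : ℤ) := Int.self_le_toNat _
    omega
  refine (ae_effective hdim y hy m N hN hdN h0).of_mem ?_
  rw [PicMul.cl_tensor, PicMul.cl_tensorPow, mul_assoc, ← mul_pow, mul_comm (PicF.cl J), hJ1, one_pow, mul_one]

end

end Groth.Agent.Pic13Lib.CurveAlgEq
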