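import Groth.Agent.Pic13Lib.BoundedRegular
import Groth.Agent.AmpleVan.Vanish

/-!
# Regular sheaves with boundedly many sections are quotients of one coherent sheaf
-/

set_option autoImplicit false
set_option linter.style.haveILetI false
set_option linter.unusedSectionVars false
set_option backward.isDefEq.respectTransparency false
set_option backward.isDefEq.respectTransparency.types false
set_option maxHeartbeats 4000000

universe u

open CategoryTheory CategoryTheory.Limits AlgebraicGeometry
open Groth.Agent.H23 Groth.Agent.H23.PicMul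

attribute [local instance] PicMul.clMonoid

noncomputable section

namespace Groth.Agent.Pic13Lib

/-- The regular sheaves whose twist has boundedly many sections are quotients of a fixed coherent sheaf. -/
theorem exists_generator_regular (k : Type u) [Field k] (n : ℕ) (X : Scheme.{u}) [X.Over (Spec (CommRingCat.of k))]
    (i : X ⟶ CohB1.ProjSpace n k) [IsClosedImmersion i] (hi : i ≫ CohB1.ProjSpace.toSpec n k = X ↘ Spec (CommRingCat.of k))
    (m : ℤ) (N : ℕ) :
    ∃ E₀ : X.Modules, Coh.IsCoh E₀ ∧ ∀ F : X.Modules, Coh.IsCoh F → Pic13.IsMRegular k i F m →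
      Module.finrank k (Coh.HH X (Pic13.twistOn k i F m) 0) ≤ N → ∃ q : E₀ ⟶ F, Epi q := by
  classical
  haveI := Pic13Lib.isProper_of_closed i hi
  haveI := CurveCohLib.isNoetherian_of_proper (k := k) (X := X)
  letI : (Proj (CohB1.polyGrading n k)).Over (Spec (CommRingCat.of k)) := ⟨CohB1.ProjSpace.toSpec n k⟩
  haveI : IsProper ((Proj (CohB1.polyGrading n k)) ↘ Spec (CommRingCat.of k)) := PnCoh.Chow.isProper_toSpec n _
  haveI hP : IsNoetherian (Proj (CohB1.polyGrading n k)) := Proj16.isNoetherian_proj _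
  let EP := (RegEpi.twF (k := k) (n := n) 1).obj (FlatMod.freeMod (Proj (CohB1.polyGrading n k)) N)
  let L' := (Scheme.Modules.pullback i).obj (Twist.twistProjSpace n k (-(m + 1)))
  let E : X.Modules := (Scheme.Modules.pullback i).obj EP
  have hEP : Coh.IsCoh EP := ProjRegular.isCoh_twistBy (k := k) (n := n) (Syzygy.isCoh_sigma_O N) 1
  have hE : Coh.IsCoh E := by
    haveI : IsLocallyNoetherian (CohB1.ProjSpace n k) := hP.toIsLocallyNoetherian
    exact ZClosLib.isCoh_pullback i hEP
  have hLi := PicClLib.isInvertible_pullback i (DualRange.isInvertible_pn (k := k) (N := n) (-(m + 1)))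
  refine ⟨CohB1.tensorMod E L', AmpleVan.isCoh_tensor hE (AmpleVan.isCoh_invertible hLi), fun F hF hreg hN0 => ?_⟩
  let M := Pic13.twistOn k i F m
  let iF := (Scheme.Modules.pushforward i).obj F
  let G : (CohB1.ProjSpace n k).Modules := CohB1.tensorMod iF (Twist.twistProjSpace n k m)
  have hiF : Coh.IsCoh iF := Pic13Regular.isCoh_pushF i hF
  have hG : Coh.IsCoh G := ProjRegular.isCoh_twistBy hiF m
  have hR : ProjRegular.Reg0 (𝒜 := CohB1.polyGrading n k) G := Pic13Regular.reg0_of_isMRegular i hF hreg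
  have hN : Module.finrank k (Coh.HH (Proj (CohB1.polyGrading n k)) G 0) ≤ N := by
    obtain ⟨e⟩ := Pic13Regular.push_twistOn i F m
    have h1 : Module.finrank k (Coh.HH (CohB1.ProjSpace n k) G 0) = Module.finrank k (Coh.HH X M 0) :=
      (NormalLib.hhIso (A := k) e.symm 0).finrank_eq.trans (finrank_push i hi (Pic13Regular.isCoh_twistOn i hF m).1)
    exact h1.trans_le hN0
  obtain ⟨τ, ⟨e₁⟩⟩ := exists_presentation hG hR hN
  obtain ⟨e₂⟩ := nonempty_coker_pullback i τ
  obtain ⟨eF⟩ : Nonempty (CohB1.tensorMod ((Scheme.Modules.pullback i).obj ((RegEpi.twF (k := k) (n := n) 1).obj G)) L' ≅ F) := by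
    obtain ⟨t1⟩ := PnCoh.Finite.twist_tensor_iso (ProjRegular.coords k n) ProjRegular.coords_mem ProjRegular.coords_cover m 1
    obtain ⟨t2⟩ := DualRange.nonempty_twist_inverse i (m + 1)
    have h1 : PicF.cl (Twist.twistProjSpace n k m) * PicF.cl (Twist.twistProjSpace n k 1) =
        PicF.cl (Twist.twistProjSpace n k (m + 1)) := (cl_tensor _ _).symm.trans (cl_eq_iff.2 ⟨t1⟩)
    have h2 : PicF.pullCl i (PicF.cl (Twist.twistProjSpace n k (m + 1))) * PicF.cl L' = 1 :=
      (cl_tensor _ _).symm.trans (cl_eq_iff.2 ⟨t2⟩)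
    haveI := AmpleVan.faithful_push i
    rw [← cl_eq_iff]
    show PicF.cl (CohB1.tensorMod _ L') = _
    rw [cl_tensor]
    show PicF.pullCl i (PicF.cl (CohB1.tensorMod (CohB1.tensorMod iF (Twist.twistProjSpace n k m)) (Twist.twistProjSpace n k 1))) * _ = _
    rw [cl_tensor, cl_tensor, mul_assoc (PicF.cl iF), h1, PicMul.pullCl_mul, mul_assoc, h2, mul_one]
    haveI := isIso_counit_closed i F hiF.1
    exact cl_eq_iff.2 ⟨asIso ((Scheme.Modules.pullbackPushforwardAdjunction i).counit.app F)⟩
  haveI := AmpleVan.isEquivalence_tw hLi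
  exact ⟨(AmpleVan.tw L').map (cokernel.π _ ≫ (e₂.symm ≪≫ (Scheme.Modules.pullback i).mapIso e₁).hom) ≫ eF.hom,
    inferInstance⟩

end Groth.Agent.Pic13Lib
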