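import Groth.Agent.Pic13Lib.SectDivisor
import Groth.Agent.ProjUPX.TwistFrame
import Groth.Agent.InvX.GenEpi
import Groth.Agent.Lib.ProjRegularPn
import Mathlib.GroupTheory.CosetCover

/-!
# A hyperplane avoiding finitely many points
-/

set_option autoImplicit false
set_option linter.style.haveILetI false
set_option linter.unusedSectionVars false
set_option backward.isDefEq.respectTransparency false
set_option backward.isDefEq.respectTransparency.types false
set_option maxHeartbeats 1000000

universe u

open CategoryTheory CategoryTheory.Limits AlgebraicGeometry TopologicalSpace Opposite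

noncomputable section

namespace Groth.Agent.Pic13Lib

variable (k : Type u) [Field k] [Infinite k] (n : ℕ)

/-- A section of `O(1)` which is a frame near finitely many given points. -/
theorem exists_hyperplane_avoid' {S : Set ↥(Proj (CohB1.polyGrading n k))} (hS : S.Finite) :
    ∃ s : Coh.structureModule (Proj (CohB1.polyGrading n k)) ⟶ Twist.twist (CohB1.polyGrading n k) 1,
      ∀ y ∈ S, ∃ U : (Proj (CohB1.polyGrading n k)).Opens, y ∈ U ∧ InvX.IsFrame (ZeroSchX.sv s U) := by
  classical
  let lin : (Fin (n + 1) → k) →ₗ[k] MvPolynomial (Fin (n + 1)) k :=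
    Fintype.linearCombination k fun i => (MvPolynomial.X i : MvPolynomial (Fin (n + 1)) k)
  have hdeg : ∀ c, lin c ∈ CohB1.polyGrading n k 1 := fun c => by
    rw [Fintype.linearCombination_apply]
    exact Submodule.sum_mem _ fun i _ => Submodule.smul_mem _ _ (MvPolynomial.isHomogeneous_X k i)
  let W : S → Submodule k (Fin (n + 1) → k) := fun y =>
    ((y.1.asHomogeneousIdeal.toIdeal).restrictScalars k).comap lin
  obtain ⟨c, hc⟩ : ∃ c, ∀ y, c ∉ W y := by
    haveI := hS.to_subtype
    by_contra! h
    obtain ⟨y, hy⟩ := Subspace.exists_eq_top_of_iUnion_eq_univ (p := W)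
      (Set.eq_univ_of_forall fun c => Set.mem_iUnion.2 (h c))
    obtain ⟨⟨j⟩, hj⟩ := Opens.mem_iSup.1 (ProjRegular.coords_cover.ge (show y.1 ∈ (⊤ : (Proj (CohB1.polyGrading n k)).Opens) from trivial))
    refine hj ?_
    have h1 : (Pi.single j 1 : Fin (n + 1) → k) ∈ W y := hy ▸ Submodule.mem_top
    have h2 : lin (Pi.single j 1) = MvPolynomial.X j := by
      rw [Fintype.linearCombination_apply_single, one_smul]
    rw [Submodule.mem_comap, h2] at h1
    exact h1
  let t := ProjUPX.sec (CohB1.polyGrading n k) (hdeg c)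
  refine ⟨InvX.ofSect t, fun y hy => ⟨Proj.basicOpen _ (lin c), fun h => hc ⟨y, hy⟩ h, ?_⟩⟩
  have h3 : ZeroSchX.sv (InvX.ofSect t) (Proj.basicOpen (CohB1.polyGrading n k) (lin c)) =
      AModX.res _ (le_top : Proj.basicOpen (CohB1.polyGrading n k) (lin c) ≤ ⊤) t :=
    (ZeroSchX.res_sv (InvX.ofSect t) (le_top : Proj.basicOpen (CohB1.polyGrading n k) (lin c) ≤ ⊤)).symm.trans
      (congrArg _ (InvX.one_ofSect t))
  rw [h3]
  exact ProjUPX.isFrame_sec _ (hdeg c)

/-- The same, for projective space. -/
theorem exists_hyperplane_avoid {S : Set ↥(CohB1.ProjSpace n k)} (hS : S.Finite) :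
    ∃ s : Coh.structureModule (CohB1.ProjSpace n k) ⟶ Twist.twistProjSpace n k 1,
      ∀ y ∈ S, ∃ U : (CohB1.ProjSpace n k).Opens, y ∈ U ∧ InvX.IsFrame (ZeroSchX.sv s U) :=
  exists_hyperplane_avoid' k n (S := S) hS

end Groth.Agent.Pic13Lib
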