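import Groth.Agent.Pic13Lib.HypRestrict
import Groth.Agent.CurveCohLib.Euler
import Groth.Agent.InvX.GenLocus
import Groth.Agent.InvX.Tensor
import Groth.Agent.DivX.MeroMod
import Groth.Agent.H26.IdealCl
import Groth.Agent.PPSheaf.Gr
import Groth.Agent.H23.PicInv
import Groth.Agent.QCoh.TensorUnit

/-!
# Invertible modules under a square zero thickening
-/

set_option autoImplicit false
set_option linter.style.haveILetI false
set_option linter.unusedSectionVars false
set_option backward.isDefEq.respectTransparency false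
set_option backward.isDefEq.respectTransparency.types false
set_option maxHeartbeats 1000000

universe u

open CategoryTheory CategoryTheory.Limits AlgebraicGeometry TopologicalSpace Opposite
open Groth.Agent.KFlatLib
open Groth.Agent.H23 Groth.Agent.H23.PicMul
open Groth.Agent.PnCoh.Finite (mapLin deltaLin)

attribute [local instance] PicMul.clMonoid

noncomputable section

namespace Groth.Agent.Pic13Lib.SqZero

open Groth.Agent

variable {X : Scheme.{u}} (I : X.IdealSheafData)

/-- The cokernel of multiplication by an ideal is the restriction. -/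
theorem nonempty_cokernel (F : X.Modules) :
    Nonempty (cokernel (DivisorExt.mulIdeal I F) ≅
      (Scheme.Modules.pushforward I.subschemeι).obj ((Scheme.Modules.pullback I.subschemeι).obj F)) := by
  obtain ⟨e⟩ := DivisorExt.nonempty_cokernel_mulIdeal I F
  obtain ⟨eq⟩ := DivisorExt.nonempty_quotMod_iso I.subschemeι
  rw [Scheme.IdealSheafData.ker_subschemeι] at eq
  haveI := KFlatLib.isIso_projMod_of_isClosedImmersion I.subschemeι (Coh.structureModule I.subscheme) F
  exact ⟨e ≪≫ (DCoh.tensorBi.obj F).mapIso eq ≪≫ (PicMul.comm F _).some ≪≫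
    asIso (KFlatLib.projMod I.subschemeι (Coh.structureModule I.subscheme) F) ≪≫
    (Scheme.Modules.pushforward I.subschemeι).mapIso
      ((cl_eq_iff.1 (show PicF.cl ((DCoh.tensorBi.obj (Coh.structureModule I.subscheme)).obj
          ((Scheme.Modules.pullback I.subschemeι).obj F)) = PicF.cl ((Scheme.Modules.pullback I.subschemeι).obj F) from
        (cl_tensor _ _).trans ((congrArg (· * _) (one_def (X := I.subscheme)).symm).trans (one_mul _)))).some)⟩

variable {I} (hI : I * I = ⊥)

include hI in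
/-- A square zero ideal kills itself. -/
theorem mulIdeal_idealMod : DivisorExt.mulIdeal I (ClSub.idealMod I) = 0 := by
  have hq := PPSheaf.isQCoh_idealMod I
  have key : ∀ U : X.Opens, IsAffineOpen U → ∀ z, (DivisorExt.mulIdeal I (ClSub.idealMod I)).app U z = 0 := by
    intro U hU z
    obtain ⟨t, rfl⟩ := (QCoh.bijective_tmLin (M := ClSub.idealMod I) (N := ClSub.idealMod I) hq hq hU).2 z
    induction t using TensorProduct.induction_on with
    | zero => rw [map_zero, map_zero]
    | tmul a b =>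
      rw [QCoh.tmLin_tmul, DivisorExt.mulIdeal_tmS]
      refine OmegaLib.idealSect_injective I U ?_
      rw [OmegaLib.idealSect_smul, map_zero]
      have h1 : OmegaSh.idealSect I U b * OmegaSh.idealSect I U a ∈ (I * I).ideal ⟨U, hU⟩ := by
        rw [Scheme.IdealSheafData.ideal_mul]
        exact Ideal.mul_mem_mul (OmegaLib.idealSect_mem I ⟨U, hU⟩ b) (OmegaLib.idealSect_mem I ⟨U, hU⟩ a)
      rw [hI] at h1
      simpa using h1
    | add x y hx hy => rw [map_add, map_add, hx, hy, add_zero]
  refine QCoh.hom_ext_app fun W s => ?_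
  show _ = (0 : Γ(ClSub.idealMod I, W))
  refine QCoh.eq_zero_of_locally W _ fun p hp => ?_
  obtain ⟨V, hV, hpV, hVW⟩ := exists_isAffineOpen_mem_and_subset hp
  refine ⟨V, homOfLE hVW, hpV, ?_⟩
  exact (AModX.app_res (DivisorExt.mulIdeal I (ClSub.idealMod I)) hVW s).symm.trans (key V hV _)

include hI in
/-- Twisting the ideal by a module trivial on the subscheme. -/
theorem nonempty_tensor_idealMod {N : X.Modules}
    (b : (Scheme.Modules.pullback I.subschemeι).obj N ≅ Coh.structureModule I.subscheme) :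
    Nonempty ((DCoh.tensorBi.obj N).obj (ClSub.idealMod I) ≅ ClSub.idealMod I) := by
  obtain ⟨e⟩ := nonempty_cokernel I (ClSub.idealMod I)
  let J := (Scheme.Modules.pullback I.subschemeι).obj (ClSub.idealMod I)
  let e' : ClSub.idealMod I ≅ (Scheme.Modules.pushforward I.subschemeι).obj J :=
    (cokernelZeroIsoTarget).symm ≪≫ cokernelIsoOfEq (mulIdeal_idealMod hI).symm ≪≫ e
  haveI := KFlatLib.isIso_projMod_of_isClosedImmersion I.subschemeι J N
  have hJ : Nonempty ((DCoh.tensorBi.obj J).obj ((Scheme.Modules.pullback I.subschemeι).obj N) ≅ J) := by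
    refine cl_eq_iff.1 ?_
    show PicF.cl (CohB1.tensorMod J ((Scheme.Modules.pullback I.subschemeι).obj N)) = _
    rw [cl_tensor, cl_eq_iff.2 ⟨b⟩, ← one_def, mul_one]
  exact ⟨(DCoh.tensorBi.obj N).mapIso e' ≪≫ (PicMul.comm N _).some ≪≫
    asIso (KFlatLib.projMod I.subschemeι J N) ≪≫ (Scheme.Modules.pushforward I.subschemeι).mapIso hJ.some ≪≫ e'.symm⟩

include hI in
/-- A module trivial on a square zero thickening whose ideal has no first cohomology is trivial. -/
theorem nonempty_iso_structure (h1 : Subsingleton (Coh.HH X (ClSub.idealMod I) 1)) {N : X.Modules}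
    (hN : PicF.IsInvertible N)
    (b : (Scheme.Modules.pullback I.subschemeι).obj N ≅ Coh.structureModule I.subscheme) :
    Nonempty (Coh.structureModule X ≅ N) := by
  let ι := I.subschemeι
  obtain ⟨e⟩ := nonempty_cokernel I N
  let g : N ⟶ (Scheme.Modules.pushforward ι).obj ((Scheme.Modules.pullback ι).obj N) :=
    cokernel.π (DivisorExt.mulIdeal I N) ≫ e.hom
  haveI := H26.IdealCl.isEquivalence_tensor hN
  haveI : Mono (ClSub.idealModι I) := inferInstanceAs (Mono (kernel.ι _))
  haveI : Mono (DivisorExt.mulIdeal I N) := by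
    haveI : Mono ((DCoh.tensorBi.obj N).map (ClSub.idealModι I)) := inferInstance
    exact mono_comp _ _
  have hS : (ShortComplex.mk (DivisorExt.mulIdeal I N) g (by simp [g])).ShortExact :=
    ShortComplex.shortExact_of_iso (S₁ := ShortComplex.mk (DivisorExt.mulIdeal I N) (cokernel.π _)
      (cokernel.condition _)) (ShortComplex.isoMk (Iso.refl _) (Iso.refl _) e
        ((Category.id_comp _).trans (Category.comp_id _).symm) (Category.id_comp _))
      (ShortComplex.ShortExact.mk (ShortComplex.exact_of_g_is_cokernel _ (cokernelIsCokernel _)))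
  obtain ⟨i₁⟩ := nonempty_tensor_idealMod hI b
  have h1' : Subsingleton (Coh.HH X ((DCoh.tensorBi.obj N).obj (ClSub.idealMod I)) (0 + 1)) :=
    haveI := h1
    QCoh.subsingleton_HH_of_iso i₁.symm 1 h1
  let P := (Scheme.Modules.pushforward ι).obj ((Scheme.Modules.pullback ι).obj N)
  let t : Γ(P, ⊤) := b.inv.app (ι ⁻¹ᵁ ⊤) (1 : Γ(I.subscheme, ι ⁻¹ᵁ ⊤))
  obtain ⟨y, hy⟩ := (QCoh.Ab.connecting_eq_zero_iff (X := X.toPresheafedSpace.carrier) (QCoh.toAb_shortExact hS) 0
    ((Sheaf.H.equiv₀ (Coh.toAb P) isTerminalTop).symm t)).1 (h1'.elim _ _)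
  let s : Γ(N, ⊤) := Sheaf.H.equiv₀ (Coh.toAb N) isTerminalTop y
  have hs : g.app ⊤ s = t := by
    refine (Sheaf.H.equiv₀_naturality isTerminalTop ((QCoh.toAbFunctor X).map g) y).trans ?_
    exact (congrArg (Sheaf.H.equiv₀ (Coh.toAb P) isTerminalTop) hy).trans (Equiv.apply_symm_apply _ _)
  let φ : Coh.structureModule X ⟶ N := InvX.ofSect s
  suffices IsIso φ from ⟨asIso φ⟩
  refine DivX.isIso_of_frames φ fun x => ?_
  obtain ⟨U₀, hxU₀, e₀, he₀⟩ := InvX.exists_frame hN x
  obtain ⟨U, hU, hxU, hUU⟩ := exists_isAffineOpen_mem_and_subset hxU₀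
  let f : Γ(N, U) := AModX.res N hUU e₀
  have hf : InvX.IsFrame f := he₀.res _
  refine ⟨U, hxU, (1 : Γ(X, U)), InvX.isFrame_one U, ?_⟩
  obtain ⟨c, hc⟩ := hf.exists_coord le_rfl (AModX.res N (le_top : U ≤ ⊤) s)
  rw [AModX.res_self] at hc
  -- the trivialisation on the subscheme
  let V : I.subscheme.Opens := ι ⁻¹ᵁ U
  have hlin : ∀ z : Γ((Scheme.Modules.pullback ι).obj N, V),
      b.inv.app V (b.hom.app V z) = z := fun z =>
    congrArg (fun ψ => Scheme.Modules.Hom.app ψ V z) b.hom_inv_id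
  obtain ⟨a, ha⟩ := I.subschemeι_app_surjective ⟨U, hU⟩ (show Γ(I.subscheme, V) from b.hom.app V (g.app U f))
  have htU : AModX.res P (le_top : U ≤ ⊤) t = (show Γ(P, U) from b.inv.app V (1 : Γ(I.subscheme, V))) := by
    show AModX.res ((Scheme.Modules.pullback ι).obj N) (ι.preimage_mono le_top) t = _
    rw [show t = b.inv.app (ι ⁻¹ᵁ ⊤) (1 : Γ(I.subscheme, ι ⁻¹ᵁ ⊤)) from rfl, ← AModX.app_res]
    exact congrArg (b.inv.app V) (map_one (I.subscheme.presheaf.map (homOfLE (ι.preimage_mono (le_top : U ≤ ⊤))).op).hom)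
  have h2 : (show Γ((Scheme.Modules.pullback ι).obj N, V) from b.inv.app V (1 : Γ(I.subscheme, V))) =
      ι.app U (c * a) • b.inv.app V (1 : Γ(I.subscheme, V)) := by
    have h3 : g.app U f = (show Γ(P, U) from ι.app U a • b.inv.app V (1 : Γ(I.subscheme, V))) := by
      refine (hlin (g.app U f)).symm.trans ?_
      rw [← Scheme.Modules.Hom.app_smul]
      refine congrArg (b.inv.app V) ?_
      exact ha.symm.trans (mul_one (M := Γ(I.subscheme, V)) _).symm
    have h4 : AModX.res P (le_top : U ≤ ⊤) t = c • g.app U f := by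
      rw [← hs, ← AModX.app_res, hc, Scheme.Modules.Hom.app_smul]
    rw [htU, h3] at h4
    refine h4.trans ?_
    show ι.app U c • (ι.app U a • b.inv.app V (1 : Γ(I.subscheme, V))) = _
    rw [smul_smul, map_mul]
  have h5 : c * a - 1 ∈ I.ideal ⟨U, hU⟩ := by
    rw [← I.ker_subschemeι_app ⟨U, hU⟩, RingHom.mem_ker, map_sub, map_one, sub_eq_zero]
    have h6 := congrArg (b.hom.app V) h2
    rw [Scheme.Modules.Hom.app_smul] at h6
    have h7 : b.hom.app V (b.inv.app V (1 : Γ(I.subscheme, V))) = (1 : Γ(I.subscheme, V)) :=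
      congrArg (fun ψ => Scheme.Modules.Hom.app ψ V (1 : Γ(I.subscheme, V))) b.inv_hom_id
    rw [h7] at h6
    exact (h6.trans (mul_one (M := Γ(I.subscheme, V)) _)).symm
  have h8 : (c * a - 1) * (c * a - 1) = 0 := by
    have h := Ideal.mul_mem_mul h5 h5
    have e2 : (I * I).ideal ⟨U, hU⟩ = I.ideal ⟨U, hU⟩ * I.ideal ⟨U, hU⟩ := by
      rw [Scheme.IdealSheafData.ideal_mul]; rfl
    rw [← e2, hI] at h
    simpa using h
  have hu : IsUnit (c * a) := by
    have h9 : IsUnit (1 + (c * a - 1)) :=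
      IsNilpotent.isUnit_one_add ⟨2, by rw [pow_two]; exact h8⟩
    rwa [add_sub_cancel] at h9
  have h10 : φ.app U (1 : Γ(X, U)) = c • f := by
    rw [InvX.app_eq_smul, one_smul, InvX.one_ofSect]
    exact hc
  rw [h10]
  exact hf.isUnit_smul (isUnit_of_mul_isUnit_left hu)

include hI in
/-- Restriction of invertible classes is injective. -/
theorem pullCl_injective (h1 : Subsingleton (Coh.HH X (ClSub.idealMod I) 1)) {c d : PicF.Cl X}
    (hc : PicF.IsInvertibleCl c) (hd : PicF.IsInvertibleCl d)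
    (h : PicF.pullCl I.subschemeι c = PicF.pullCl I.subschemeι d) : c = d := by
  obtain ⟨L, rfl, hL⟩ := hc
  obtain ⟨M, rfl, hM⟩ := hd
  obtain ⟨M', hM', ⟨e⟩⟩ := PicInv.exists_inverse hM
  have hMM : PicF.cl M * PicF.cl M' = 1 :=
    (PicMul.cl_tensor _ _).symm.trans ((PicMul.cl_eq_iff.2 ⟨e⟩).trans PicMul.one_def.symm)
  let N := CohB1.tensorMod L M'
  obtain ⟨b⟩ : Nonempty ((Scheme.Modules.pullback I.subschemeι).obj N ≅ Coh.structureModule I.subscheme) := by
    refine PicMul.cl_eq_iff.1 ?_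
    show PicF.pullCl I.subschemeι (PicF.cl (CohB1.tensorMod L M')) = _
    rw [PicMul.cl_tensor, PicMul.pullCl_mul, h, ← PicMul.pullCl_mul, hMM]
    exact PicMul.pullCl_one _
  obtain ⟨u⟩ := nonempty_iso_structure hI h1 (PicMul.isInvertible_tensor hL hM') b
  have h1' : PicF.cl L * PicF.cl M' = 1 :=
    (PicMul.cl_tensor _ _).symm.trans ((PicMul.cl_eq_iff.2 ⟨u.symm⟩).trans PicMul.one_def.symm)
  calc PicF.cl L = PicF.cl L * (PicF.cl M * PicF.cl M') := by rw [hMM, mul_one]
    _ = (PicF.cl L * PicF.cl M') * PicF.cl M := by ac_rfl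
    _ = PicF.cl M := by rw [h1', one_mul]

end Groth.Agent.Pic13Lib.SqZero
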