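import Groth.Agent.Pic13Lib.FibreFinite
import Groth.Agent.AmpleVan.Uniform
import Groth.Agent.AmpleVan.Components
import Groth.Agent.HilbPoly.EllSimple
import Groth.Agent.Lib.Pic13Regular
import Groth.Agent.Lib.DualRange
import Groth.Agent.PruferCoh.Closed
import Groth.Agent.PnCoh.Chow.Proper
import Groth.Agent.CohPullX.Semicont
import Groth.Agent.FlatG.ZPoly
import Groth.Agent.S10829
import Groth.Agent.KFlatLib.Scheme.RpushQCoh
import Mathlib.AlgebraicGeometry.AlgClosed.Basic

/-!
# Bounded families are uniformly regular and have finitely many Hilbert polynomials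
-/

set_option autoImplicit false
set_option linter.style.haveILetI false
set_option linter.unusedSectionVars false
set_option backward.isDefEq.respectTransparency false
set_option backward.isDefEq.respectTransparency.types false

universe u

open CategoryTheory CategoryTheory.Limits AlgebraicGeometry TopologicalSpace
open Groth.Agent.H23 Groth.Agent.H23.PicMul
open scoped TensorProduct

attribute [local instance] HasDerivedCategory.standard PicMul.clMonoid

noncomputable section

namespace Groth.Agent.Pic13Lib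

section Point

variable {k : Type u} [Field k] {X : Scheme.{u}} [X.Over (Spec (CommRingCat.of k))]
  [IsProper (X ↘ Spec (CommRingCat.of k))] {T : Scheme.{u}} (q : T ⟶ Spec (CommRingCat.of k))
  (t : Spec (CommRingCat.of k) ⟶ T) (ht : t ≫ q = 𝟙 _)

/-- A vanishing slice gives a vanishing fibre. -/
theorem subsingleton_fiberH_point (G : (Pic13.prodK k X q).Modules) (hG : Coh.IsQCoh G) (i : ℕ)
    (h : Subsingleton (Coh.HH X (Pic13.fibreMod k X q t ht G) i)) :
    Subsingleton (CohIII.fiberH (pullback.snd (X ↘ Spec (CommRingCat.of k)) q) G (t (IsLocalRing.closedPoint k)) i) := by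
  let f := pullback.snd (X ↘ Spec (CommRingCat.of k)) q
  let s : T := t (IsLocalRing.closedPoint k)
  let K := T.residueField s
  obtain ⟨ψ, hψ⟩ : ∃ ψ : CommRingCat.of K ⟶ CommRingCat.of k, Spec.map ψ ≫ T.fromSpecResidueField s = t :=
    ⟨_, Scheme.descResidueField_stalkClosedPointTo_fromSpecResidueField k T t⟩
  obtain ⟨φ, hφ⟩ : ∃ φ : CommRingCat.of k ⟶ CommRingCat.of K, Spec.map φ = T.fromSpecResidueField s ≫ q :=
    ⟨Spec.preimage _, Spec.map_preimage _⟩
  have hφψ : φ ≫ ψ = 𝟙 _ := Spec.map_injective (by rw [Spec.map_comp, hφ, reassoc_of% hψ, ht, Spec.map_id])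
  have hψφ : ψ ≫ φ = 𝟙 _ := CommRingCat.hom_ext (RingHom.ext fun x => ψ.hom.injective (congr($hφψ (ψ x)) :))
  letI : Algebra k K := φ.hom.toAlgebra
  let g := f.fiberι s ≫ pullback.fst (X ↘ Spec (CommRingCat.of k)) q
  have hsq : IsPullback g (f.fiberToSpecResidueField s) (X ↘ Spec (CommRingCat.of k))
      (Spec.map (CommRingCat.ofHom (algebraMap k K))) := by
    rw [show CommRingCat.ofHom (algebraMap k K) = φ from rfl, hφ]
    exact (IsPullback.of_hasPullback f (T.fromSpecResidueField s)).paste_horiz (IsPullback.of_hasPullback _ _)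
  have hgs : g ≫ Pic13.sliceAt k X q t ht = f.fiberι s := by
    refine pullback.hom_ext (by rw [Category.assoc, sliceAt_fst, Category.comp_id]) ?_
    rw [Category.assoc, sliceAt_snd, reassoc_of% hsq.w,
      show CommRingCat.ofHom (algebraMap k K) = φ from rfl, ← hψ, ← Spec.map_comp_assoc, hψφ, Spec.map_id]
    exact (congrArg (f.fiberToSpecResidueField s ≫ ·) (Category.id_comp _)).trans
      ((IsPullback.of_hasPullback f (T.fromSpecResidueField s)).w).symm
  let e : (Scheme.Modules.pullback g).obj (Pic13.fibreMod k X q t ht G) ≅ (Scheme.Modules.pullback (f.fiberι s)).obj G :=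
    (Scheme.Modules.pullbackComp g _).app G ≪≫ (Scheme.Modules.pullbackCongr hgs).app G
  haveI : CompactSpace X := AmpleVan.compactSpace_of_proper (A := k)
  haveI : QuasiSeparatedSpace X := by
    haveI : X.IsSeparated := ⟨by
      rw [← Limits.terminal.comp_from (X ↘ Spec (CommRingCat.of k))]
      infer_instance⟩
    infer_instance
  letI : (f.fiber s).Over (Spec (CommRingCat.of K)) := ⟨f.fiberToSpecResidueField s⟩
  obtain ⟨E⟩ := QCoh.HH_flatBaseChange (A := k) (B := K) hsq (QCoh.isQCoh_pullback _ hG) i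
  haveI := h
  have hT : Subsingleton (K ⊗[k] Coh.HH X (Pic13.fibreMod k X q t ht G) i) := ⟨fun a b => by
    have hz : ∀ z : K ⊗[k] Coh.HH X (Pic13.fibreMod k X q t ht G) i, z = 0 := fun z => by
      induction z using TensorProduct.induction_on with
      | zero => rfl
      | tmul c x => rw [@Subsingleton.elim _ h x 0, TensorProduct.tmul_zero]
      | add a b ha hb => rw [ha, hb, add_zero]
    rw [hz a, hz b]⟩
  exact QCoh.subsingleton_HH_of_iso e i (@Equiv.subsingleton _ _ E.symm.toEquiv hT)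

/-- A vanishing fibre gives a vanishing slice. -/
theorem subsingleton_slice_of_fiberH (G : (Pic13.prodK k X q).Modules) (hG : Coh.IsQCoh G) (i : ℕ)
    (h : Subsingleton (CohIII.fiberH (pullback.snd (X ↘ Spec (CommRingCat.of k)) q) G (t (IsLocalRing.closedPoint k)) i)) :
    Subsingleton (Coh.HH X (Pic13.fibreMod k X q t ht G) i) := by
  let f := pullback.snd (X ↘ Spec (CommRingCat.of k)) q
  let s : T := t (IsLocalRing.closedPoint k)
  let K := T.residueField s
  obtain ⟨ψ, hψ⟩ : ∃ ψ : CommRingCat.of K ⟶ CommRingCat.of k, Spec.map ψ ≫ T.fromSpecResidueField s = t :=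
    ⟨_, Scheme.descResidueField_stalkClosedPointTo_fromSpecResidueField k T t⟩
  obtain ⟨φ, hφ⟩ : ∃ φ : CommRingCat.of k ⟶ CommRingCat.of K, Spec.map φ = T.fromSpecResidueField s ≫ q :=
    ⟨Spec.preimage _, Spec.map_preimage _⟩
  have hφψ : φ ≫ ψ = 𝟙 _ := Spec.map_injective (by rw [Spec.map_comp, hφ, reassoc_of% hψ, ht, Spec.map_id])
  have hψφ : ψ ≫ φ = 𝟙 _ := CommRingCat.hom_ext (RingHom.ext fun x => ψ.hom.injective (congr($hφψ (ψ x)) :))
  letI : Algebra k K := φ.hom.toAlgebra
  let g := f.fiberι s ≫ pullback.fst (X ↘ Spec (CommRingCat.of k)) q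
  have hsq : IsPullback g (f.fiberToSpecResidueField s) (X ↘ Spec (CommRingCat.of k))
      (Spec.map (CommRingCat.ofHom (algebraMap k K))) := by
    rw [show CommRingCat.ofHom (algebraMap k K) = φ from rfl, hφ]
    exact (IsPullback.of_hasPullback f (T.fromSpecResidueField s)).paste_horiz (IsPullback.of_hasPullback _ _)
  have hgs : g ≫ Pic13.sliceAt k X q t ht = f.fiberι s := by
    refine pullback.hom_ext (by rw [Category.assoc, sliceAt_fst, Category.comp_id]) ?_
    rw [Category.assoc, sliceAt_snd, reassoc_of% hsq.w,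
      show CommRingCat.ofHom (algebraMap k K) = φ from rfl, ← hψ, ← Spec.map_comp_assoc, hψφ, Spec.map_id]
    exact (congrArg (f.fiberToSpecResidueField s ≫ ·) (Category.id_comp _)).trans
      ((IsPullback.of_hasPullback f (T.fromSpecResidueField s)).w).symm
  let e : (Scheme.Modules.pullback g).obj (Pic13.fibreMod k X q t ht G) ≅ (Scheme.Modules.pullback (f.fiberι s)).obj G :=
    (Scheme.Modules.pullbackComp g _).app G ≪≫ (Scheme.Modules.pullbackCongr hgs).app G
  haveI : CompactSpace X := AmpleVan.compactSpace_of_proper (A := k)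
  haveI : QuasiSeparatedSpace X := by
    haveI : X.IsSeparated := ⟨by
      rw [← Limits.terminal.comp_from (X ↘ Spec (CommRingCat.of k))]
      infer_instance⟩
    infer_instance
  letI : (f.fiber s).Over (Spec (CommRingCat.of K)) := ⟨f.fiberToSpecResidueField s⟩
  obtain ⟨E⟩ := QCoh.HH_flatBaseChange (A := k) (B := K) hsq (QCoh.isQCoh_pullback _ hG) i
  have hY := QCoh.subsingleton_HH_of_iso e.symm i h
  have hT : Subsingleton (K ⊗[k] Coh.HH X (Pic13.fibreMod k X q t ht G) i) := @Equiv.subsingleton _ _ E.toEquiv hY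
  haveI : Module.FaithfullyFlat k K := inferInstance
  exact (Module.FaithfullyFlat.subsingleton_tensorProduct_iff_right k K).1 hT

end Point

variable {k : Type u} [Field k] {n : ℕ} {X : Scheme.{u}} [X.Over (Spec (CommRingCat.of k))]
  (i : X ⟶ CohB1.ProjSpace n k) [IsClosedImmersion i]

include i in
theorem dim_le_of_closed : topologicalKrullDim X ≤ (n : ℕ) :=
  (i.isClosedEmbedding.isInducing.topologicalKrullDim_le).trans (S10829.result k n).le

theorem isProper_of_closed (hi : i ≫ CohB1.ProjSpace.toSpec n k = X ↘ Spec (CommRingCat.of k)) :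
    IsProper (X ↘ Spec (CommRingCat.of k)) := by
  haveI : IsProper (CohB1.ProjSpace.toSpec n k) := PnCoh.Chow.isProper_toSpec n _
  exact hi ▸ (inferInstance : IsProper (i ≫ CohB1.ProjSpace.toSpec n k))

variable [IsProper (X ↘ Spec (CommRingCat.of k))]

theorem subsingleton_twistOn_high {N : X.Modules} (hN : Coh.IsCoh N) (d : ℤ) {j : ℕ} (hj : n < j) :
    Subsingleton (Coh.HH X (Pic13.twistOn k i N d) j) := by
  haveI := CurveCohLib.isNoetherian_of_proper (k := k) (X := X)
  haveI : X.IsSeparated := AmpleVan.isSeparated_of_proper (A := k)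
  exact Snapper.subsingleton_HH_of_dim_le (dim_le_of_closed i) (Pic13Regular.isCoh_twistOn i hN d).1 hj

theorem exists_isMRegular {N : X.Modules} (hN : Coh.IsCoh N) : ∃ m : ℕ, Pic13.IsMRegular k i N (m : ℤ) := by
  haveI : CompactSpace X := AmpleVan.compactSpace_of_proper (A := k)
  have hH : CohB1.IsAmple (PruferCoh.oneX i) :=
    AmpleVan.FiniteSurj.isAmple_pullback_of_isAffineHom i (HilbPoly.isAmple_twist_one_pn n)
  obtain ⟨d₀, hd₀⟩ := AmpleVan.exists_vanishing (A := k) hH hN
  refine ⟨d₀ + n, fun j hj => ?_⟩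
  obtain hjn | hjn := Nat.lt_or_ge n j
  · exact subsingleton_twistOn_high i hN _ hjn
  obtain ⟨j, rfl⟩ : ∃ j', j = j' + 1 := ⟨j - 1, by omega⟩
  rw [show ((d₀ + n : ℕ) : ℤ) - ((j + 1 : ℕ) : ℤ) = ((d₀ + n - (j + 1) : ℕ) : ℤ) by omega]
  obtain ⟨e⟩ := PruferCoh.nonempty_pullback_twist i (d₀ + n - (j + 1))
  exact QCoh.subsingleton_HH_of_iso ((DCoh.tensorBi.obj N).mapIso e).symm _ (hd₀ _ (by omega) j)

variable [IsAlgClosed k] {T : Scheme.{u}} (q : T ⟶ Spec (CommRingCat.of k))

/-- Twisting in the family. -/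
abbrev twFam (G : (Pic13.prodK k X q).Modules) (d : ℤ) : (Pic13.prodK k X q).Modules :=
  CohB1.tensorMod G ((Scheme.Modules.pullback (pullback.fst (X ↘ Spec (CommRingCat.of k)) q)).obj
    ((Scheme.Modules.pullback i).obj (Twist.twistProjSpace n k d)))

theorem nonempty_fibre_twFam (t : Spec (CommRingCat.of k) ⟶ T) (ht : t ≫ q = 𝟙 _)
    (G : (Pic13.prodK k X q).Modules) (d : ℤ) :
    Nonempty (Pic13.fibreMod k X q t ht (twFam i q G d) ≅ Pic13.twistOn k i (Pic13.fibreMod k X q t ht G) d) := by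
  rw [← cl_eq_iff]
  show PicF.pullCl (Pic13.sliceAt k X q t ht) (PicF.cl (CohB1.tensorMod G _)) = PicF.cl (CohB1.tensorMod _ _)
  rw [cl_tensor, cl_tensor, PicMul.pullCl_mul]
  congr 1
  exact cl_eq_iff.2 ⟨(Scheme.Modules.pullbackComp _ _).app _ ≪≫
    (Scheme.Modules.pullbackCongr (sliceAt_fst q t ht)).app _ ≪≫ (Scheme.Modules.pullbackId X).app _⟩

/-- The fibres of a flat family are uniformly regular. -/
theorem exists_mRegular_flat [LocallyOfFiniteType q] [QuasiCompact q] {G : (Pic13.prodK k X q).Modules}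
    (hG : Coh.IsCoh G) (hfl : FlatMod.IsFlatOver (pullback.snd (X ↘ Spec (CommRingCat.of k)) q) G) :
    ∃ m : ℕ, ∀ (t : Spec (CommRingCat.of k) ⟶ T) (ht : t ≫ q = 𝟙 _),
      Pic13.IsMRegular k i (Pic13.fibreMod k X q t ht G) (m : ℤ) := by
  classical
  haveI : IsLocallyNoetherian T := LocallyOfFiniteType.isLocallyNoetherian q
  haveI : CompactSpace T := QuasiCompact.compactSpace_of_compactSpace q
  haveI : JacobsonSpace T := LocallyOfFiniteType.jacobsonSpace q
  let f := pullback.snd (X ↘ Spec (CommRingCat.of k)) q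
  haveI : IsProper f := MorphismProperty.pullback_snd _ _ inferInstance
  haveI : IsLocallyNoetherian (Pic13.prodK k X q) := LocallyOfFiniteType.isLocallyNoetherian f
  haveI := CurveCohLib.isNoetherian_of_proper (k := k) (X := X)
  haveI : LocallyOfFinitePresentation (X ↘ Spec (CommRingCat.of k)) :=
    AlgStLib.locallyOfFinitePresentation_of_isLocallyNoetherian _ inferInstance
  haveI : LocallyOfFinitePresentation f := MorphismProperty.pullback_snd _ _ inferInstance
  haveI : HasInjectiveResolutions (Pic13.prodK k X q).Modules := KFlatLib.hasInjectiveResolutions_modules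
  have hinv : ∀ d : ℤ, PicF.IsInvertible ((Scheme.Modules.pullback (pullback.fst (X ↘ Spec (CommRingCat.of k)) q)).obj
      ((Scheme.Modules.pullback i).obj (Twist.twistProjSpace n k d))) := fun d =>
    PicClLib.isInvertible_pullback _ (PicClLib.isInvertible_pullback i (DualRange.isInvertible_pn d))
  haveI : CompactSpace (Pic13.prodK k X q) := QuasiCompact.compactSpace_of_compactSpace f
  haveI : IsNoetherian (Pic13.prodK k X q) := ⟨⟩
  have hfp : ∀ d, CohB1.IsFP (twFam i q G d) := fun d =>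
    (QCoh.isCoh_iff_isFP).1 (AmpleVan.isCoh_tensor hG (AmpleVan.isCoh_invertible (hinv d)))
  have hfl' : ∀ d, FlatMod.IsFlatOver f (twFam i q G d) := fun d => by
    have hP : FlatMod.IsFlat _ := KFlatLib.isFlat_of_isFinLocFree (H23.PullPush.isFinLocFree_of_isInvertible (hinv d))
    exact LimModLib.isFlatOver_of_iso f (PicMul.comm _ G).some (KFlatLib.isFlatOver_tensor f hP hfl)
  have hfibre : ∀ (t : Spec (CommRingCat.of k) ⟶ T) (ht : t ≫ q = 𝟙 _),
      Coh.IsCoh (Pic13.fibreMod k X q t ht G) := fun t ht => ZClosLib.isCoh_pullback _ hG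
  let Good : ℕ → T → Prop := fun m z => ∃ U : T.Opens, z ∈ U ∧
    ∀ (t : Spec (CommRingCat.of k) ⟶ T) (ht : t ≫ q = 𝟙 _), t (IsLocalRing.closedPoint k) ∈ U →
      Pic13.IsMRegular k i (Pic13.fibreMod k X q t ht G) (m : ℤ)
  let O : ℕ → T.Opens := fun m => ⟨{z | Good m z}, isOpen_iff_forall_mem_open.2 fun z ⟨U, hzU, hU⟩ =>
    ⟨(U : Set T), fun w hw => ⟨U, hw, hU⟩, U.2, hzU⟩⟩
  have hclosed : ∀ z : T, IsClosed ({z} : Set T) → ∃ m, z ∈ O m := fun z hz => by
    obtain ⟨⟨t, ht⟩, hcp⟩ := (pointEquivClosedPoint q).surjective ⟨z, hz⟩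
    have htz : t (IsLocalRing.closedPoint k) = z := congrArg Subtype.val hcp
    obtain ⟨m, hm⟩ := exists_isMRegular i (hfibre t ht)
    have h : ∀ j : Finset.Icc 1 n, ∃ U : T.Opens, z ∈ U ∧ ∀ w ∈ U,
        Subsingleton (CohIII.fiberH f (twFam i q G ((m : ℤ) - (j : ℕ))) w j) := fun j => by
      obtain ⟨e⟩ := nonempty_fibre_twFam i q t ht G ((m : ℤ) - (j : ℕ))
      refine CohPullX.exists_subsingleton_fiberH_nhd (hfp _) (hfl' _) z j ?_
      rw [← htz]
      exact subsingleton_fiberH_point q t ht _ (QCoh.isQCoh_of_isFP (hfp _)) _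
        (QCoh.subsingleton_HH_of_iso e.symm _ (hm j (Finset.mem_Icc.1 j.2).1))
    choose U hzU hU using h
    refine ⟨m, Finset.univ.inf U, ?_, fun t' ht' hmem j hj => ?_⟩
    · rw [← SetLike.mem_coe, Opens.coe_finset_inf]
      simpa using fun j hj => hzU ⟨j, hj⟩
    obtain hjn | hjn := Nat.lt_or_ge n j
    · exact subsingleton_twistOn_high i (hfibre t' ht') _ hjn
    obtain ⟨e⟩ := nonempty_fibre_twFam i q t' ht' G ((m : ℤ) - (j : ℕ))
    haveI := hU ⟨j, Finset.mem_Icc.2 ⟨hj, hjn⟩⟩ _
      ((Finset.inf_le (Finset.mem_univ _) : Finset.univ.inf U ≤ U ⟨j, Finset.mem_Icc.2 ⟨hj, hjn⟩⟩) hmem)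
    exact QCoh.subsingleton_HH_of_iso e j
      (subsingleton_slice_of_fiberH q t' ht' _ (QCoh.isQCoh_of_isFP (hfp _)) j inferInstance)
  have hcover : ⋃ m, (O m : Set T) = Set.univ := by
    by_contra hne
    obtain ⟨z, hz, hzc⟩ := nonempty_inter_closedPoints (Z := (⋃ m, (O m : Set T))ᶜ)
      (Set.nonempty_compl.2 hne) (isOpen_iUnion fun m => (O m).2).isClosed_compl.isLocallyClosed
    obtain ⟨m, hm⟩ := hclosed z hzc
    exact hz (Set.mem_iUnion.2 ⟨m, hm⟩)
  obtain ⟨s, hs⟩ := isCompact_univ.elim_finite_subcover (fun m => (O m : Set T)) (fun m => (O m).2) hcover.ge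
  refine ⟨s.sup id, fun t ht => ?_⟩
  obtain ⟨m, hms, U, hzU, hU⟩ := Set.mem_iUnion₂.1 (hs (Set.mem_univ (t (IsLocalRing.closedPoint k))))
  exact Pic13Regular.isMRegular_of_le i (hfibre t ht) (hU t ht hzU)
    (Int.ofNat_le.2 (Finset.le_sup (f := id) hms))

/-- The fibres of a family are uniformly regular. -/
theorem exists_mRegular_family [LocallyOfFiniteType q] [QuasiCompact q] {G : (Pic13.prodK k X q).Modules}
    (hG : Coh.IsCoh G) :
    ∃ m : ℕ, ∀ (t : Spec (CommRingCat.of k) ⟶ T) (ht : t ≫ q = 𝟙 _),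
      Pic13.IsMRegular k i (Pic13.fibreMod k X q t ht G) (m : ℤ) := by
  classical
  obtain ⟨N, Z, r, G', hr, hcov⟩ := exists_flat_strata q hG
  choose m hm using fun l => @exists_mRegular_flat k _ n X _ i _ _ _ (Z l) (r l) (hr l).1 (hr l).2.1 (G' l)
    (hr l).2.2.1 (hr l).2.2.2
  refine ⟨Finset.univ.sup m, fun t ht => ?_⟩
  obtain ⟨l, tz, htz, ⟨e⟩⟩ := hcov t ht
  have hc : Coh.IsCoh (Pic13.fibreMod k X (r l) tz htz (G' l)) := by
    haveI := CurveCohLib.isNoetherian_of_proper (k := k) (X := X)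
    haveI := (hr l).1
    haveI : IsLocallyNoetherian (Z l) := LocallyOfFiniteType.isLocallyNoetherian (r l)
    haveI : IsProper (pullback.snd (X ↘ Spec (CommRingCat.of k)) (r l)) :=
      MorphismProperty.pullback_snd _ _ inferInstance
    haveI : IsLocallyNoetherian (Pic13.prodK k X (r l)) :=
      LocallyOfFiniteType.isLocallyNoetherian (pullback.snd (X ↘ Spec (CommRingCat.of k)) (r l))
    exact ZClosLib.isCoh_pullback _ (hr l).2.2.1
  have h := Pic13Regular.isMRegular_of_le i hc (hm l tz htz)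
    (Int.ofNat_le.2 (Finset.le_sup (f := m) (Finset.mem_univ l)))
  intro j hj
  exact QCoh.subsingleton_HH_of_iso ((DCoh.tensorBi.mapIso e).app _) j (h j hj)

omit [IsAlgClosed k] in
theorem exists_poly_twistOn (hi : i ≫ CohB1.ProjSpace.toSpec n k = X ↘ Spec (CommRingCat.of k))
    {N : X.Modules} (hN : Coh.IsCoh N) :
    ∃ P : Polynomial ℚ, P.natDegree ≤ n ∧
      ∀ d : ℤ, (FGA.eulerCharLE k X (Pic13.twistOn k i N d) n : ℚ) = P.eval (d : ℚ) := by
  haveI := CurveCohLib.isNoetherian_of_proper (k := k) (X := X)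
  let O : ℤ → X.Modules := fun d => (Scheme.Modules.pullback i).obj (Twist.twistProjSpace n k d)
  have hinv : ∀ d, PicF.IsInvertible (O d) := fun d =>
    PicClLib.isInvertible_pullback i (DualRange.isInvertible_pn d)
  have h0 : Nonempty (O 0 ≅ Coh.structureModule X) := by
    obtain ⟨e⟩ := PruferCoh.nonempty_pullback_twist i 0
    exact ⟨e⟩
  have hadd : ∀ a b, Nonempty (CohB1.tensorMod (O a) (O b) ≅ O (a + b)) := fun a b => by
    obtain ⟨e⟩ := PnCoh.Finite.twist_tensor_iso (ProjRegular.coords k n) ProjRegular.coords_mem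
      ProjRegular.coords_cover a b
    exact ⟨(H23.PicMul.pull i (Twist.twistProjSpace n k a) (Twist.twistProjSpace n k b)).some.symm ≪≫
      (Scheme.Modules.pullback i).mapIso e⟩
  have hd : topologicalKrullDim ↥(CohB1.support N) ≤ (n : WithBot ℕ∞) :=
    (topologicalKrullDim_subspace_le X _).trans (dim_le_of_closed i)
  obtain ⟨P, hP⟩ := FlatG.exists_poly_int (k := k) hinv h0 hadd hN
  obtain ⟨Q, hQ, hQd, -⟩ := HilbPoly.exists_poly (HilbPoly.additive_euler k) (hinv 1) hN hd
  have hPQ : P = Q := HilbPoly.poly_ext 0 fun j _ => by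
    obtain ⟨e⟩ := FlatG.nonempty_tensorPow h0 hadd j
    rw [← Int.cast_natCast j, ← hP, Int.cast_natCast, ← hQ]
    exact congrArg Int.cast ((HilbPoly.additive_euler k).iso _ _ ⟨((DCoh.tensorBi.obj N).mapIso e).symm⟩)
  refine ⟨P, hPQ ▸ hQd, fun d => ?_⟩
  rw [eulerCharLE_eq (dim_le_of_closed i) (Pic13Regular.isCoh_twistOn i hN d).1, ← hP]
  rfl

/-- The fibres of a family have finitely many Hilbert polynomials. -/
theorem finite_polys_family (hi : i ≫ CohB1.ProjSpace.toSpec n k = X ↘ Spec (CommRingCat.of k))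
    [LocallyOfFiniteType q] [QuasiCompact q] {G : (Pic13.prodK k X q).Modules} (hG : Coh.IsCoh G) :
    ∃ s : Finset (Polynomial ℚ), ∀ (t : Spec (CommRingCat.of k) ⟶ T) (ht : t ≫ q = 𝟙 _),
      ∃ φ ∈ s, ∀ d : ℤ,
        (FGA.eulerCharLE k X (Pic13.twistOn k i (Pic13.fibreMod k X q t ht G) d) n : ℚ) = φ.eval (d : ℚ) := by
  classical
  haveI := CurveCohLib.isNoetherian_of_proper (k := k) (X := X)
  haveI : IsLocallyNoetherian T := LocallyOfFiniteType.isLocallyNoetherian q
  haveI : CompactSpace T := QuasiCompact.compactSpace_of_compactSpace q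
  let f := pullback.snd (X ↘ Spec (CommRingCat.of k)) q
  haveI : IsProper f := MorphismProperty.pullback_snd _ _ inferInstance
  haveI : IsLocallyNoetherian (Pic13.prodK k X q) := LocallyOfFiniteType.isLocallyNoetherian f
  haveI : CompactSpace (Pic13.prodK k X q) := QuasiCompact.compactSpace_of_compactSpace f
  haveI : IsNoetherian (Pic13.prodK k X q) := ⟨⟩
  have hc : ∀ d, Coh.IsCoh (twFam i q G d) := fun d => AmpleVan.isCoh_tensor hG (AmpleVan.isCoh_invertible
    (PicClLib.isInvertible_pullback _ (PicClLib.isInvertible_pullback i (DualRange.isInvertible_pn d))))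
  choose S hS hmem using fun d : Fin (n + 1) => finite_euler_fibres q (hc (d : ℕ))
  choose poly hpoly using fun (t : {t : Spec (CommRingCat.of k) ⟶ T // t ≫ q = 𝟙 _}) =>
    exists_poly_twistOn i hi (N := Pic13.fibreMod k X q t.1 t.2 G) (ZClosLib.isCoh_pullback _ hG)
  have hfin : (Set.range poly).Finite := by
    refine Set.Finite.of_finite_image (f := fun P : Polynomial ℚ => fun d : Fin (n + 1) => P.eval ((d : ℕ) : ℚ)) ?_ ?_
    · refine (Set.Finite.pi fun d : Fin (n + 1) => (hS d).image (fun z : ℤ => (z : ℚ))).subset ?_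
      rintro _ ⟨_, ⟨t, rfl⟩, rfl⟩ d -
      obtain ⟨e⟩ := nonempty_fibre_twFam i q t.1 t.2 G ((d : ℕ) : ℤ)
      refine ⟨_, hmem d t.1 t.2, ?_⟩
      show _ = (poly t).eval ((d : ℕ) : ℚ)
      rw [← Int.cast_natCast (R := ℚ) (d : ℕ), ← (hpoly t).2]
      refine congrArg Int.cast ((CurveCohLib.euler_congr (k := k) e).trans (eulerCharLE_eq (dim_le_of_closed i)
        (Pic13Regular.isCoh_twistOn i (ZClosLib.isCoh_pullback (Pic13.sliceAt k X q t.1 t.2) hG) _).1).symm)
    · rintro _ ⟨t, rfl⟩ _ ⟨t', rfl⟩ h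
      refine Polynomial.eq_of_natDegree_lt_card_of_eval_eq _ _ (f := fun d : Fin (n + 1) => ((d : ℕ) : ℚ))
        (fun a b hab => Fin.ext (Nat.cast_injective hab)) (fun d => congrFun h d) ?_
      rw [Fintype.card_fin]
      exact Nat.lt_succ_iff.2 (max_le (hpoly t).1 (hpoly t').1)
  exact ⟨hfin.toFinset, fun t ht => ⟨poly ⟨t, ht⟩, hfin.mem_toFinset.2 ⟨_, rfl⟩, (hpoly ⟨t, ht⟩).2⟩⟩

end Groth.Agent.Pic13Lib
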