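import Groth.Agent.Pic13Lib.SectDivisor
import Groth.Agent.QCoh.ClosedPush
import Groth.Agent.AmpleVan.ThickPush
import Groth.Agent.Lib.KoszulSheaf

/-!
# Restricting a subsheaf to a divisor avoiding the associated points of the quotient
-/

set_option autoImplicit false
set_option linter.style.haveILetI false
set_option linter.unusedSectionVars false
set_option backward.isDefEq.respectTransparency false
set_option backward.isDefEq.respectTransparency.types false
set_option maxHeartbeats 1000000

universe u

open CategoryTheory CategoryTheory.Limits AlgebraicGeometry TopologicalSpace Opposite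
open Groth.Agent.KFlatLib
open Groth.Agent.H23 Groth.Agent.H23.PicMul

attribute [local instance] PicMul.clMonoid

noncomputable section

namespace Groth.Agent.Pic13Lib

variable {X : Scheme.{u}} {L : X.Modules} {Z : Scheme.{u}} (i : Z ⟶ X) [IsClosedImmersion i]

/-- The restriction sequence, as a short exact sequence. -/
theorem exists_ses_restrict {K : X.IdealSheafData} (hker : i.ker = K) (F : X.Modules) [Mono (DivisorExt.mulIdeal K F)] :
    ∃ (g : F ⟶ (Scheme.Modules.pushforward i).obj ((Scheme.Modules.pullback i).obj F))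
      (w : DivisorExt.mulIdeal K F ≫ g = 0), (ShortComplex.mk (DivisorExt.mulIdeal K F) g w).ShortExact := by
  subst hker
  obtain ⟨e⟩ := DivisorExt.nonempty_cokernel_mulIdeal i.ker F
  obtain ⟨eq⟩ := DivisorExt.nonempty_quotMod_iso i
  haveI := KFlatLib.isIso_projMod_of_isClosedImmersion i (Coh.structureModule Z) F
  let e1 : (DCoh.tensorBi.obj F).obj (ClSub.quotMod i.ker) ≅
      (DCoh.tensorBi.obj ((Scheme.Modules.pushforward i).obj (Coh.structureModule Z))).obj F :=
    (DCoh.tensorBi.obj F).mapIso eq ≪≫ (PicMul.comm F _).some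
  let e2 : (DCoh.tensorBi.obj ((Scheme.Modules.pushforward i).obj (Coh.structureModule Z))).obj F ≅
      (Scheme.Modules.pushforward i).obj ((Scheme.Modules.pullback i).obj F) :=
    asIso (KFlatLib.projMod i (Coh.structureModule Z) F) ≪≫ (Scheme.Modules.pushforward i).mapIso
      ((cl_eq_iff.1 (show PicF.cl ((DCoh.tensorBi.obj (Coh.structureModule Z)).obj ((Scheme.Modules.pullback i).obj F)) =
        PicF.cl ((Scheme.Modules.pullback i).obj F) from
          (cl_tensor _ _).trans ((congrArg (· * _) (one_def (X := Z)).symm).trans (one_mul _)))).some)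
  let g : F ⟶ (Scheme.Modules.pushforward i).obj ((Scheme.Modules.pullback i).obj F) :=
    cokernel.π (DivisorExt.mulIdeal i.ker F) ≫ (e ≪≫ e1 ≪≫ e2).hom
  refine ⟨g, by rw [cokernel.condition_assoc, zero_comp], ?_⟩
  refine ShortComplex.shortExact_of_iso (S₁ := ShortComplex.mk (DivisorExt.mulIdeal i.ker F) (cokernel.π _)
    (cokernel.condition _)) (ShortComplex.isoMk (Iso.refl _) (Iso.refl _) (e ≪≫ e1 ≪≫ e2)
      ((Category.id_comp _).trans (Category.comp_id _).symm) (Category.id_comp _)) ?_
  exact ShortComplex.ShortExact.mk (ShortComplex.exact_of_g_is_cokernel _ (cokernelIsCokernel _))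

variable [IsLocallyNoetherian X]

/-- Restriction keeps a subsheaf a subsheaf if the divisor avoids the associated points of the quotient. -/
theorem mono_pullback_map (hL : PicF.IsInvertible L) (s : Coh.structureModule X ⟶ L)
    (hker : i.ker = PicF2.zeroScheme L s) {F E : X.Modules} (f : F ⟶ E) [Mono f]
    (hF : Coh.IsQCoh F) (hE : Coh.IsQCoh E) (hQ : Coh.IsQCoh (cokernel f))
    (hass : ∀ x, Curv2.IsAssPoint (cokernel f) x → ∃ U : X.Opens, x ∈ U ∧ InvX.IsFrame (ZeroSchX.sv s U)) :
    Mono ((Scheme.Modules.pullback i).map f) := by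
  let G := Scheme.Modules.pushforward i
  let P := Scheme.Modules.pullback i
  let η := (Scheme.Modules.pullbackPushforwardAdjunction i).unit
  haveI : G.Faithful := AmpleVan.faithful_push i
  suffices h : Mono (G.map (P.map f)) from G.mono_of_mono_map h
  let B : Set X.Opens := {U | IsAffineOpen U ∧ ∃ e : Γ(L, U), InvX.IsFrame e}
  have hB : Opens.IsBasis B := Opens.isBasis_iff_nbhd.2 fun {U x} hx => by
    obtain ⟨V, hxV, e, he⟩ := InvX.exists_frame hL x
    obtain ⟨W, hW, hxW, hWV⟩ := exists_isAffineOpen_mem_and_subset (show x ∈ U ⊓ V from ⟨hx, hxV⟩)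
    exact ⟨W, ⟨hW, _, he.res (fun z hz => (hWV hz).2)⟩, hxW, fun z hz => (hWV hz).1⟩
  refine QCoh.mono_of_isBasis _ hB fun U ⟨hU, e, he⟩ => ?_
  refine (injective_iff_map_eq_zero ((G.map (P.map f)).app U).hom).2 fun z hz => ?_
  obtain ⟨x, rfl⟩ := (QCoh.unit_app_closed i hF hU).1 z
  have hnat : (η.app E).app U (f.app U x) = (G.map (P.map f)).app U ((η.app F).app U x) :=
    congrArg (fun φ : F ⟶ G.obj (P.obj E) => φ.app U x) (η.naturality f)
  have hfx := ((QCoh.unit_app_closed i hE hU).2 _).1 (hnat.trans hz)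
  obtain ⟨c, hc⟩ := ((he U le_rfl).2 (ZeroSchX.sv s U))
  have hc' : ZeroSchX.sv s U = c • e := hc.symm.trans (congrArg (c • ·) (AModX.res_self e))
  have hI : i.ker.ideal ⟨U, hU⟩ = Ideal.span {c} := by
    rw [hker, ZeroSchX.ideal_zeroScheme hL, ZeroSchX.zeroIdealOn_eq_span s he hc']
  rw [hI, Submodule.ideal_span_singleton_smul] at hfx
  obtain ⟨w, -, hw⟩ := (Submodule.mem_smul_pointwise_iff_exists _ _ _).1 hfx
  -- the class of `w` in the quotient dies
  have hq : (cokernel.π f).app U w = 0 := by
    refine AssPtX.eq_zero_of_germ hQ _ fun y hy hya => ?_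
    have h0 : c • (cokernel.π f).app U w = 0 := by
      refine (Scheme.Modules.Hom.app_smul _ _ _).symm.trans ((congrArg ((cokernel.π f).app U) hw).trans ?_)
      exact congrArg (fun φ : F ⟶ cokernel f => φ.app U x) (cokernel.condition f)
    have hu : IsUnit (X.presheaf.germ U y hy c) := by
      by_contra hnu
      obtain ⟨V, hyV, hf⟩ := hass y (AssPtX.isAssPoint_iff.2 hya)
      refine not_mem_support_of_isFrame hL s hyV hf ?_
      rw [← hker]
      refine ((i.ker).mem_support_iff_of_mem (U := ⟨U, hU⟩) hy).2 ?_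
      rw [hI, Scheme.zeroLocus_span]
      refine (Scheme.mem_zeroLocus_iff _ _ _).2 fun a ha => ?_
      rw [Set.mem_singleton_iff.1 ha]
      exact fun hb => hnu ((X.mem_basicOpen _ y hy).1 hb)
    have h1 := congrArg ((cokernel f).presheaf.germ U y hy) h0
    rw [map_zero, QCoh.germ_smul'] at h1
    exact hu.smul_left_cancel.1 (h1.trans (smul_zero _).symm)
  obtain ⟨v, hv⟩ : ∃ v, f.app U v = w := by
    have hex : (ShortComplex.mk f (cokernel.π f) (cokernel.condition f)).ShortExact :=
      ShortComplex.ShortExact.mk (ShortComplex.exact_of_g_is_cokernel _ (cokernelIsCokernel _))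
    exact (Lib.KoszulSheaf.sections_exact hex U).2 w hq
  have hxv : x = c • v := by
    refine QCoh.app_injective f U ?_
    rw [Scheme.Modules.Hom.app_smul, hv]
    exact hw.symm
  refine ((QCoh.unit_app_closed i hF hU).2 x).2 ?_
  rw [hI, hxv]
  exact Submodule.smul_mem_smul (Ideal.mem_span_singleton_self c) Submodule.mem_top

end Groth.Agent.Pic13Lib
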