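import Groth.Agent.Pic13Lib.HypAvoid
import Groth.Agent.Pic13Lib.HypRestrict
import Groth.Agent.Pic13Lib.BoundedReg
import Groth.Agent.SeesawX.PnFibre
import Groth.Agent.InvX.GenLocusPull
import Groth.Agent.H23.K0TensorInv
import Groth.Agent.Lib.Pic13Regular
import Groth.Agent.AssPtX.Noeth
import Groth.Agent.QCoh16.SerreFree

/-!
# Hyperplane sections of a coherent module, uniformly in invertible twists
-/

set_option autoImplicit false
set_option linter.style.haveILetI false
set_option linter.unusedSectionVars false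
set_option backward.isDefEq.respectTransparency false
set_option backward.isDefEq.respectTransparency.types false
set_option maxHeartbeats 1000000

universe u

open CategoryTheory CategoryTheory.Limits AlgebraicGeometry TopologicalSpace Opposite
open Groth.Agent.H23 Groth.Agent.H23.PicMul

attribute [local instance] PicMul.clMonoid

noncomputable section

namespace Groth.Agent.Pic13Lib

variable {k : Type u} [Field k] {n : ℕ} {X : Scheme.{u}} (i : X ⟶ CohB1.ProjSpace n k)

/-- The classes of the twists. -/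
def twCl : Multiplicative ℤ →* PicF.Cl X := (pullHom i).comp (SeesawX.PnFibre.twistHom n k)

/-- The class of the twist by `d`. -/
def tw (d : ℤ) : PicF.Cl X := twCl i (Multiplicative.ofAdd d)

theorem tw_eq (d : ℤ) : tw i d = PicF.cl ((Scheme.Modules.pullback i).obj (Twist.twistProjSpace n k d)) := rfl

theorem tw_add (a b : ℤ) : tw i (a + b) = tw i a * tw i b := map_mul (twCl i) _ _

theorem tw_zero : tw i 0 = 1 := map_one (twCl i)

theorem cl_twistOn (F : X.Modules) (d : ℤ) : PicF.cl (Pic13.twistOn k i F d) = PicF.cl F * tw i d :=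
  cl_tensor _ _

theorem isInvertible_tw (d : ℤ) : PicF.IsInvertible ((Scheme.Modules.pullback i).obj (Twist.twistProjSpace n k d)) :=
  PicClLib.isInvertible_pullback i (PnCoh.Finite.isInvertible_twist (ProjRegular.coords k n) ProjRegular.coords_mem
    ProjRegular.coords_cover d)

variable [IsClosedImmersion i]

/-- A frame at the image of a point pulls back to a frame at the point. -/
theorem exists_frame_pullback (s : Coh.structureModule (CohB1.ProjSpace n k) ⟶ Twist.twistProjSpace n k 1) :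
    ∃ s' : Coh.structureModule X ⟶ (Scheme.Modules.pullback i).obj (Twist.twistProjSpace n k 1),
      ∀ x : X, (∃ U : (CohB1.ProjSpace n k).Opens, i x ∈ U ∧ InvX.IsFrame (ZeroSchX.sv s U)) →
        ∃ U : X.Opens, x ∈ U ∧ InvX.IsFrame (ZeroSchX.sv s' U) := by
  obtain ⟨e⟩ := PicClLib.nonempty_pullback_structureModule i
  have hL : PicF.IsInvertible (Twist.twistProjSpace n k 1) := PnCoh.Finite.isInvertible_twist (ProjRegular.coords k n)
    ProjRegular.coords_mem ProjRegular.coords_cover 1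
  refine ⟨e.symm.hom ≫ (Scheme.Modules.pullback i).map s, fun x ⟨U, hxU, hU⟩ => ?_⟩
  have hU' : InvX.IsFrame (AModX.res (Twist.twistProjSpace n k 1) (le_top : U ≤ ⊤) (InvX.one s)) := by
    rw [← ZeroSchX.res_sv s (le_top : U ≤ ⊤)] at hU
    exact hU
  have hx : x ∈ CohB1.genLocus _ (e.symm.hom ≫ (Scheme.Modules.pullback i).map s) := by
    rw [InvX.genLocus_pullback i hL s e.symm]
    exact InvX.le_genLocus s hU' hxU
  obtain ⟨V, hxV, hV⟩ := InvX.mem_genLocus hx
  refine ⟨V, hxV, ?_⟩
  rw [← ZeroSchX.res_sv (e.symm.hom ≫ (Scheme.Modules.pullback i).map s) (le_top : V ≤ ⊤)]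
  exact hV

omit [IsClosedImmersion i] in
theorem cl_ten (M A : X.Modules) : PicF.cl ((K0TensorInv.ten A).obj M) = PicF.cl M * PicF.cl A := by
  show PicF.cl ((DCoh.tensorBi.obj M).obj A) = _
  exact cl_tensor M A

omit [IsClosedImmersion i] in
/-- Tensoring a short exact sequence with an invertible module. -/
theorem exists_ses_ten {A : X.Modules} (hA : PicF.IsInvertible A) {S : ShortComplex X.Modules} (hS : S.ShortExact)
    (h1 : Coh.IsCoh S.X₁) (h2 : Coh.IsCoh S.X₂) (h3 : Coh.IsCoh S.X₃) {a b c : PicF.Cl X}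
    (ha : PicF.cl S.X₁ = a) (hb : PicF.cl S.X₂ = b) (hc : PicF.cl S.X₃ = c) :
    ∃ S' : ShortComplex X.Modules, S'.ShortExact ∧ Coh.IsCoh S'.X₁ ∧ Coh.IsCoh S'.X₂ ∧ Coh.IsCoh S'.X₃ ∧
      PicF.cl S'.X₁ = a * PicF.cl A ∧ PicF.cl S'.X₂ = b * PicF.cl A ∧ PicF.cl S'.X₃ = c * PicF.cl A := by
  subst ha hb hc
  refine ⟨S.map (K0TensorInv.ten A), K0TensorInv.shortExact_ten hA hS, ?_, ?_, ?_, ?_, ?_, ?_⟩
  · exact K0TensorInv.isCoh_ten hA (F := S.X₁) h1
  · exact K0TensorInv.isCoh_ten hA (F := S.X₂) h2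
  · exact K0TensorInv.isCoh_ten hA (F := S.X₃) h3
  · exact cl_ten S.X₁ A
  · exact cl_ten S.X₂ A
  · exact cl_ten S.X₃ A

variable [Infinite k]

include i in
/-- Restriction to a general hyperplane, uniformly in invertible twists. -/
theorem exists_hyp {F : X.Modules} (hF : Coh.IsCoh F) :
    ∃ G : X.Modules, Coh.IsCoh G ∧
      (∀ x ∈ CohB1.support G, ∃ y ∈ CohB1.support F, y ⤳ x ∧ y ≠ x) ∧
      ∀ A : X.Modules, PicF.IsInvertible A → ∃ S : ShortComplex X.Modules, S.ShortExact ∧
        Coh.IsCoh S.X₁ ∧ Coh.IsCoh S.X₂ ∧ Coh.IsCoh S.X₃ ∧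
        PicF.cl S.X₁ = PicF.cl F * tw i (-1) * PicF.cl A ∧ PicF.cl S.X₂ = PicF.cl F * PicF.cl A ∧
        PicF.cl S.X₃ = PicF.cl G * PicF.cl A := by
  classical
  haveI hP : IsNoetherian (Proj (CohB1.polyGrading n k)) := Proj16.isNoetherian_proj _
  haveI : IsNoetherian (CohB1.ProjSpace n k) := hP
  haveI : IsLocallyNoetherian X := LocallyOfFiniteType.isLocallyNoetherian i
  haveI : CompactSpace X := i.isClosedEmbedding.compactSpace
  haveI : IsNoetherian X := {}
  have hO : Coh.IsCoh (Coh.structureModule X) := QCoh.isCoh_structureModule'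
  have hfinite : ∀ {M : X.Modules}, Coh.IsCoh M → {x : X | Curv2.IsAssPoint M x}.Finite := fun hM =>
    (AssPtX.finite_assPoints hM (U := ⊤) isCompact_univ).subset fun x hx => ⟨trivial, hx⟩
  obtain ⟨s, hs⟩ := exists_hyperplane_avoid k n (((hfinite hO).union (hfinite hF)).image i)
  obtain ⟨s', hs'⟩ := exists_frame_pullback i s
  have hHi : PicF.IsInvertible ((Scheme.Modules.pullback i).obj (Twist.twistProjSpace n k 1)) := isInvertible_tw i 1
  have hassO : ∀ x, Curv2.IsAssPoint (Coh.structureModule X) x →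
      ∃ U : X.Opens, x ∈ U ∧ InvX.IsFrame (ZeroSchX.sv s' U) :=
    fun x hx => hs' x (hs _ ⟨x, Or.inl hx, rfl⟩)
  have hassF : ∀ x, Curv2.IsAssPoint F x → ∃ U : X.Opens, x ∈ U ∧ InvX.IsFrame (ZeroSchX.sv s' U) :=
    fun x hx => hs' x (hs _ ⟨x, Or.inr hx, rfl⟩)
  obtain ⟨hI, hcl, hmono⟩ := exists_restrict_ses hHi s' hassO hF hassF
  haveI := hmono
  let K := PicF2.zeroScheme _ s'
  obtain ⟨g, w, hses⟩ := exists_ses_restrict K.subschemeι (Scheme.IdealSheafData.ker_subschemeι K) F
  let G := (Scheme.Modules.pushforward K.subschemeι).obj ((Scheme.Modules.pullback K.subschemeι).obj F)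
  have hG : Coh.IsCoh G := QCoh.isCoh_pushforward_finite K.subschemeι (ZClosLib.isCoh_pullback K.subschemeι hF)
  have hI' : PicF.cl (ClSub.idealMod K) = tw i (-1) := by
    have h1 : tw i (-1) * PicF.cl ((Scheme.Modules.pullback i).obj (Twist.twistProjSpace n k 1)) = 1 := by
      show tw i (-1) * tw i 1 = 1
      rw [← tw_add, neg_add_cancel, tw_zero]
    calc PicF.cl (ClSub.idealMod K) = tw i (-1) * PicF.cl ((Scheme.Modules.pullback i).obj (Twist.twistProjSpace n k 1)) * PicF.cl (ClSub.idealMod K) := by rw [h1, one_mul]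
      _ = tw i (-1) := by rw [mul_assoc, hcl, mul_one]
  refine ⟨G, hG, fun x hx => ?_, fun A hA => ?_⟩
  · have hxF : x ∈ CohB1.support F :=
      haveI : Epi g := hses.epi_g
      QCoh.support_of_epi hF.1 hG.1 g hx
    by_contra! hne
    have hass : Curv2.IsWeakAssPoint F x := AssPtX.isWeakAssPoint_of_maximal hF.1 hxF fun y hy hyx => hne y hy hyx
    obtain ⟨U, hxU, hU⟩ := hassF x (AssPtX.isAssPoint_iff.2 hass)
    refine not_mem_support_of_isFrame hHi s' hxU hU ?_
    have h1 := QCoh.support_push_subset K.subschemeι (ZClosLib.isCoh_pullback K.subschemeι hF).1 hx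
    rwa [Scheme.IdealSheafData.range_subschemeι] at h1
  · exact exists_ses_ten hA hses (AmpleVan.isCoh_tensor hF (AmpleVan.isCoh_invertible hI)) hF hG
      ((cl_tensor F (ClSub.idealMod K)).trans (congrArg (PicF.cl F * ·) hI')) rfl rfl

end Groth.Agent.Pic13Lib
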