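import Groth.Agent.S14522
import Groth.Agent.ZeroSchX.Basic
import Groth.Agent.Lib.DivisorExt
import Groth.Agent.AssPtX.Basic
import Groth.Agent.SheafHomX.Smul
import Groth.Agent.SeesawX.Unit
import Groth.Agent.PicClLib.Basic
import Groth.Agent.KFlatLib.Scheme.ProjModule

/-!
# The divisor of a section of an invertible sheaf avoiding associated points
-/

set_option autoImplicit false
set_option linter.style.haveILetI false
set_option linter.unusedSectionVars false
set_option backward.isDefEq.respectTransparency false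
set_option backward.isDefEq.respectTransparency.types false
set_option maxHeartbeats 1000000

universe u

open CategoryTheory CategoryTheory.Limits AlgebraicGeometry TopologicalSpace Opposite
open Groth.Agent.KFlatLib
open Groth.Agent.H23 Groth.Agent.H23.PicMul

attribute [local instance] PicMul.clMonoid

noncomputable section

namespace Groth.Agent.Pic13Lib

variable {X : Scheme.{u}} {L : X.Modules}

/-- A frame of the value keeps the zero scheme away. -/
theorem not_mem_support_of_isFrame (hL : PicF.IsInvertible L) (s : Coh.structureModule X ⟶ L) {U : X.Opens}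
    {x : X} (hx : x ∈ U) (hf : InvX.IsFrame (ZeroSchX.sv s U)) : x ∉ (PicF2.zeroScheme L s).support := by
  obtain ⟨W, hW, hxW, hWU⟩ := exists_isAffineOpen_mem_and_subset hx
  have hWU' : W ≤ U := hWU
  intro hs
  have h1 : (PicF2.zeroScheme L s).ideal ⟨W, hW⟩ = ⊤ := by
    rw [ZeroSchX.ideal_zeroScheme hL, ZeroSchX.zeroIdealOn_eq_span s (hf.res hWU') (c := 1) ?_,
      Ideal.span_singleton_one]
    rw [one_smul]
    exact (ZeroSchX.res_sv s hWU').symm
  have h2 := ((PicF2.zeroScheme L s).mem_support_iff_of_mem (U := ⟨W, hW⟩) hxW).1 hs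
  rw [h1] at h2
  have h3 := (Scheme.mem_zeroLocus_iff _ _ _).1 h2 1 (Submodule.mem_top)
  rw [Scheme.basicOpen_of_isUnit _ isUnit_one] at h3
  exact h3 hxW

/-- The ideal of the zero scheme of a monomorphic section is its inverse. -/
theorem nonempty_idealMod_zeroScheme (hL : PicF.IsInvertible L) (s : Coh.structureModule X ⟶ L) [Mono s] :
    Nonempty ((DCoh.tensorBi.obj L).obj (ClSub.idealMod (PicF2.zeroScheme L s)) ≅ Coh.structureModule X) := by
  let K := PicF2.zeroScheme L s
  let I := ClSub.idealMod K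
  let m : (DCoh.tensorBi.obj L).obj I ⟶ L := DivisorExt.mulIdeal K L
  have hloc : ∀ x : X, ∀ U : X.Opens, x ∈ U → ∃ (W : X.affineOpens) (e : Γ(L, W.1)) (c : Γ(X, W.1)),
      x ∈ W.1 ∧ W.1 ≤ U ∧ InvX.IsFrame e ∧ ZeroSchX.sv s W.1 = c • e ∧ K.ideal W = Ideal.span {c} := by
    intro x U hx
    obtain ⟨V, hxV, e, he⟩ := InvX.exists_frame hL x
    obtain ⟨W, hW, hxW, hWV⟩ := exists_isAffineOpen_mem_and_subset (show x ∈ U ⊓ V from ⟨hx, hxV⟩)
    have hWV' : W ≤ V := fun z hz => (hWV hz).2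
    obtain ⟨c, hc⟩ := ((he.res hWV') W le_rfl).2 (ZeroSchX.sv s W)
    have hc' : ZeroSchX.sv s W = c • AModX.res L hWV' e :=
      hc.symm.trans (congrArg (c • ·) (AModX.res_self _))
    exact ⟨⟨W, hW⟩, _, c, hxW, fun z hz => (hWV hz).1, he.res hWV', hc',
      (ZeroSchX.ideal_zeroScheme hL s ⟨W, hW⟩).trans (ZeroSchX.zeroIdealOn_eq_span s (he.res hWV') hc')⟩
  haveI : Mono m := by
    haveI : Mono (ClSub.idealModι K) := (inferInstance : Mono (kernel.ι (ClSub.toSubscheme K)))
    obtain ⟨L', hL', ⟨eL⟩⟩ := PicInv.exists_inverse hL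
    haveI : (DCoh.tensorBi.obj L).IsEquivalence := by
      haveI := DivisorExt.isEquivalence_ten (L := L') (I := L) ⟨(PicMul.comm L' L).some ≪≫ eL⟩
      exact Functor.isEquivalence_of_iso ((KFlatLib.tensorBiFlipIso X).app L)
    exact mono_comp _ _
  have h1 : s ≫ cokernel.π m = 0 := by
    refine SeesawX.hom_ext_one _ _ ?_
    show (cokernel.π m).app ⊤ (s.app ⊤ (1 : Γ(X, ⊤))) = 0
    refine QCoh.eq_zero_of_locally ⊤ _ fun x _ => ?_
    obtain ⟨W, e, c, hxW, -, -, hc, hI⟩ := hloc x ⊤ trivial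
    refine ⟨W.1, homOfLE le_top, hxW, ?_⟩
    obtain ⟨b, hb⟩ := OmegaLib.exists_of_mem K W c (hI ▸ Ideal.mem_span_singleton_self c)
    refine (QCoh.map_app_comm (cokernel.π m) (homOfLE le_top) _).symm.trans ?_
    refine (congrArg ((cokernel.π m).app W.1) ((ZeroSchX.res_sv s (le_top : W.1 ≤ ⊤)).trans
      (hc.trans ((congrArg (fun z : Γ(X, W.1) => z • e) hb.symm).trans (DivisorExt.mulIdeal_tmS K L e b).symm)))).trans ?_
    exact congrArg (fun φ : (DCoh.tensorBi.obj L).obj I ⟶ cokernel m => φ.app W.1 (QCoh.tmS L I e b)) (cokernel.condition m)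
  have h2 : m ≫ cokernel.π s = 0 := by
    refine SheafHomX.tensor_hom_ext fun U a b => ?_
    show (cokernel.π s).app U (m.app U (QCoh.tmS L I a b)) = 0
    rw [show m.app U (QCoh.tmS L I a b) = OmegaSh.idealSect K U b • a from DivisorExt.mulIdeal_tmS K L a b]
    refine QCoh.eq_zero_of_locally U _ fun x hx => ?_
    obtain ⟨W, e, c, hxW, hWU, he, hc, hI⟩ := hloc x U hx
    refine ⟨W.1, homOfLE hWU, hxW, ?_⟩
    refine (QCoh.map_app_comm (cokernel.π s) (homOfLE hWU) _).symm.trans ?_
    rw [Scheme.Modules.map_smul]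
    obtain ⟨r, hr⟩ := (he W.1 le_rfl).2 (L.presheaf.map (homOfLE hWU).op a)
    have hm : X.presheaf.map (homOfLE hWU).op (OmegaSh.idealSect K U b) ∈ Ideal.span {c} := by
      rw [← OmegaLib.idealSect_map, ← hI]
      exact OmegaLib.idealSect_mem K W _
    obtain ⟨q, hq⟩ := Ideal.mem_span_singleton'.1 hm
    have h3 : X.presheaf.map (homOfLE hWU).op (OmegaSh.idealSect K U b) • L.presheaf.map (homOfLE hWU).op a =
        (q * r) • ZeroSchX.sv s W.1 := by
      rw [hc, ← hq, ← hr, smul_smul, smul_smul]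
      exact congrArg₂ (· • ·) (by ring) (AModX.res_self e)
    rw [h3, Scheme.Modules.Hom.app_smul,
      show (cokernel.π s).app W.1 (ZeroSchX.sv s W.1) = 0 from
        congrArg (fun φ : Coh.structureModule X ⟶ cokernel s => φ.app W.1 (show Γ(Coh.structureModule X, W.1) from (1 : Γ(X, W.1))))
          (cokernel.condition s), smul_zero]
  let σ := Abelian.monoLift m s h1
  let τ := Abelian.monoLift s m h2
  refine ⟨{ hom := τ, inv := σ, hom_inv_id := ?_, inv_hom_id := ?_ }⟩
  · rw [← cancel_mono m, Category.assoc, Abelian.monoLift_comp, Abelian.monoLift_comp, Category.id_comp]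
  · rw [← cancel_mono s, Category.assoc, Abelian.monoLift_comp, Abelian.monoLift_comp, Category.id_comp]

theorem mono_of_avoids [IsLocallyNoetherian X] (s : Coh.structureModule X ⟶ L)
    (hass : ∀ x, Curv2.IsAssPoint (Coh.structureModule X) x → ∃ U : X.Opens, x ∈ U ∧ InvX.IsFrame (ZeroSchX.sv s U)) :
    Mono s := by
  refine QCoh.mono_of_app_injective s fun U => ?_
  refine (injective_iff_map_eq_zero (s.app U).hom).2 fun r hr => ?_
  refine AssPtX.eq_zero_of_germ QCoh.isQCoh_structureModule r fun y hy hya => ?_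
  obtain ⟨V, hyV, hf⟩ := hass y (AssPtX.isAssPoint_iff.2 hya)
  have hle : U ⊓ V ≤ U := inf_le_left
  rw [← (Coh.structureModule X).presheaf.germ_res_apply (homOfLE hle) y ⟨hy, hyV⟩ r]
  have h0 : (Coh.structureModule X).presheaf.map (homOfLE hle).op r = (0 : Γ(Coh.structureModule X, U ⊓ V)) := by
    refine ((hf.res (inf_le_right : U ⊓ V ≤ V)) (U ⊓ V) le_rfl).1 ?_
    show (show Γ(X, U ⊓ V) from X.presheaf.map (homOfLE hle).op r) • AModX.res L _ _ = (0 : Γ(X, U ⊓ V)) • AModX.res L _ _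
    rw [zero_smul, AModX.res_self]
    refine Eq.trans ?_ (((QCoh.map_app_comm s (homOfLE hle) r)).trans ((congrArg _ hr).trans (map_zero _)))
    refine Eq.trans ?_ (congrArg (s.app (U ⊓ V)) (mul_one (show Γ(X, U ⊓ V) from X.presheaf.map (homOfLE hle).op r)))
    refine Eq.trans ?_ (Scheme.Modules.Hom.app_smul s _ (show Γ(Coh.structureModule X, U ⊓ V) from (1 : Γ(X, U ⊓ V)))).symm
    exact congrArg _ (ZeroSchX.res_sv s inf_le_right)
  rw [h0, map_zero]

variable [IsLocallyNoetherian X]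

/-- The restriction sequence of a section avoiding the associated points. -/
theorem exists_restrict_ses (hL : PicF.IsInvertible L) (s : Coh.structureModule X ⟶ L)
    (hO : ∀ x, Curv2.IsAssPoint (Coh.structureModule X) x → ∃ U : X.Opens, x ∈ U ∧ InvX.IsFrame (ZeroSchX.sv s U))
    {F : X.Modules} (hF : Coh.IsCoh F)
    (hass : ∀ x, Curv2.IsAssPoint F x → ∃ U : X.Opens, x ∈ U ∧ InvX.IsFrame (ZeroSchX.sv s U)) :
    PicF.IsInvertible (ClSub.idealMod (PicF2.zeroScheme L s)) ∧
      PicF.cl L * PicF.cl (ClSub.idealMod (PicF2.zeroScheme L s)) = 1 ∧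
      Mono (DivisorExt.mulIdeal (PicF2.zeroScheme L s) F) := by
  haveI := mono_of_avoids s hO
  obtain ⟨e⟩ := nonempty_idealMod_zeroScheme hL s
  have h1 : PicF.cl L * PicF.cl (ClSub.idealMod (PicF2.zeroScheme L s)) = 1 :=
    (cl_tensor _ _).symm.trans (cl_eq_iff.2 ⟨e⟩)
  have hI : PicF.IsInvertible (ClSub.idealMod (PicF2.zeroScheme L s)) := by
    obtain ⟨L', hL', ⟨e'⟩⟩ := PicInv.exists_inverse hL
    have h2 : PicF.cl L * PicF.cl L' = 1 := (cl_tensor _ _).symm.trans (cl_eq_iff.2 ⟨e'⟩)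
    have h3 : PicF.cl L' = PicF.cl (ClSub.idealMod (PicF2.zeroScheme L s)) := by
      rw [← mul_one (PicF.cl L'), ← h1, ← mul_assoc, mul_comm (PicF.cl L'), h2, one_mul]
    exact H23.PicMul.isInvertible_of_iso (cl_eq_iff.1 h3).some hL'
  refine ⟨hI, h1, S14522.mono_mulIdeal _ hI F hF fun x hx ha => ?_⟩
  obtain ⟨U, hxU, hf⟩ := hass x ha
  exact not_mem_support_of_isFrame hL s hxU hf hx

end Groth.Agent.Pic13Lib
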