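import Groth.Agent.HyperplaneLib.Main
import Groth.Agent.HyperplaneLib.Sections
import Groth.Agent.S3572
import Groth.Agent.S3573
import Groth.Agent.PnCoh.Chow.Proper
import Groth.Agent.PicClLib.Basic
import Groth.Agent.ProjUPX.TwistFrame

/-!
# A hyperplane is a projective space, over the field
-/

set_option autoImplicit false
set_option linter.style.haveILetI false
set_option backward.isDefEq.respectTransparency false
set_option backward.isDefEq.respectTransparency.types false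
set_option maxHeartbeats 1000000

universe u

open CategoryTheory AlgebraicGeometry TopologicalSpace Opposite
open Groth.Agent.AModX

noncomputable section

open Groth.Agent.HyperplaneLib

namespace Groth.Agent.Pic13Lib

/-- A hyperplane is a projective space. -/
theorem exists_iso_toSpec (k : Type u) [Field k] (n : ℕ)
    (s : Coh.structureModule (CohB1.ProjSpace (n + 1) k) ⟶ Twist.twistProjSpace (n + 1) k 1) (hs : s ≠ 0) :
    ∃ φ : CohB1.ProjSpace n k ≅ (PicF2.zeroScheme _ s).subscheme,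
      (φ.hom ≫ (PicF2.zeroScheme _ s).subschemeι) ≫ CohB1.ProjSpace.toSpec (n + 1) k = CohB1.ProjSpace.toSpec n k ∧
      Nonempty ((Scheme.Modules.pullback (φ.hom ≫ (PicF2.zeroScheme _ s).subschemeι)).obj
          (Twist.twistProjSpace (n + 1) k 1) ≅ Twist.twistProjSpace n k 1) := by
  classical
  let q := CohB1.ProjSpace.toSpec n k
  let q' := CohB1.ProjSpace.toSpec (n + 1) k
  let O := Twist.twistProjSpace n k 1
  let O' := Twist.twistProjSpace (n + 1) k 1
  let ι := (PicF2.zeroScheme O' s).subschemeι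
  let T : Fin (n + 2) → Γ(O', ⊤) := fun a => ProjUP.coord (n + 1) k a
  let σ : Fin (n + 1) → Γ(O, ⊤) := fun a => ProjUP.coord n k a
  have hO' : PicF.IsInvertible O' := isInvertible_O1 (n + 1) k
  obtain ⟨c, hc⟩ := exists_sum_coord (n + 1) (PicF2.secVal O' s ⊤)
  have hc' : (PicF2.secVal O' s ⊤ : Γ(O', ⊤)) = ∑ a, (ProjUP.toGlobal q' (c a) • T a : Γ(O', ⊤)) := hc
  obtain ⟨p, hp⟩ : ∃ p, c p ≠ 0 := by
    by_contra! h
    refine hs (eq_zero_of_secVal s (hc'.trans ?_))
    exact Finset.sum_eq_zero fun a _ => by rw [h a, map_zero, zero_smul]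
  let d : Fin (n + 1) → k := fun i => -(c (p.succAbove i) / c p)
  -- the linear map of coordinates
  let t : Fin (n + 2) → Γ(O, ⊤) :=
    p.insertNth (α := fun _ => Γ(O, ⊤)) (∑ i, (ProjUP.toGlobal q (d i) • σ i : Γ(O, ⊤))) σ
  have htp : t p = ∑ i, (ProjUP.toGlobal q (d i) • σ i : Γ(O, ⊤)) := Fin.insertNth_apply_same _ _ _
  have hts : ∀ i, t (p.succAbove i) = σ i := fun i => Fin.insertNth_apply_succAbove _ _ _ _
  have hgen : ProjUP.GeneratedBy O t := by
    have h1 : ProjUP.GeneratedBy O σ := by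
      intro x
      have := generatedBy_pullCoord (N := n) (k := k) (𝟙 (CohB1.ProjSpace n k))
      exact ProjUPX.generatedBy_of_frames (L := O) _ (fun y => by
        obtain ⟨i, hi⟩ := ProjUPX.cov_X (n := n) (R := k) y
        exact ⟨i, _, hi, ProjUPX.isFrame_sec (𝒜 := CohB1.polyGrading n k) (ProjPt.X_mem i)⟩) x
    refine generatedBy_of_mem_span h1 fun i => Submodule.subset_span ⟨p.succAbove i, hts i⟩
  obtain ⟨φ₀, hφ₀, τ₀, hτ₀⟩ := S3572.result (n + 1) q O (isInvertible_O1 n k) t hgen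
  -- it lands in the hyperplane
  have key : ∀ (W : Scheme.{u}) (r : W ⟶ CohB1.ProjSpace (n + 1) k) (qW : W ⟶ Spec (CommRingCat.of k))
      (hr : r ≫ q' = qW),
      (ProjUP.pullSec r O' (PicF2.secVal O' s ⊤) : Γ((Scheme.Modules.pullback r).obj O', ⊤)) =
        (ProjUP.toGlobal qW (c p) • ((ProjUP.pullSec r O' (T p) : Γ((Scheme.Modules.pullback r).obj O', ⊤)) -
          ∑ i, (ProjUP.toGlobal qW (d i) • (ProjUP.pullSec r O' (T (p.succAbove i)) : Γ((Scheme.Modules.pullback r).obj O', ⊤)) :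
            Γ((Scheme.Modules.pullback r).obj O', ⊤))) : Γ((Scheme.Modules.pullback r).obj O', ⊤)) := by
    intro W r qW hr
    rw [hc', pullSec_lin r O' hr c T, Fin.sum_univ_succAbove _ p, smul_sub, Finset.smul_sum, sub_eq_add_neg,
      ← Finset.sum_neg_distrib]
    congr 1
    refine Finset.sum_congr rfl fun i _ => ?_
    rw [smul_smul, ← map_mul, ← neg_smul, ← map_neg]
    congr 2
    simp only [d, mul_neg, neg_neg]
    field_simp
  have hzero : ProjUP.pullSec φ₀ O' (PicF2.secVal O' s ⊤) = 0 := by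
    refine (key _ φ₀ q hφ₀).trans ?_
    refine Eq.trans (congrArg (ProjUP.toGlobal q (c p) • ·) (sub_eq_zero.2 ?_)) (smul_zero _)
    refine (ConcreteCategory.bijective_of_isIso (τ₀.hom.app ⊤)).1 ?_
    rw [map_sum]
    refine (hτ₀ p).trans (htp.trans (Finset.sum_congr rfl fun i _ => ?_))
    refine Eq.trans ?_ (Scheme.Modules.Hom.app_smul τ₀.hom _ _).symm
    exact congrArg (ProjUP.toGlobal q (d i) • ·) ((hτ₀ (p.succAbove i)).trans (hts i)).symm
  haveI : QuasiCompact φ₀ := by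
    haveI : QuasiCompact (φ₀ ≫ q') := by
      rw [hφ₀]
      haveI := PnCoh.Chow.isProper_toSpec n k
      infer_instance
    haveI := PnCoh.Chow.isProper_toSpec (n + 1) k
    exact QuasiCompact.of_comp φ₀ q'
  let a := IsClosedImmersion.lift ι φ₀ (by
    rw [Scheme.IdealSheafData.ker_subschemeι]
    exact zeroScheme_le_ker hO' s φ₀ hzero)
  have ha : a ≫ ι = φ₀ := IsClosedImmersion.lift_fac _ _ _
  -- the inverse
  let qH := ι ≫ q'
  let L := (Scheme.Modules.pullback ι).obj O'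
  let u : Fin (n + 1) → Γ(L, ⊤) := fun i => ProjUP.pullSec ι O' (T (p.succAbove i))
  have hrel : (ProjUP.pullSec ι O' (T p) : Γ(L, ⊤)) = ∑ i, (ProjUP.toGlobal qH (d i) • u i : Γ(L, ⊤)) := by
    have h1 := key _ ι qH rfl
    rw [pullSec_zeroScheme hO' s] at h1
    have hu : IsUnit (ProjUP.toGlobal qH (c p)) := (isUnit_iff_ne_zero.2 hp).map _
    exact sub_eq_zero.1 (hu.smul_eq_zero.1 h1.symm)
  have hgenL : ProjUP.GeneratedBy L u := by
    refine generatedBy_of_mem_span (generatedBy_pullCoord ι) fun j => ?_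
    rcases Fin.eq_self_or_eq_succAbove p j with rfl | ⟨i, rfl⟩
    · show (ProjUP.pullSec ι O' (T j) : Γ(L, ⊤)) ∈ _
      rw [hrel]
      exact Submodule.sum_mem _ fun i _ => Submodule.smul_mem _ _ (Submodule.subset_span ⟨i, rfl⟩)
    · exact Submodule.subset_span ⟨i, rfl⟩
  obtain ⟨b, hb, τb, hτb⟩ := S3572.result n qH L (PicClLib.isInvertible_pullback ι hO') u hgenL
  have hbφ : b ≫ φ₀ = ι := by
    let τ : (Scheme.Modules.pullback (b ≫ φ₀)).obj O' ≅ L :=
      (Scheme.Modules.pullbackComp b φ₀).symm.app O' ≪≫ (Scheme.Modules.pullback b).mapIso τ₀ ≪≫ τb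
    refine S3573.result (n + 1) (b ≫ φ₀) ι (by rw [Category.assoc, hφ₀, hb]) τ fun j => ?_
    show τb.hom.app ⊤ (((Scheme.Modules.pullback b).map τ₀.hom).app ⊤
      (((Scheme.Modules.pullbackComp b φ₀).inv.app O').app ⊤ (ProjUP.pullSec (b ≫ φ₀) O' (T j)))) =
      ProjUP.pullSec ι O' (T j)
    rw [comp_inv_app_pullSec, map_app_pullSec, hτ₀ j]
    rcases Fin.eq_self_or_eq_succAbove p j with rfl | ⟨i, rfl⟩
    · rw [htp, pullSec_lin b O hb d σ, map_sum, hrel]
      refine Finset.sum_congr rfl fun i _ => ?_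
      rw [Scheme.Modules.Hom.app_smul]
      exact congrArg _ (hτb i)
    · rw [hts]
      exact hτb i
  have h1 : b ≫ a = 𝟙 _ := by
    rw [← cancel_mono ι, Category.assoc, ha, hbφ, Category.id_comp]
  have h2 : a ≫ b = 𝟙 _ := by
    obtain ⟨τ, hτ⟩ := exists_iso_comp_id a b ι φ₀ ha τb τ₀ σ (fun i => T (p.succAbove i)) hτb
      fun i => (hτ₀ (p.succAbove i)).trans (hts i)
    exact S3573.result n (a ≫ b) (𝟙 _) (by rw [Category.assoc, hb, Category.id_comp, ← Category.assoc, ha, hφ₀]) τ hτ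
  exact ⟨⟨a, b, h2, h1⟩, (congrArg (· ≫ q') ha).trans hφ₀, ⟨(Scheme.Modules.pullbackCongr ha).app O' ≪≫ τ₀⟩⟩

end Groth.Agent.Pic13Lib
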