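import Mathlib.RingTheory.Binomial
import Mathlib.Algebra.MvPolynomial.Monad
import Mathlib.Algebra.BigOperators.Fin
import Mathlib.Data.Nat.Choose.Bounds
import Mathlib.Tactic.Ring
import Mathlib.Tactic.Linarith

/-!
# The integers in Mumford's regularity bound
-/

set_option autoImplicit false

namespace Groth.Agent.Pic13Lib.Mumford

/-- Binomial coefficients are polynomially bounded. -/
theorem abs_choose_le (x : ℤ) (j : ℕ) : |Ring.choose x j| ≤ (x ^ 2 + (j : ℤ) + 2) ^ j := by
  obtain ⟨a, rfl | rfl⟩ := Int.eq_nat_or_neg x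
  · rw [Ring.choose_natCast, abs_of_nonneg (Int.natCast_nonneg _)]
    have h1 : ((a.choose j : ℕ) : ℤ) ≤ (a : ℤ) ^ j := by exact_mod_cast Nat.choose_le_pow a j
    refine h1.trans (pow_le_pow_left₀ (Int.natCast_nonneg _) ?_ j)
    nlinarith [sq_nonneg ((a : ℤ) - 1)]
  · rw [Ring.choose_neg]
    rcases Nat.eq_zero_or_pos (a + j) with h | h
    · obtain ⟨rfl, rfl⟩ : a = 0 ∧ j = 0 := by omega
      simp
    · have hcast : ((a : ℤ) + (j : ℤ) - 1) = ((a + j - 1 : ℕ) : ℤ) := by omega
      rw [hcast, Ring.choose_natCast, Units.smul_def, smul_eq_mul, abs_mul,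
        abs_of_nonneg (Int.natCast_nonneg ((a + j - 1).choose j))]
      rw [show |((Int.negOnePow (j : ℤ) : ℤˣ) : ℤ)| = 1 from by rcases Int.units_eq_one_or (Int.negOnePow (j : ℤ)) with h' | h' <;> simp [h'], one_mul]
      have h1 : (((a + j - 1).choose j : ℕ) : ℤ) ≤ ((a + j - 1 : ℕ) : ℤ) ^ j := by
        exact_mod_cast Nat.choose_le_pow _ j
      refine h1.trans (pow_le_pow_left₀ (Int.natCast_nonneg _) ?_ j)
      rw [← hcast]
      nlinarith [sq_nonneg ((a : ℤ) - 1)]

theorem neg_mul_choose_le (c x : ℤ) (j : ℕ) : -(c * Ring.choose x j) ≤ c ^ 2 * (x ^ 2 + (j : ℤ) + 2) ^ j := by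
  refine (neg_le_abs _).trans ?_
  rw [abs_mul]
  refine mul_le_mul ?_ (abs_choose_le x j) (abs_nonneg _) (sq_nonneg c)
  rw [← sq_abs c]
  exact Int.le_self_sq |c|

/-- The coefficients of the restriction to a hyperplane. -/
def shift (n : ℕ) {R : Type*} [CommRing R] (a : Fin (n + 2) → R) : Fin (n + 1) → R := fun l =>
  ∑ i : Fin (n + 1), if (l : ℕ) ≤ (i : ℕ) then (-1) ^ ((i : ℕ) - (l : ℕ)) * a i.succ else 0

theorem choose_pred (r : ℤ) : ∀ i : ℕ,
    Ring.choose (r - 1) i = ∑ l ∈ Finset.range (i + 1), (-1) ^ (i - l) * Ring.choose r l := by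
  intro i
  induction i with
  | zero => simp [Ring.choose_zero_right]
  | succ i ih =>
    have h1 : Ring.choose r (i + 1) = Ring.choose (r - 1) i + Ring.choose (r - 1) (i + 1) := by
      conv_lhs => rw [show r = r - 1 + 1 by ring]
      exact Ring.choose_succ_succ _ _
    rw [Finset.sum_range_succ, Nat.sub_self, pow_zero, one_mul]
    have h2 : ∀ l ∈ Finset.range (i + 1), (-1 : ℤ) ^ (i + 1 - l) * Ring.choose r l =
        -((-1) ^ (i - l) * Ring.choose r l) := fun l hl => by
      rw [show i + 1 - l = (i - l) + 1 by have := Finset.mem_range.1 hl; omega, pow_succ]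
      ring
    rw [Finset.sum_congr rfl h2, Finset.sum_neg_distrib, ← ih, h1]
    ring

theorem sum_shift (n : ℕ) (a : Fin (n + 2) → ℤ) (r : ℤ) :
    ∑ j : Fin (n + 2), a j * Ring.choose r (j : ℕ) - ∑ j : Fin (n + 2), a j * Ring.choose (r - 1) (j : ℕ) =
      ∑ l : Fin (n + 1), shift n a l * Ring.choose r (l : ℕ) := by
  have h1 : ∀ i : Fin (n + 1), a i.succ * Ring.choose r ((i : ℕ) + 1) - a i.succ * Ring.choose (r - 1) ((i : ℕ) + 1) =
      ∑ l : Fin (n + 1), (if (l : ℕ) ≤ (i : ℕ) then (-1) ^ ((i : ℕ) - (l : ℕ)) * a i.succ else 0) * Ring.choose r (l : ℕ) := by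
    intro i
    have h2 : Ring.choose r ((i : ℕ) + 1) = Ring.choose (r - 1) (i : ℕ) + Ring.choose (r - 1) ((i : ℕ) + 1) := by
      conv_lhs => rw [show r = r - 1 + 1 by ring]
      exact Ring.choose_succ_succ _ _
    rw [h2, choose_pred r (i : ℕ), Fin.sum_univ_eq_sum_range
      (fun l : ℕ => (if l ≤ (i : ℕ) then (-1) ^ ((i : ℕ) - l) * a i.succ else 0) * Ring.choose r l) (n + 1),
      ← Finset.sum_subset (Finset.range_subset_range.2 (Nat.succ_le_succ (Nat.le_of_lt_succ i.2)))
        (fun l hl hl' => by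
          rw [if_neg (by simpa [Finset.mem_range, Nat.lt_succ_iff] using hl'), zero_mul])]
    rw [mul_add, add_sub_cancel_right, Finset.mul_sum]
    refine Finset.sum_congr rfl fun l hl => ?_
    rw [if_pos (Nat.le_of_lt_succ (Finset.mem_range.1 hl))]
    ring
  rw [Fin.sum_univ_succ, Fin.sum_univ_succ (fun j : Fin (n + 2) => a j * Ring.choose (r - 1) (j : ℕ))]
  simp only [Fin.val_zero, Ring.choose_zero_right, Fin.val_succ]
  rw [add_sub_add_left_eq_sub, ← Finset.sum_sub_distrib, Finset.sum_congr rfl fun i _ => h1 i, Finset.sum_comm]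
  exact Finset.sum_congr rfl fun l _ => (Finset.sum_mul _ _ _).symm

/-- The bound on `h¹` in degree `x`. -/
def bump (p n : ℕ) {R : Type*} [CommRing R] (a : Fin (n + 2) → R) (x : R) : R :=
  (p : R) * ((x ^ 2 + ((n + 1 : ℕ) : R) + 2) ^ (n + 1)) +
    ∑ j : Fin (n + 2), a j ^ 2 * (x ^ 2 + ((j : ℕ) : R) + 2) ^ (j : ℕ)

/-- Mumford's bound, with generic coefficients. -/
noncomputable def bound (p : ℕ) : (n : ℕ) → MvPolynomial (Fin (n + 1)) ℤ
  | 0 => 0
  | n + 1 =>
    let q := MvPolynomial.bind₁ (shift n MvPolynomial.X) (bound p n)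
    q + bump p n MvPolynomial.X (q - 1)

theorem eval_bound_succ (p n : ℕ) (a : Fin (n + 2) → ℤ) :
    MvPolynomial.eval a (bound p (n + 1)) = MvPolynomial.eval (shift n a) (bound p n) +
      bump p n a (MvPolynomial.eval (shift n a) (bound p n) - 1) := by
  have h : MvPolynomial.eval a (MvPolynomial.bind₁ (shift n MvPolynomial.X) (bound p n)) =
      MvPolynomial.eval (shift n a) (bound p n) := by
    show MvPolynomial.eval₂Hom (RingHom.id ℤ) a (MvPolynomial.bind₁ _ _) = _
    rw [MvPolynomial.eval₂Hom_bind₁]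
    refine congrArg (fun g => MvPolynomial.eval₂Hom (RingHom.id ℤ) g (bound p n)) (funext fun l => ?_)
    simp only [shift, map_sum]
    refine Finset.sum_congr rfl fun i _ => ?_
    split <;> simp
  simp only [bound, bump, map_add, map_sub, map_mul, map_sum, map_pow, map_natCast, map_one, map_ofNat, h,
    MvPolynomial.eval_X]

end Groth.Agent.Pic13Lib.Mumford
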