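import Groth.Agent.S11296
import Groth.Agent.S4466
import Groth.Agent.S10829
import Groth.Agent.Pic13Lib.HypRestrict
import Groth.Agent.Pic13Lib.HypAvoid
import Groth.Agent.Pic13Lib.MumfordArith
import Groth.Agent.Pic13Lib.AlgEqEuler
import Groth.Agent.Pic13Lib.HypIso
import Groth.Agent.QCoh.PushLin
import Groth.Agent.Lib.TwistSumInv
import Groth.Agent.SeesawX.PnFibre
import Groth.Agent.AssPtX.Noeth
import Groth.Agent.QCoh16.SerreFree

/-!
# Mumford's uniform regularity over an infinite field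
-/

set_option autoImplicit false
set_option linter.style.haveILetI false
set_option linter.unusedSectionVars false
set_option backward.isDefEq.respectTransparency false
set_option backward.isDefEq.respectTransparency.types false
set_option maxHeartbeats 1000000

universe u

open CategoryTheory CategoryTheory.Limits AlgebraicGeometry TopologicalSpace Opposite
open Groth.Agent.H23 Groth.Agent.H23.PicMul
open Groth.Agent.RegEpi

attribute [local instance] PicMul.clMonoid HasDerivedCategory.standard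

noncomputable section

namespace Groth.Agent.Pic13Lib.Mumford

variable {k : Type u} [Field k]

/-- The Euler characteristics of the twists are given by binomial coefficients. -/
def HasCoeffs (n : ℕ) (F : (CohB1.ProjSpace n k).Modules) (a : Fin (n + 1) → ℤ) : Prop :=
  ∀ r : ℤ, FGA.eulerCharLE k (CohB1.ProjSpace n k) (CohB1.tensorMod F (Twist.twistProjSpace n k r)) n =
    (Finset.univ : Finset (Fin (n + 1))).sum (fun j => a j * Ring.choose r (j : ℕ))

theorem isNoetherian_pn (n : ℕ) : IsNoetherian (CohB1.ProjSpace n k) :=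
  show IsNoetherian (Proj (CohB1.polyGrading n k)) from Proj16.isNoetherian_proj _

/-- The projection formula. -/
theorem push_projection {X S : Scheme.{u}} (i : X ⟶ S) [IsClosedImmersion i] (G : X.Modules) (N : S.Modules) :
    Nonempty ((Scheme.Modules.pushforward i).obj (CohB1.tensorMod G ((Scheme.Modules.pullback i).obj N)) ≅
      CohB1.tensorMod ((Scheme.Modules.pushforward i).obj G) N) :=
  ⟨(@asIso _ _ _ _ _ (KFlatLib.isIso_projMod_of_isClosedImmersion i G N)).symm⟩

theorem h0_le_of_mono {X : Scheme.{u}} [X.Over (Spec (CommRingCat.of k))] {A B : X.Modules} (g : A ⟶ B) [Mono g]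
    [Module.Finite k (Coh.HH X B 0)] : Module.finrank k (Coh.HH X A 0) ≤ Module.finrank k (Coh.HH X B 0) :=
  LinearMap.finrank_le_finrank_of_injective (PnDual.HHlin_f_injective (k := k)
    (S := ShortComplex.mk g (cokernel.π g) (cokernel.condition g))
    (ShortComplex.ShortExact.mk (ShortComplex.exact_of_g_is_cokernel _ (cokernelIsCokernel _))))

theorem h0_le_sigma {X : Scheme.{u}} [X.Over (Spec (CommRingCat.of k))] {A B : X.Modules} {p : ℕ}
    (g : A ⟶ ∐ fun _ : Fin p => B) [Mono g] (hB : Module.Finite k (Coh.HH X B 0))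
    (hc : Module.Finite k (Coh.HH X (∐ fun _ : Fin p => B) 0)) :
    Module.finrank k (Coh.HH X A 0) ≤ p * Module.finrank k (Coh.HH X B 0) := by
  refine (h0_le_of_mono g).trans_eq ?_
  rw [@TwistSum.finrank_HH_sigma k _ X _ p (fun _ => B) 0 (fun _ => hB), Finset.sum_const, Finset.card_univ,
    Fintype.card_fin, smul_eq_mul]

/-- The restriction of `O(r)` to a hyperplane. -/
theorem nonempty_pull_twist {n : ℕ} (i : CohB1.ProjSpace n k ⟶ CohB1.ProjSpace (n + 1) k)
    (h : Nonempty ((Scheme.Modules.pullback i).obj (Twist.twistProjSpace (n + 1) k 1) ≅ Twist.twistProjSpace n k 1))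
    (r : ℤ) :
    Nonempty ((Scheme.Modules.pullback i).obj (Twist.twistProjSpace (n + 1) k r) ≅ Twist.twistProjSpace n k r) := by
  refine cl_eq_iff.1 ?_
  have h' : (pullHom i).comp (SeesawX.PnFibre.twistHom (n + 1) k) = SeesawX.PnFibre.twistHom n k :=
    MonoidHom.ext_mint (cl_eq_iff.2 h)
  exact DFunLike.congr_fun h' (Multiplicative.ofAdd r)

theorem nonempty_push_twist {n : ℕ} (i : CohB1.ProjSpace n k ⟶ CohB1.ProjSpace (n + 1) k) [IsClosedImmersion i]
    (h : Nonempty ((Scheme.Modules.pullback i).obj (Twist.twistProjSpace (n + 1) k 1) ≅ Twist.twistProjSpace n k 1))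
    (G : (CohB1.ProjSpace n k).Modules) (r : ℤ) :
    Nonempty ((Scheme.Modules.pushforward i).obj (CohB1.tensorMod G (Twist.twistProjSpace n k r)) ≅
      CohB1.tensorMod ((Scheme.Modules.pushforward i).obj G) (Twist.twistProjSpace (n + 1) k r)) := by
  obtain ⟨e⟩ := nonempty_pull_twist i h r
  obtain ⟨e'⟩ : Nonempty (CohB1.tensorMod G (Twist.twistProjSpace n k r) ≅
      CohB1.tensorMod G ((Scheme.Modules.pullback i).obj (Twist.twistProjSpace (n + 1) k r))) := by
    rw [← cl_eq_iff, cl_tensor, cl_tensor, cl_eq_iff.2 ⟨e.symm⟩]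
  obtain ⟨E⟩ := push_projection i G (Twist.twistProjSpace (n + 1) k r)
  exact ⟨(Scheme.Modules.pushforward i).mapIso e' ≪≫ E⟩

/-- The sections of `O(x)` are polynomially bounded. -/
theorem h0_twist_le (n : ℕ) (x : ℤ) :
    (Module.finrank k (Coh.HH (CohB1.ProjSpace (n + 1) k) (Twist.twistProjSpace (n + 1) k x) 0) : ℤ) ≤
      (x ^ 2 + ((n + 1 : ℕ) : ℤ) + 2) ^ (n + 1) := by
  by_cases hx : 0 ≤ x
  · have h := S4466.result k (n + 1) (Nat.succ_pos n) x
    rw [Finset.sum_eq_single 0 (fun j _ hj => by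
        haveI := S0844.result k (n + 1) x j (fun h => hj h.1) (fun h => by omega)
        rw [Module.finrank_zero_of_subsingleton, Nat.cast_zero, mul_zero]) (by simp), pow_zero, one_mul] at h
    rw [h]
    obtain ⟨a, rfl⟩ := Int.eq_ofNat_of_zero_le hx
    rw [← Nat.cast_add, Ring.choose_natCast]
    have h1 : (((a + (n + 1)).choose (n + 1) : ℕ) : ℤ) ≤ ((a + (n + 1) : ℕ) : ℤ) ^ (n + 1) := by
      exact_mod_cast Nat.choose_le_pow _ _
    refine h1.trans (pow_le_pow_left₀ (Int.natCast_nonneg _) ?_ _)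
    push_cast
    nlinarith [sq_nonneg ((a : ℤ) - 1)]
  · haveI := S0844.result k (n + 1) x 0 (fun h => hx h.2) (fun h => Nat.succ_ne_zero n h.1.symm)
    rw [Module.finrank_zero_of_subsingleton, Nat.cast_zero]
    positivity

/-- A subsheaf of a free sheaf has few sections. -/
theorem h0_sub_le (n p : ℕ) (F : (CohB1.ProjSpace (n + 1) k).Modules)
    (ι : F ⟶ FlatMod.freeMod (CohB1.ProjSpace (n + 1) k) p) [Mono ι] (x : ℤ) :
    (Module.finrank k (Coh.HH (CohB1.ProjSpace (n + 1) k) (CohB1.tensorMod F (Twist.twistProjSpace (n + 1) k x)) 0) : ℤ) ≤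
      (p : ℤ) * (x ^ 2 + ((n + 1 : ℕ) : ℤ) + 2) ^ (n + 1) := by
  let f : (twF (k := k) (n := n + 1) x).obj F ⟶
      (twF (k := k) (n := n + 1) x).obj (FlatMod.freeMod (Proj (CohB1.polyGrading (n + 1) k)) p) := (twF x).map ι
  haveI : Mono f := (twF (k := k) (n := n + 1) x).map_mono ι
  obtain ⟨e⟩ := twF_sigma_unit_iso (k := k) (n := n + 1) p x
  let g : (twF (k := k) (n := n + 1) x).obj F ⟶ ∐ fun _ : Fin p => Twist.twist (CohB1.polyGrading (n + 1) k) x :=
    f ≫ e.hom
  haveI : Mono g := mono_comp _ _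
  have hc : Coh.IsCoh (∐ fun _ : Fin p => Twist.twist (CohB1.polyGrading (n + 1) k) x) :=
    RegEpi.isCoh_sigma_twist p x
  haveI := isNoetherian_pn (k := k) (n + 1)
  have h1 := h0_le_sigma (k := k) (X := CohB1.ProjSpace (n + 1) k) (B := Twist.twistProjSpace (n + 1) k x) g
    (PnCoh.Finite.projSpace_finite_HH (n + 1) k _ (CurveDeg.isCoh_of_isInvertible
      (PnCoh.Finite.isInvertible_twist (ProjRegular.coords k (n + 1)) ProjRegular.coords_mem ProjRegular.coords_cover x)) 0)
    (PnCoh.Finite.projSpace_finite_HH (n + 1) k _ hc 0)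
  exact ((Int.ofNat_le.2 h1).trans_eq (Nat.cast_mul _ _)).trans
    (mul_le_mul_of_nonneg_left (h0_twist_le n x) (Int.natCast_nonneg p))

theorem euler_ses {n : ℕ} {S : ShortComplex (CohB1.ProjSpace n k).Modules} (hS : S.ShortExact)
    (h₁ : Coh.IsCoh S.X₁) (h₂ : Coh.IsCoh S.X₂) (h₃ : Coh.IsCoh S.X₃) :
    FGA.eulerCharLE k (CohB1.ProjSpace n k) S.X₂ n =
      FGA.eulerCharLE k (CohB1.ProjSpace n k) S.X₁ n + FGA.eulerCharLE k (CohB1.ProjSpace n k) S.X₃ n := by
  haveI : IsProper ((CohB1.ProjSpace n k) ↘ Spec (CommRingCat.of k)) := PnCoh.Chow.isProper_toSpec n _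
  have hd := (S10829.result k n).le
  rw [eulerCharLE_eq hd h₁.1, eulerCharLE_eq hd h₂.1, eulerCharLE_eq hd h₃.1]
  exact CurveCohLib.euler_additive hS h₁ h₂ h₃

theorem euler_iso {n : ℕ} {M N : (CohB1.ProjSpace n k).Modules} (e : M ≅ N) :
    FGA.eulerCharLE k (CohB1.ProjSpace n k) M n = FGA.eulerCharLE k (CohB1.ProjSpace n k) N n :=
  Finset.sum_congr rfl fun j _ => by rw [(RegDescent.HHequiv (k := k) e j).finrank_eq]

theorem euler_push {n : ℕ} (i : CohB1.ProjSpace n k ⟶ CohB1.ProjSpace (n + 1) k) [IsClosedImmersion i]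
    (hi : i ≫ CohB1.ProjSpace.toSpec (n + 1) k = CohB1.ProjSpace.toSpec n k)
    {G : (CohB1.ProjSpace n k).Modules} (hG : Coh.IsCoh G) :
    FGA.eulerCharLE k (CohB1.ProjSpace (n + 1) k) ((Scheme.Modules.pushforward i).obj G) (n + 1) =
      FGA.eulerCharLE k (CohB1.ProjSpace n k) G n := by
  have hfr : ∀ j, Module.finrank k (Coh.HH (CohB1.ProjSpace (n + 1) k) ((Scheme.Modules.pushforward i).obj G) j) =
      Module.finrank k (Coh.HH (CohB1.ProjSpace n k) G j) := fun j => by
    obtain ⟨e⟩ := QCoh.HH_push_linear i (Coh.toGlobal (CohB1.ProjSpace.toSpec (n + 1) k))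
      (Coh.toGlobal (CohB1.ProjSpace.toSpec n k)) (fun a => by rw [← hi]; rfl) hG.1 j
    exact e.finrank_eq.symm
  show (Finset.range (n + 1 + 1)).sum _ = (Finset.range (n + 1)).sum _
  rw [Finset.sum_range_succ]
  haveI : Subsingleton (Coh.HH (CohB1.ProjSpace n k) G (n + 1)) := by
    obtain ⟨e⟩ := twF_zero_iso (k := k) (n := n) G
    exact QCoh.subsingleton_HH_of_iso e (n + 1) (ProjRegular.subsingleton_HH_high (k := k) (n := n) hG 0 (n + 1) (Nat.lt_succ_self n))
  rw [hfr (n + 1), Module.finrank_zero_of_subsingleton, Nat.cast_zero, mul_zero, add_zero]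
  exact Finset.sum_congr rfl fun j _ => by rw [hfr j]

/-- The induction step. -/
theorem isMRegular_step [Infinite k] (n p : ℕ) (m : (Fin (n + 1) → ℤ) → ℤ)
    (IH : ∀ (G : (CohB1.ProjSpace n k).Modules), Coh.IsCoh G →
      (∃ ι : G ⟶ FlatMod.freeMod (CohB1.ProjSpace n k) p, Mono ι) → ∀ b, HasCoeffs n G b → Curv2.IsMRegular k n G (m b))
    (F : (CohB1.ProjSpace (n + 1) k).Modules) (hF : Coh.IsCoh F)
    (ι : F ⟶ FlatMod.freeMod (CohB1.ProjSpace (n + 1) k) p) [Mono ι] (a : Fin (n + 2) → ℤ) (ha : HasCoeffs (n + 1) F a) :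
    Curv2.IsMRegular k (n + 1) F (m (shift n a) + bump p n a (m (shift n a) - 1)) := by
  classical
  haveI := isNoetherian_pn (k := k) (n + 1)
  haveI := isNoetherian_pn (k := k) n
  haveI : Nonempty (CohB1.ProjSpace (n + 1) k) := by
    haveI := H23.PnChart.isIntegral_projSpace (n + 1) k
    infer_instance
  let P := CohB1.ProjSpace (n + 1) k
  let Q := cokernel ι
  have hfree : Coh.IsCoh (FlatMod.freeMod P p) := Syzygy.isCoh_sigma_O p
  have hQ : Coh.IsCoh Q := QCoh.isCoh_cokernel hF.1 hfree ι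
  have hO : Coh.IsCoh (Coh.structureModule P) := AmpleVan.isCoh_invertible InvX.isInvertible_structureModule
  have hfinite : ∀ {M : P.Modules}, Coh.IsCoh M → {x : P | Curv2.IsAssPoint M x}.Finite := fun hM =>
    (AssPtX.finite_assPoints hM (U := ⊤) isCompact_univ).subset fun x hx => ⟨trivial, hx⟩
  obtain ⟨s, hs⟩ := exists_hyperplane_avoid k (n + 1) (((hfinite hO).union (hfinite hF)).union (hfinite hQ))
  have hO1 : PicF.IsInvertible (Twist.twistProjSpace (n + 1) k 1) := HyperplaneLib.isInvertible_O1 (n + 1) k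
  obtain ⟨hI, hcl, hmono⟩ := exists_restrict_ses hO1 s (fun x hx => hs x (Or.inl (Or.inl hx))) hF
    (fun x hx => hs x (Or.inl (Or.inr hx)))
  haveI := hmono
  haveI : Mono s := mono_of_avoids (X := CohB1.ProjSpace (n + 1) k) s (fun x hx => hs x (Or.inl (Or.inl hx)))
  have hs0 : s ≠ 0 := fun h0 => by
    have hz : InvX.one (X := P) (𝟙 (Coh.structureModule P)) = InvX.one (0 : Coh.structureModule P ⟶ Coh.structureModule P) :=
      congrArg InvX.one ((cancel_mono s).1 (show 𝟙 _ ≫ s = 0 ≫ s by rw [Category.id_comp, zero_comp, h0]))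
    haveI : Nonempty (⊤ : P.Opens) := ⟨⟨Classical.arbitrary P, trivial⟩⟩
    exact one_ne_zero (α := Γ(P, ⊤)) hz
  obtain ⟨φ, hiq, hφ⟩ := exists_iso_toSpec k n s hs0
  let i : CohB1.ProjSpace n k ⟶ P := φ.hom ≫ (PicF2.zeroScheme _ s).subschemeι
  have hker : i.ker = PicF2.zeroScheme _ s :=
    (Scheme.Hom.ker_comp_of_isIso φ.hom _).trans (Scheme.IdealSheafData.ker_subschemeι _)
  -- the restriction is a subsheaf of a free sheaf
  let FH := (Scheme.Modules.pullback i).obj F
  have hFH : Coh.IsCoh FH := ZClosLib.isCoh_pullback i hF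
  haveI := mono_pullback_map i hO1 s hker ι hF.1 hfree.1 hQ.1 (fun x hx => hs x (Or.inr hx))
  haveI : (Scheme.Modules.pullback i).IsLeftAdjoint := (Scheme.Modules.pullbackPushforwardAdjunction i).isLeftAdjoint
  haveI : PreservesColimitsOfSize.{0, 0} (Scheme.Modules.pullback i) := inferInstance
  let eF : (Scheme.Modules.pullback i).obj (FlatMod.freeMod P p) ≅ FlatMod.freeMod (CohB1.ProjSpace n k) p :=
    PreservesCoproduct.iso (Scheme.Modules.pullback i) _ ≪≫ Sigma.mapIso fun _ => SeesawX.unitIso i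
  have hsub : ∃ j : FH ⟶ FlatMod.freeMod (CohB1.ProjSpace n k) p, Mono j :=
    ⟨(Scheme.Modules.pullback i).map ι ≫ eF.hom, mono_comp _ _⟩
  -- the sequence
  obtain ⟨g, w, hses⟩ := exists_ses_restrict i hker F
  let G := (Scheme.Modules.pushforward i).obj FH
  have hG : Coh.IsCoh G := QCoh.isCoh_pushforward_finite i hFH
  obtain ⟨eI⟩ : Nonempty ((twF (k := k) (n := n + 1) (-1)).obj F ≅
      (DCoh.tensorBi.obj F).obj (ClSub.idealMod (PicF2.zeroScheme _ s))) := by
    refine cl_eq_iff.1 ?_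
    show PicF.cl (CohB1.tensorMod F (Twist.twistProjSpace (n + 1) k (-1))) = PicF.cl (CohB1.tensorMod F _)
    rw [cl_tensor, cl_tensor]
    congr 1
    have h := (SeesawX.PnFibre.twistHom (n + 1) k).map_mul (Multiplicative.ofAdd (-1)) (Multiplicative.ofAdd 1)
    have h1 : PicF.cl (Twist.twistProjSpace (n + 1) k (-1)) * PicF.cl (Twist.twistProjSpace (n + 1) k 1) = 1 :=
      h.symm.trans ((congrArg (SeesawX.PnFibre.twistHom (n + 1) k) (by decide)).trans (map_one _))
    calc PicF.cl (Twist.twistProjSpace (n + 1) k (-1))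
        = PicF.cl (Twist.twistProjSpace (n + 1) k (-1)) * (PicF.cl (Twist.twistProjSpace (n + 1) k 1) *
            PicF.cl (ClSub.idealMod (PicF2.zeroScheme _ s))) := by rw [hcl, mul_one]
      _ = _ := by rw [← mul_assoc, h1, one_mul]
  have hses' := Syzygy.shortExact_replace hses eI
  -- Euler characteristics
  have hcoeff : HasCoeffs n FH (shift n a) := fun r => by
    have hex := RegDescent.twSeq_exact (ProjRegular.coords k (n + 1)) ProjRegular.coords_mem ProjRegular.coords_cover hses' r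
    have hc1 : Coh.IsCoh ((twF (k := k) (n := n + 1) (-1)).obj F) := ProjRegular.isCoh_twistBy hF (-1)
    have hadd := euler_ses (n := n + 1) hex (ProjRegular.isCoh_twistBy hc1 r) (ProjRegular.isCoh_twistBy hF r)
      (ProjRegular.isCoh_twistBy hG r)
    obtain ⟨e1⟩ := twF_twF_iso (k := k) (n := n + 1) F (-1) r (r - 1) (by ring)
    obtain ⟨e3⟩ := nonempty_push_twist i hφ FH r
    rw [← euler_push i hiq (ProjRegular.isCoh_twistBy hFH r), euler_iso e3, ← sum_shift]
    have e2 : FGA.eulerCharLE k P ((twF (k := k) (n := n + 1) r).obj F) (n + 1) =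
        ∑ j : Fin (n + 2), a j * Ring.choose r (j : ℕ) := ha r
    have e2' : FGA.eulerCharLE k P ((twF (k := k) (n := n + 1) (r - 1)).obj F) (n + 1) =
        ∑ j : Fin (n + 2), a j * Ring.choose (r - 1) (j : ℕ) := ha (r - 1)
    rw [← e2, ← e2', ← euler_iso e1]
    exact eq_sub_of_add_eq' hadd.symm
  have hreg := IH FH hFH hsub _ hcoeff
  set m₁ := m (shift n a)
  have hGreg : Curv2.IsMRegular k (n + 1) G m₁ := fun q hq hqn => by
    obtain ⟨e3⟩ := nonempty_push_twist i hφ FH (m₁ - q)
    obtain ⟨e4⟩ := QCoh.HH_push_of_isAffineHom i (ProjRegular.isCoh_twistBy hFH (m₁ - q)).1 q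
    refine QCoh.subsingleton_HH_of_iso e3 q ?_
    have h0 : Subsingleton (Coh.HH (CohB1.ProjSpace n k) (CohB1.tensorMod FH (Twist.twistProjSpace n k (m₁ - q))) q) := by
      rcases le_or_gt q n with h | h
      · exact hreg q hq h
      · exact ProjRegular.subsingleton_HH_high (k := k) (n := n) hFH _ q h
    exact e4.toEquiv.subsingleton_congr.1 h0
  let T : RegDescent.Setup (k := k) (n := n + 1) F G m₁ :=
    { ι := eI.hom ≫ DivisorExt.mulIdeal _ F, π := g, w := _, exact := hses', cohF := hF, cohG := hG, reg := hGreg,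
      finH1 := fun j => PnCoh.Finite.projSpace_finite_HH (n + 1) k _ (ProjRegular.isCoh_twistBy hF j) 1 }
  -- the bound
  have hh : (RegDescent.h1 (k := k) F (m₁ - 1) : ℤ) ≤ bump p n a (m₁ - 1) := by
    have hsum := ha (m₁ - 1)
    have hz : ∀ q, 2 ≤ q → Module.finrank k
        (Coh.HH P (CohB1.tensorMod F (Twist.twistProjSpace (n + 1) k (m₁ - 1))) q) = 0 := fun q hq => by
      haveI : Subsingleton (Coh.HH P (CohB1.tensorMod F (Twist.twistProjSpace (n + 1) k (m₁ - 1))) q) :=
        RegDescent.subsingleton_high T q hq (m₁ - 1) (by omega)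
      exact Module.finrank_zero_of_subsingleton
    have he : FGA.eulerCharLE k P (CohB1.tensorMod F (Twist.twistProjSpace (n + 1) k (m₁ - 1))) (n + 1) =
        (Module.finrank k (Coh.HH P (CohB1.tensorMod F (Twist.twistProjSpace (n + 1) k (m₁ - 1))) 0) : ℤ) -
          (RegDescent.h1 (k := k) F (m₁ - 1) : ℤ) := by
      show (Finset.range (n + 1 + 1)).sum _ = _
      rw [← Finset.sum_subset (Finset.range_subset_range.2 (show 2 ≤ n + 1 + 1 by omega))
        (fun q _ hq => by rw [hz q (by simp at hq; omega), Nat.cast_zero, mul_zero]),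
        Finset.sum_range_succ, Finset.sum_range_one]
      simp only [pow_zero, pow_one, one_mul, neg_one_mul]
      rw [sub_eq_add_neg]
      rfl
    rw [he] at hsum
    have h0 := h0_sub_le n p F ι (m₁ - 1)
    have hj : -(∑ j : Fin (n + 2), a j * Ring.choose (m₁ - 1) (j : ℕ)) ≤
        ∑ j : Fin (n + 2), a j ^ 2 * ((m₁ - 1) ^ 2 + ((j : ℕ) : ℤ) + 2) ^ (j : ℕ) := by
      rw [← Finset.sum_neg_distrib]
      exact Finset.sum_le_sum fun j _ => neg_mul_choose_le _ _ _
    unfold bump
    linarith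
  intro q hq hqn
  rcases Nat.lt_or_ge q 2 with h | h
  · obtain rfl : q = 1 := by omega
    exact RegDescent.subsingleton_one T _ (by push_cast; linarith)
  · exact RegDescent.subsingleton_high T q h _ (by have := (Int.natCast_nonneg (RegDescent.h1 (k := k) F (m₁ - 1))); linarith)

end Groth.Agent.Pic13Lib.Mumford
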