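import Groth.Agent.Pic13Lib.IntNum
import Groth.Agent.Lib.TopIntPos
import Groth.Agent.Lib.CurveAmple
import Groth.Agent.AmpleX.QuasiAffine
import Groth.Agent.AmpleVan.Components
import Groth.Agent.Nakai.Growth
import Groth.Agent.Nakai.Section

/-!
# Positivity of intersection numbers of ample modules
-/

set_option autoImplicit false
set_option linter.style.haveILetI false
set_option linter.unusedSectionVars false
set_option backward.isDefEq.respectTransparency false
set_option backward.isDefEq.respectTransparency.types false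
set_option maxHeartbeats 1000000

universe u

open CategoryTheory CategoryTheory.Limits AlgebraicGeometry TopologicalSpace
open Groth.Agent.H23 Groth.Agent.H23.PicMul Groth.Agent.H23.TrivBasic
open Groth.Agent.H23.IntNumCycle (alt)

noncomputable section

namespace Groth.Agent.Pic13Lib

attribute [local instance] PicMul.clMonoid

variable {k : Type u} [Field k]

/-- Sections restrict, together with the loci where they generate. -/
theorem exists_section_pullback {X Y : Scheme.{u}} (i : Y ⟶ X) {L : X.Modules} (hL : PicF.IsInvertible L)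
    (t : Γ(L, ⊤)) :
    ∃ t' : Γ((Scheme.Modules.pullback i).obj L, ⊤), ∀ z : Y, z ∈ locus t' ↔ i z ∈ locus t := by
  obtain ⟨e₀⟩ := PicClLib.nonempty_pullback_structureModule i
  refine ⟨InvX.one (e₀.inv ≫ (Scheme.Modules.pullback i).map (InvX.ofSect t)), fun z => ?_⟩
  show z ∈ CohB1.genLocus _ (InvX.ofSect (InvX.one _)) ↔ _
  rw [AVAmple.ofSect_one, show e₀.inv = e₀.symm.hom from rfl, InvX.genLocus_pullback i hL (InvX.ofSect t) e₀.symm]
  rfl

/-- Intersection numbers and direct images. -/
theorem alt_push {X Y : Scheme.{u}} [X.Over (Spec (CommRingCat.of k))] [IsProper (X ↘ Spec (CommRingCat.of k))]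
    [Y.Over (Spec (CommRingCat.of k))] [IsProper (Y ↘ Spec (CommRingCat.of k))] (g : Y ⟶ X)
    (hg : g ≫ (X ↘ Spec (CommRingCat.of k)) = Y ↘ Spec (CommRingCat.of k))
    {r : ℕ} {M : Fin r → X.Modules} (hM : ∀ i, PicF.IsInvertible (M i)) {F : Y.Modules}
    (hF : Cyc.CohLe (SnapLead.δ k) r F) :
    alt k r (fun i => (Scheme.Modules.pullback g).obj (M i)) F = alt k r M ((Coh.push g).obj F) := by
  haveI := CurveCohLib.isNoetherian_of_proper (k := k) (X := X)
  haveI := CurveCohLib.isNoetherian_of_proper (k := k) (X := Y)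
  haveI := IntPush.isProper k g hg
  have hc := IntPush.deltaCompat k g hg
  obtain ⟨a, ha⟩ := IntNumCycle.main.exists_cycle (SnapLead.isDimFun k) hF
  have hmap := SheafPush.map_sheafFun (SnapLead.isDimFun k) (SnapLead.isDimFun k) g hc (r : ℤ) F hF.1 hF.2 a ha
  have hGle := numEq_pullback.cohLe_push g hg hF
  have hfin := IntAlt.finite_sheafFun k hGle
  have hs : ∀ ξ ∈ hfin.toFinset, SnapLead.δ k ξ = (r : ℤ) := fun ξ hξ => by
    have h := hfin.mem_toFinset.1 hξ
    by_contra hne
    exact h (by simp only [Cyc.sheafFun, if_neg hne])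
  rw [IntPush.alt_pullback k g hg hM hF a ha hfin.toFinset hs (fun ξ h => hfin.mem_toFinset.2 (by rwa [← hmap])),
    IntAlt.alt_eq_sum_closure k hM hGle hfin.toFinset hs (fun ξ h => hfin.mem_toFinset.2 h), hmap]

variable {X : Scheme.{u}} [X.Over (Spec (CommRingCat.of k))] [IsProper (X ↘ Spec (CommRingCat.of k))]

/-- The first entry is multiplicative under tensor powers. -/
theorem alt_cons_pow {r : ℕ} {M : Fin r → X.Modules} (hM : ∀ i, PicF.IsInvertible (M i)) {A : X.Modules}
    (hA : PicF.IsInvertible A) {F : X.Modules} (hF : Cyc.CohLe (SnapLead.δ k) ((r + 1 : ℕ) : ℤ) F) :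
    ∀ n : ℕ, alt k (r + 1) (Fin.cons (CohB1.tensorPow A n) M) F = n * alt k (r + 1) (Fin.cons A M) F
  | 0 => by
    show alt k (r + 1) (Fin.cons (Coh.structureModule X) M) F = _
    rw [IntAlt.alt_succ]
    simp only [Fin.cons_zero, Fin.cons_succ]
    rw [IntAlt.alt_eq_sum k M F, IntAlt.alt_eq_sum k M (CohB1.tensorMod F _), cl_tensor, ← PicMul.one_def, mul_one]
    simp
  | n + 1 => by
    show alt k (r + 1) (Fin.cons (CohB1.tensorMod (CohB1.tensorPow A n) A) M) F = _
    rw [TopInt.alt_cons_mul k hM (PicMul.isInvertible_tensorPow hA n) hA hF, alt_cons_pow hM hA hF n]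
    push_cast
    ring

variable (k) in
include k in
theorem isAmple_structure_of_dim_zero [IsIntegral X] (hX : topologicalKrullDim X = (0 : ℕ)) :
    CohB1.IsAmple (Coh.structureModule X) := by
  have hgen : ∀ x : X, x = genericPoint X := fun x => TopInt.eq_generic_of_delta k hX (le_antisymm
    (by
      have h1 := TopInt.delta_generic k hX
      by_cases hx : x = genericPoint X
      · rw [hx, h1]
      · have h2 := (SnapLead.isDimFun k (genericPoint X) x (genericPoint_specializes x) (Ne.symm hx)).1
        omega)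
    (by simp [SnapLead.δ]))
  obtain ⟨U, hU, hxU, -⟩ := exists_isAffineOpen_mem_and_subset (x := genericPoint X) (U := ⊤) trivial
  have hU' : U = ⊤ := top_le_iff.1 fun x _ => by rw [hgen x]; exact hxU
  subst hU'
  haveI : IsAffine (⊤ : X.Opens).toScheme := hU
  haveI : IsAffine X := IsAffine.of_isIso X.topIso.inv
  exact AmpleX.isAmple_of_isQuasiAffine InvX.isInvertible_structureModule

/-- Positivity against the closure of a point, given positivity on integral schemes of that dimension. -/
theorem alt_closure_pos_of {r : ℕ}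
    (H : ∀ (Y : Scheme.{u}) [Y.Over (Spec (CommRingCat.of k))] [IsProper (Y ↘ Spec (CommRingCat.of k))]
      [IsIntegral Y], topologicalKrullDim Y = (r : ℕ) → ∀ L : Fin r → Y.Modules, (∀ i, CohB1.IsAmple (L i)) →
      0 < (-1 : ℤ) ^ r * alt k r L (Coh.structureModule Y))
    {ξ : X} (hξ : SnapLead.δ k ξ = (r : ℤ)) {L : Fin r → X.Modules} (hL : ∀ i, CohB1.IsAmple (L i)) :
    0 < (-1 : ℤ) ^ r * alt k r L (Cyc.closureStructureSheaf ξ) := by
  haveI : IsIntegral (IntMult.ptIdeal ξ).subscheme := QCoh.isIntegral_closure_point ξ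
  let ι := (IntMult.ptIdeal ξ).subschemeι
  letI : (IntMult.ptIdeal ξ).subscheme.Over (Spec (CommRingCat.of k)) := ⟨ι ≫ (X ↘ Spec (CommRingCat.of k))⟩
  haveI : IsProper ((IntMult.ptIdeal ξ).subscheme ↘ Spec (CommRingCat.of k)) :=
    show IsProper (ι ≫ (X ↘ Spec (CommRingCat.of k))) from inferInstance
  haveI := CurveCohLib.isNoetherian_of_proper (k := k) (X := (IntMult.ptIdeal ξ).subscheme)
  have hdim : topologicalKrullDim (IntMult.ptIdeal ξ).subscheme = (r : ℕ) := by
    refine (IsHomeomorph.topologicalKrullDim_eq _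
      (ι.isClosedEmbedding.isEmbedding.toHomeomorph.isHomeomorph)).trans ?_
    rw [Scheme.IdealSheafData.range_subschemeι, IntMult.ptIdeal, Scheme.IdealSheafData.coe_support_vanishingIdeal]
    exact (IntAlt.delta_eq_iff k ξ r).2 hξ
  have h := H _ hdim (fun i => (Scheme.Modules.pullback ι).obj (L i))
    fun i => AmpleVan.FiniteSurj.isAmple_pullback_of_isAffineHom ι (hL i)
  rw [alt_push ι rfl (fun i => (hL i).1) (TopInt.cohLe_structure k hdim.le)] at h
  exact h

/-- Intersection numbers of ample modules are positive. -/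
theorem alt_structure_pos : ∀ (r : ℕ) (Y : Scheme.{u}) [Y.Over (Spec (CommRingCat.of k))]
    [IsProper (Y ↘ Spec (CommRingCat.of k))] [IsIntegral Y], topologicalKrullDim Y = (r : ℕ) →
    ∀ L : Fin r → Y.Modules, (∀ i, CohB1.IsAmple (L i)) → 0 < (-1 : ℤ) ^ r * alt k r L (Coh.structureModule Y) := by
  classical
  intro r
  induction r with
  | zero =>
    intro Y _ _ _ hY L _
    have hO := isAmple_structure_of_dim_zero k hY
    have h := TopInt.alt_closure_pos k (TopInt.delta_generic k hY) (r := 0) hO
    rw [← TopInt.alt_structure k hY fun _ => hO.1] at h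
    rwa [show L = fun _ => Coh.structureModule Y from funext fun i => i.elim0]
  | succ r IH =>
    intro Y _ _ _ hY L hL
    haveI := CurveCohLib.isNoetherian_of_proper (k := k) (X := Y)
    obtain ⟨c, hgc, hc⟩ := VarDim.exists_closed_specialization (Y ↘ Spec (CommRingCat.of k)) (genericPoint Y)
    have hne : genericPoint Y ≠ c := fun h => by
      have h0 := DiagReg.deg_eq_zero (Y ↘ Spec (CommRingCat.of k)) (h ▸ hc)
      have h1 := (VarDim.topologicalKrullDim_eq_deg_genericPoint (Y ↘ Spec (CommRingCat.of k))).symm.trans hY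
      rw [h0] at h1
      have h2 : (0 : ℕ) = r + 1 := by exact_mod_cast h1
      omega
    obtain ⟨m, hm, t, ht, htc⟩ := CurveAmple.exists_section_vanishing k (hL 0) hc hne
    have hLc : PicF.IsInvertible (CohB1.tensorPow (L 0) m) := PicMul.isInvertible_tensorPow (hL 0).1 m
    let M : Fin r → Y.Modules := fun i => L i.succ
    have hM : ∀ i, PicF.IsInvertible (M i) := fun i => (hL _).1
    let f := InvX.ofSect t
    haveI := CurveAmple.mono_ofSect hLc ht
    let S := ShortComplex.mk f (cokernel.π f) (cokernel.condition f)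
    have hS : S.ShortExact :=
      .mk' (ShortComplex.exact_of_g_is_cokernel _ (cokernelIsCokernel f)) inferInstance inferInstance
    have hOc : Coh.IsCoh (Coh.structureModule Y) := QCoh.isCoh_structureModule'
    have hLcc := AmpleVan.isCoh_invertible hLc
    have hQc : Coh.IsCoh (cokernel f) := QCoh.isCoh_cokernel hOc.1 hLcc f
    have hgen : genericPoint Y ∈ locus t := by
      obtain ⟨z, hz⟩ := (Opens.ne_bot_iff_nonempty _).1 (locus_ne_bot hLc ht)
      exact (genericPoint_specializes z).mem_open (locus t).isOpen hz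
    have hQ : Cyc.CohLe (SnapLead.δ k) r (cokernel f) := by
      refine ⟨hQc, fun x hx => ?_⟩
      have hxl : x ∉ locus t := CurveAmple.support_cokernel_subset t (not_subsingleton_iff_nontrivial.2 hx)
      have h := (SnapLead.isDimFun k (genericPoint Y) x (genericPoint_specializes x) (fun e => hxl (e ▸ hgen))).1
      rw [TopInt.delta_generic k hY] at h
      push_cast at h
      omega
    obtain ⟨η, hη, hηd⟩ := Nakai.exists_divisor_component (Y ↘ Spec (CommRingCat.of k)) hLc ht ⟨c, htc⟩
    have hηr : SnapLead.δ k η = (r : ℤ) := by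
      refine (IntAlt.delta_eq_iff k η r).1 ?_
      have h1 := VarDim.topologicalKrullDim_eq_deg_genericPoint (Y ↘ Spec (CommRingCat.of k))
      rw [hY] at h1
      have h2 : VarDim.deg (Y ↘ Spec (CommRingCat.of k)) (genericPoint Y) = r + 1 := by exact_mod_cast h1.symm
      rw [VarDim.topologicalKrullDim_closure_singleton (Y ↘ Spec (CommRingCat.of k)),
        show VarDim.deg (Y ↘ Spec (CommRingCat.of k)) η = r by omega]
      rfl
    have hne' : Cyc.sheafFun (SnapLead.δ k) r (cokernel f) η ≠ 0 :=
      (PeriodicRat.nontrivial_iff_sheafFun (SnapLead.isDimFun k) hQ).2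
        ⟨hηr, not_subsingleton_iff_nontrivial.1 (TopInt.mem_support_cokernel hLc t hη)⟩
    have hfin := IntAlt.finite_sheafFun k hQ
    have hpos : 0 < (-1 : ℤ) ^ r * alt k r M (cokernel f) := by
      have hs : ∀ ξ ∈ hfin.toFinset, SnapLead.δ k ξ = (r : ℤ) := fun ξ hξ =>
        (CycleClassK.nontrivial_of_sheafFun (hfin.mem_toFinset.1 hξ)).1
      rw [IntAlt.alt_eq_sum_closure k hM hQ hfin.toFinset hs fun ξ h => hfin.mem_toFinset.2 h, Finset.mul_sum]
      refine Finset.sum_pos (fun ξ hξ => ?_) ⟨η, hfin.mem_toFinset.2 hne'⟩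
      rw [← mul_left_comm]
      exact mul_pos ((CycleClassK.sheafFun_nonneg _ _ _ _).lt_of_ne (hfin.mem_toFinset.1 hξ).symm)
        (alt_closure_pos_of IH (hs ξ hξ) fun i => hL _)
    have hadd := IntNumCycle.alt_add k r M hM hS hOc hLcc hQc
    have hOL : alt k r M (CohB1.tensorMod (Coh.structureModule Y) (CohB1.tensorPow (L 0) m)) = alt k r M (CohB1.tensorPow (L 0) m) := by
      rw [IntAlt.alt_eq_sum, IntAlt.alt_eq_sum, cl_tensor, ← PicMul.one_def, one_mul]
    have hkey : 0 < (-1 : ℤ) ^ (r + 1) * alt k (r + 1) (Fin.cons (CohB1.tensorPow (L 0) m) M) (Coh.structureModule Y) := by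
      rw [IntAlt.alt_succ]
      simp only [Fin.cons_zero, Fin.cons_succ]
      rw [hOL, hadd, pow_succ]
      linarith
    rw [alt_cons_pow hM (hL 0).1 (TopInt.cohLe_structure k hY.le) m, show (Fin.cons (L 0) M : Fin (r + 1) → Y.Modules) = L from
      Fin.cons_self_tail L, mul_left_comm] at hkey
    exact pos_of_mul_pos_right hkey (by positivity)

/-- Positivity on the closure of a point. -/
theorem alt_closure_pos_mixed {r : ℕ} {ξ : X} (hξ : SnapLead.δ k ξ = (r : ℤ)) {L : Fin r → X.Modules}
    (hL : ∀ i, CohB1.IsAmple (L i)) : 0 < (-1 : ℤ) ^ r * alt k r L (Cyc.closureStructureSheaf ξ) :=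
  alt_closure_pos_of (alt_structure_pos r) hξ hL

/-- Replacing a factor by an inverse changes the sign. -/
theorem alt_inverse : ∀ {r : ℕ} {L M : Fin r → X.Modules}, (∀ i, PicF.IsInvertible (L i)) →
    (∀ i, PicF.IsInvertible (M i)) → (∀ i, Nonempty (CohB1.tensorMod (L i) (M i) ≅ Coh.structureModule X)) →
    ∀ {F : X.Modules}, Cyc.CohLe (SnapLead.δ k) r F → alt k r M F = (-1 : ℤ) ^ r * alt k r L F := by
  classical
  intro r L M hL hM hLM F hF
  suffices h : ∀ S : Finset (Fin r), alt k r (fun i => if i ∈ S then M i else L i) F = (-1 : ℤ) ^ S.card * alt k r L F by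
    simpa using h Finset.univ
  intro S
  induction S using Finset.induction with
  | empty => simp
  | @insert a S ha ih =>
    cases r with
    | zero => exact a.elim0
    | succ r =>
      let σ : Equiv.Perm (Fin (r + 1)) := Equiv.swap 0 a
      let T : Fin (r + 1) → X.Modules := fun i => if i ∈ S then M i else L i
      let T' : Fin (r + 1) → X.Modules := fun i => if i ∈ insert a S then M i else L i
      have hT : ∀ i, PicF.IsInvertible (T i) := fun i => by dsimp [T]; split_ifs <;> [exact hM i; exact hL i]
      let R : Fin r → X.Modules := fun i => T (σ i.succ)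
      have e1 : (fun i => T (σ i)) = Fin.cons (L a) R := by
        funext i
        induction i using Fin.cases with
        | zero => simp [σ, T, ha]
        | succ j => rfl
      have e2 : (fun i => T' (σ i)) = Fin.cons (M a) R := by
        funext i
        induction i using Fin.cases with
        | zero => simp [σ, T']
        | succ j =>
          have hne : σ j.succ ≠ a := fun h => Fin.succ_ne_zero j (σ.injective (h.trans (by simp [σ])))
          simp [T', T, R, hne]
      have hz : alt k (r + 1) (Fin.cons (CohB1.tensorMod (L a) (M a)) R) F = 0 := by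
        rw [IntAlt.alt_succ]
        simp only [Fin.cons_zero, Fin.cons_succ]
        rw [IntAlt.alt_eq_sum k R F, IntAlt.alt_eq_sum k R (CohB1.tensorMod F _), cl_tensor F,
          cl_eq_iff.2 (hLM a), ← PicMul.one_def, mul_one, sub_self]
      rw [TopInt.alt_cons_mul k (fun i => hT _) (hL a) (hM a) hF, ← e1, ← e2, IntAlt.alt_perm, IntAlt.alt_perm] at hz
      show alt k (r + 1) T' F = _
      rw [eq_neg_of_add_eq_zero_right hz, Finset.card_insert_of_notMem ha, pow_succ]
      show -alt k (r + 1) (fun i => if i ∈ S then M i else L i) F = _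
      rw [ih]
      ring

end Groth.Agent.Pic13Lib
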