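import Groth.Agent.Pic13Lib.FibreFinite
import Groth.Agent.S12050
import Groth.Agent.SeesawX.Crit
import Groth.Agent.SeesawX.Glue
import Groth.Agent.TwConstEtLib.Piece
import Groth.Agent.QCoh.LocFree

/-!
# Bounded families of invertible modules lie in finitely many connected families of invertible modules
-/

set_option autoImplicit false
set_option linter.style.haveILetI false
set_option linter.unusedSectionVars false
set_option backward.isDefEq.respectTransparency false
set_option backward.isDefEq.respectTransparency.types false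
set_option maxHeartbeats 1000000

universe u

open CategoryTheory CategoryTheory.Limits AlgebraicGeometry TopologicalSpace Opposite

noncomputable section

namespace Groth.Agent.Pic13Lib

open Groth.Agent

/-- Near a fibre on which it is invertible, a flat coherent module is invertible. -/
theorem exists_rank_one_nhd {P Z : Scheme.{u}} [IsNoetherian P] [IsNoetherian Z] (f : P ⟶ Z) [IsProper f]
    [LocallyOfFinitePresentation f] {F : P.Modules} (hF : Coh.IsCoh F) (hfl : FlatMod.IsFlatOver f F) (x : P)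
    (h : PicF.IsInvertible ((Scheme.Modules.pullback (f.fiberι (f x))).obj F)) :
    ∃ U : P.Opens, x ∈ U ∧ Nonempty (F.restrict U.ι ≅ Coh.structureModule U) := by
  let w := f.asFiber x
  have hlf := H23.PullPush.isFinLocFree_of_isInvertible h
  haveI := QCoh.free_stalk_of_isFinLocFree hlf w
  haveI := (S12050.free_fibre_iff f F (f x) w x (f.fiberι_asFiber x)).1 this
  obtain ⟨U, m, hxU, ⟨e⟩⟩ := S1393.result f F hF.1 (KZ.LFRes.isFP_of_isCoh hF) x (hfl x)
    (inferInstanceAs (Module.Flat (P.presheaf.stalk x ⧸ Codepth5.fibIdeal f x)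
      (F.presheaf.stalk x ⧸ (Codepth5.fibIdeal f x • ⊤ : Submodule (P.presheaf.stalk x) (F.presheaf.stalk x)))))
  have h1 : Module.finrank ((f.fiber (f x)).presheaf.stalk w)
      (((Scheme.Modules.pullback (f.fiberι (f x))).obj F).presheaf.stalk w) = 1 :=
    SeesawX.finrank_stalk_eq_of_rank (SeesawX.isFinLocFreeOfRank_one h) w
  obtain ⟨_, ⟨V, hV, rfl⟩, hxV, hVU⟩ := P.isBasis_affineOpens.exists_subset_of_mem_open
    (show f.fiberι (f x) w ∈ U by rw [f.fiberι_asFiber x]; exact hxU) U.2
  obtain ⟨l⟩ := QCoh.free_sections hV hVU e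
  have h2 := QCoh.finrank_stalk_of_freeChart hV hF.1 l hxV
  haveI : Module.Free Γ(P, V) Γ(F, V) := Module.Free.of_equiv l.symm
  haveI : Module.Free (P.presheaf.stalk (f.fiberι (f x) w)) (F.presheaf.stalk (f.fiberι (f x) w)) := by
    letI := QCoh.stalkAlg (X := P) hxV
    letI := QCoh.stalkModule F hxV
    haveI := QCoh.isScalarTower_stalk F hxV
    haveI := QCoh.isLocalization_stalk' hV hxV
    haveI := QCoh.isLocalizedModule_germLin hF.1 hV hxV
    exact Module.free_of_isLocalizedModule (hV.primeIdealOf ⟨_, hxV⟩).asIdeal.primeCompl (QCoh.germLin F hxV)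
  letI : Algebra (P.presheaf.stalk (f.fiberι (f x) w)) ((f.fiber (f x)).presheaf.stalk w) :=
    ((f.fiberι (f x)).stalkMap w).hom.toAlgebra
  let e₀ : ((Scheme.Modules.pullback (f.fiberι (f x))).obj F).presheaf.stalk w ≃ₗ[(f.fiber (f x)).presheaf.stalk w]
      TensorProduct (P.presheaf.stalk (f.fiberι (f x) w)) ((f.fiber (f x)).presheaf.stalk w)
        (F.presheaf.stalk (f.fiberι (f x) w)) :=
    ((KFlatLib.stalkPullbackIso (f.fiberι (f x)) w).app F).toLinearEquiv
  rw [e₀.finrank_eq, Module.finrank_baseChange, h2] at h1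
  subst h1
  exact ⟨U, hxU, ⟨e ≪≫ H23.DblAlg.freeOneIso _⟩⟩

variable {k : Type u} [Field k] {X : Scheme.{u}} [X.Over (Spec (CommRingCat.of k))]
  [IsProper (X ↘ Spec (CommRingCat.of k))]

/-- The fibre over a rational point is the slice. -/
theorem isInvertible_fibre {T : Scheme.{u}} (q : T ⟶ Spec (CommRingCat.of k)) (t : Spec (CommRingCat.of k) ⟶ T)
    (ht : t ≫ q = 𝟙 _) {G : (Pic13.prodK k X q).Modules} (h : PicF.IsInvertible (Pic13.fibreMod k X q t ht G)) :
    PicF.IsInvertible ((Scheme.Modules.pullback ((pullback.snd (X ↘ Spec (CommRingCat.of k)) q).fiberι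
      (t (IsLocalRing.closedPoint k)))).obj G) := by
  let f := pullback.snd (X ↘ Spec (CommRingCat.of k)) q
  let s : T := t (IsLocalRing.closedPoint k)
  let g := f.fiberι s ≫ pullback.fst (X ↘ Spec (CommRingCat.of k)) q
  obtain ⟨ψ, hψ⟩ : ∃ ψ : CommRingCat.of (T.residueField s) ⟶ CommRingCat.of k,
      Spec.map ψ ≫ T.fromSpecResidueField s = t :=
    ⟨_, Scheme.descResidueField_stalkClosedPointTo_fromSpecResidueField k T t⟩
  obtain ⟨φ, hφ⟩ : ∃ φ : CommRingCat.of k ⟶ CommRingCat.of (T.residueField s),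
      Spec.map φ = T.fromSpecResidueField s ≫ q :=
    ⟨Spec.preimage _, Spec.map_preimage _⟩
  have hφψ : φ ≫ ψ = 𝟙 _ := Spec.map_injective (by rw [Spec.map_comp, hφ, reassoc_of% hψ, ht, Spec.map_id])
  have hψφ : ψ ≫ φ = 𝟙 _ := CommRingCat.hom_ext (RingHom.ext fun x => ψ.hom.injective (congr($hφψ (ψ x)) :))
  have hw : f.fiberι s ≫ f = f.fiberToSpecResidueField s ≫ T.fromSpecResidueField s :=
    (IsPullback.of_hasPullback f (T.fromSpecResidueField s)).w
  have hgs : g ≫ Pic13.sliceAt k X q t ht = f.fiberι s := by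
    refine pullback.hom_ext (by rw [Category.assoc, sliceAt_fst, Category.comp_id]) ?_
    rw [Category.assoc, sliceAt_snd, Category.assoc, reassoc_of% (pullback.condition (f := (X ↘ Spec (CommRingCat.of k)))
      (g := q)), reassoc_of% hw, ← reassoc_of% hφ, ← hψ, ← Spec.map_comp_assoc, hψφ, Spec.map_id, Category.id_comp]
    exact hw.symm
  exact H23.PicMul.isInvertible_of_iso
    ((Scheme.Modules.pullbackComp g _).app G ≪≫ (Scheme.Modules.pullbackCongr hgs).app G)
    (PicClLib.isInvertible_pullback g h)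

/-- A bounded family of invertible modules lies in finitely many connected families. -/
theorem exists_connected_families {P : X.Modules → Prop} (hP : Pic13.IsBounded k X P)
    (hinv : ∀ L, P L → PicF.IsInvertible L) :
    ∃ (κ : Type u) (_ : Finite κ) (T : κ → Scheme.{u}) (q : ∀ c, T c ⟶ Spec (CommRingCat.of k))
      (M : ∀ c, (Pic13.prodK k X (q c)).Modules),
      (∀ c, ConnectedSpace ↥(T c) ∧ LocallyOfFiniteType (q c) ∧ QuasiCompact (q c) ∧ PicF.IsInvertible (M c)) ∧
      ∀ L, P L → ∃ (c : κ) (t : Spec (CommRingCat.of k) ⟶ T c) (ht : t ≫ q c = 𝟙 _),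
        Nonempty (Pic13.fibreMod k X (q c) t ht (M c) ≅ L) := by
  obtain ⟨T₀, q₀, hft₀, hqc₀, F, hF, hmem⟩ := hP
  haveI := hft₀
  haveI := hqc₀
  obtain ⟨N, Z, r, G, hr, hcov⟩ := exists_flat_strata q₀ hF
  haveI : LocallyOfFinitePresentation (X ↘ Spec (CommRingCat.of k)) :=
    AlgStLib.locallyOfFinitePresentation_of_isLocallyNoetherian _ inferInstance
  haveI hZ : ∀ l, IsNoetherian (Z l) := fun l => by
    haveI := (hr l).1
    haveI := (hr l).2.1
    haveI : IsLocallyNoetherian (Z l) := LocallyOfFiniteType.isLocallyNoetherian (r l)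
    haveI : CompactSpace ↥(Z l) := QuasiCompact.compactSpace_of_compactSpace (r l)
    exact {}
  let f := fun l => pullback.snd (X ↘ Spec (CommRingCat.of k)) (r l)
  haveI hpf : ∀ l, IsProper (f l) := fun l => MorphismProperty.pullback_snd _ _ inferInstance
  haveI hfpf : ∀ l, LocallyOfFinitePresentation (f l) := fun l => MorphismProperty.pullback_snd _ _ inferInstance
  haveI hPZ : ∀ l, IsNoetherian (Pic13.prodK k X (r l)) := fun l => by
    haveI : IsLocallyNoetherian (Pic13.prodK k X (r l)) := LocallyOfFiniteType.isLocallyNoetherian (f l)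
    haveI : CompactSpace ↥(Pic13.prodK k X (r l)) := QuasiCompact.compactSpace_of_compactSpace (f l)
    exact {}
  -- the points over which the family is invertible
  let good : ∀ l, Set ↥(Pic13.prodK k X (r l)) := fun l =>
    {x | ∃ U : (Pic13.prodK k X (r l)).Opens, x ∈ U ∧ Nonempty ((G l).restrict U.ι ≅ Coh.structureModule U)}
  have hgood : ∀ l, IsOpen (good l) := fun l =>
    isOpen_iff_forall_mem_open.2 fun x ⟨U, hx, h⟩ => ⟨U, fun y hy => ⟨U, hy, h⟩, U.2, hx⟩
  let W : ∀ l, (Z l).Opens := fun l => ⟨(f l '' (good l)ᶜ)ᶜ, ((f l).isClosedMap _ (hgood l).isClosed_compl).isOpen_compl⟩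
  haveI hW : ∀ l, LocallyConnectedSpace ↥(W l).toScheme := fun l =>
    TwConstEtLib.locallyConnectedSpace (W l).toScheme
  haveI hWN : ∀ l, NoetherianSpace ↥(W l).toScheme := fun l => (W l).ι.isOpenEmbedding.isInducing.noetherianSpace
  let κ := Σ l : ULift.{u} (Fin N), _root_.ConnectedComponents ↥(W l.down).toScheme
  haveI : Finite κ := by
    haveI : ∀ l : ULift.{u} (Fin N), Finite (_root_.ConnectedComponents ↥(W l.down).toScheme) := fun l => by
      haveI : CompactSpace ↥(W l.down).toScheme := NoetherianSpace.compactSpace _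
      infer_instance
    infer_instance
  choose z hz using fun c : κ => _root_.ConnectedComponents.surjective_coe c.2
  let O : ∀ c : κ, (W c.1.down).toScheme.Opens := fun c => ⟨connectedComponent (z c), isOpen_connectedComponent⟩
  let j : ∀ c : κ, (O c).toScheme ⟶ Z c.1.down := fun c => (O c).ι ≫ (W c.1.down).ι
  let m : ∀ c : κ, Pic13.prodK k X (j c ≫ r c.1.down) ⟶ Pic13.prodK k X (r c.1.down) := fun c =>
    pullback.lift (pullback.fst _ _) (pullback.snd _ _ ≫ j c) (by rw [Category.assoc]; exact pullback.condition)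
  refine ⟨κ, inferInstance, fun c => (O c).toScheme, fun c => j c ≫ r c.1.down,
    fun c => (Scheme.Modules.pullback (m c)).obj (G c.1.down), fun c => ⟨?_, ?_, ?_, ?_⟩, fun L hL => ?_⟩
  · exact isConnected_iff_connectedSpace.1 (show _root_.IsConnected ((O c : Set ↥(W c.1.down).toScheme)) from
      isConnected_connectedComponent)
  · haveI := (hr c.1.down).1
    infer_instance
  · haveI : CompactSpace ↥(O c).toScheme := isCompact_iff_compactSpace.1 (NoetherianSpace.isCompact (O c : Set ↥(W c.1.down).toScheme))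
    exact (quasiCompact_iff_compactSpace (j c ≫ r c.1.down)).2 inferInstance
  · refine fun y => ?_
    have hy : m c y ∈ good c.1.down := by
      by_contra hne
      have h1 : f c.1.down (m c y) = j c (pullback.snd (X ↘ Spec (CommRingCat.of k)) (j c ≫ r c.1.down) y) := by
        rw [← Scheme.Hom.comp_apply, ← Scheme.Hom.comp_apply, pullback.lift_snd]
      exact (pullback.snd (X ↘ Spec (CommRingCat.of k)) (j c ≫ r c.1.down) y).1.2 ⟨_, hne, h1⟩
    obtain ⟨U, hyU, ⟨e⟩⟩ := hy
    obtain ⟨e'⟩ := PicClLib.nonempty_pullback_structureModule (m c ∣_ U)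
    exact ⟨m c ⁻¹ᵁ U, hyU, ⟨(Scheme.Modules.restrictFunctorIsoPullback (m c ⁻¹ᵁ U).ι).app _ ≪≫
      (Scheme.Modules.pullbackComp (m c ⁻¹ᵁ U).ι (m c)).app (G c.1.down) ≪≫
      (Scheme.Modules.pullbackCongr (morphismRestrict_ι (m c) U).symm).app (G c.1.down) ≪≫
      ((Scheme.Modules.pullbackComp (m c ∣_ U) U.ι).app (G c.1.down)).symm ≪≫
      (Scheme.Modules.pullback (m c ∣_ U)).mapIso
        (((Scheme.Modules.restrictFunctorIsoPullback U.ι).app (G c.1.down)).symm ≪≫ e) ≪≫ e'⟩⟩
  · obtain ⟨t, ht, ⟨e⟩⟩ := hmem L hL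
    obtain ⟨l, tz, htz, ⟨e'⟩⟩ := hcov t ht
    have hLi := H23.PicMul.isInvertible_of_iso (e' ≪≫ e).symm (hinv L hL)
    have hmemW : tz (IsLocalRing.closedPoint k) ∈ W l := by
      rintro ⟨x, hx, hxz⟩
      refine hx (exists_rank_one_nhd (f l) (hr l).2.2.1 (hr l).2.2.2 x ?_)
      rw [hxz]
      exact isInvertible_fibre (r l) tz htz hLi
    obtain ⟨tw', htw'⟩ := exists_lift_preimmersion (W l).ι tz ⟨_, hmemW⟩ rfl
    let c : κ := ⟨⟨l⟩, _root_.ConnectedComponents.mk (tw' (IsLocalRing.closedPoint k))⟩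
    have hmemO : tw' (IsLocalRing.closedPoint k) ∈ O c := _root_.ConnectedComponents.coe_eq_coe'.1 (hz c).symm
    obtain ⟨to', hto'⟩ := exists_lift_preimmersion (O c).ι tw' ⟨_, hmemO⟩ rfl
    have htj : to' ≫ j c = tz := by
      show to' ≫ (O c).ι ≫ (W l).ι = tz
      rw [reassoc_of% hto', htw']
    have htq : to' ≫ j c ≫ r l = 𝟙 _ := by rw [reassoc_of% htj, htz]
    have hm : Pic13.sliceAt k X (j c ≫ r l) to' htq ≫ m c = Pic13.sliceAt k X (r l) tz htz := by
      refine pullback.hom_ext ?_ ?_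
      · rw [Category.assoc, pullback.lift_fst, sliceAt_fst, sliceAt_fst]
      · rw [Category.assoc, pullback.lift_snd, ← Category.assoc, sliceAt_snd, sliceAt_snd, Category.assoc, htj]
    exact ⟨c, to', htq, ⟨(Scheme.Modules.pullbackComp (Pic13.sliceAt k X (j c ≫ r l) to' htq) (m c)).app (G l) ≪≫
      (Scheme.Modules.pullbackCongr hm).app (G l) ≪≫ e' ≪≫ e⟩⟩

end Groth.Agent.Pic13Lib
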