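import Groth.Agent.Pic13Lib.EulerInv
import Groth.Agent.Pic13Lib.BoundedInv
import Groth.Agent.Pic13Lib.BoundedRegular
import Groth.Agent.Pic13Lib.AlgEqEuler
import Groth.Agent.Lib.AmpleEmbed

/-!
# Numerically trivial modules on projective schemes form a bounded family
-/

set_option autoImplicit false
set_option linter.style.haveILetI false
set_option linter.unusedSectionVars false
set_option backward.isDefEq.respectTransparency false
set_option backward.isDefEq.respectTransparency.types false
set_option maxHeartbeats 1000000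

universe u

open CategoryTheory CategoryTheory.Limits AlgebraicGeometry TopologicalSpace Opposite
open Groth.Agent.H23 Groth.Agent.H23.PicMul

attribute [local instance] PicMul.clMonoid

noncomputable section

namespace Groth.Agent.Pic13Lib.NumTriv

variable {k : Type u} [Field k] [IsAlgClosed k] {X : Scheme.{u}} [X.Over (Spec (CommRingCat.of k))]
  [IsProper (X ↘ Spec (CommRingCat.of k))]

/-- Numerically trivial twists do not change Euler characteristics on a projective scheme. -/
theorem euler_tensor_proj {H : X.Modules} (hH : CohB1.IsAmple H) {L : X.Modules} (hL : IsNT k L) {F : X.Modules}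
    (hF : Coh.IsCoh F) : Curv2.euler k X (CohB1.tensorMod F L) = Curv2.euler k X F := by
  obtain ⟨n, i, hc, hi⟩ := AmpleEmbed.exists_closedImmersion (X ↘ Spec (CommRingCat.of k)) hH
  haveI := hc
  have h := (unif i hi hF).1 L hL
  rw [phi, ← cl_tensor, SurfPairing.χ_cl, SurfPairing.χ_cl, sub_eq_zero] at h
  exact h

/-- The numerically trivial modules on a projective scheme form a bounded family. -/
theorem isBounded_nt {H : X.Modules} (hH : CohB1.IsAmple H) : Pic13.IsBounded k X (IsNT k (X := X)) := by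
  haveI := CurveCohLib.isNoetherian_of_proper (k := k) (X := X)
  obtain ⟨n, i, hc, hi⟩ := AmpleEmbed.exists_closedImmersion (X ↘ Spec (CommRingCat.of k)) hH
  haveI := hc
  have hO : Coh.IsCoh (Coh.structureModule X) := QCoh.isCoh_structureModule'
  obtain ⟨-, m, hm⟩ := unif i hi hO
  have hd : Cyc.CohLe (SnapLead.δ k) n (Coh.structureModule X) :=
    SnapLead.cohLe_of_dim k hO ((topologicalKrullDim_subspace_le X _).trans (dim_le_of_closed i))
  obtain ⟨B, hB⟩ := exists_bd i hO n hd m
  refine isBounded_mono (fun L hL => ?_) (isBounded_regular_h0 k n X i hi m B)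
  refine ⟨AmpleVan.isCoh_invertible hL.1, hm L hL L (by rw [← PicMul.one_def, one_mul]), ?_⟩
  have h := hB L hL 0 (Pic13.twistOn k i L m) (by
    rw [cl_twistOn, ← PicMul.one_def, one_mul, Nat.cast_zero, add_zero])
  simpa using h

/-- If the numerically trivial modules are bounded, they are τ-equivalent to zero. -/
theorem isTauEquivZero_of_bounded {P : X.Modules → Prop} (hb : Pic13.IsBounded k X P)
    (hinv : ∀ L, P L → PicF.IsInvertible L) {L : X.Modules} (hL : PicF.IsInvertible L)
    (hpow : ∀ n : ℕ, P (CohB1.tensorPow L n)) : Pic13.IsTauEquivZero k X L := by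
  obtain ⟨κ, hκ, T, q, M, hT, hcov⟩ := exists_connected_families hb hinv
  choose c t ht he using fun n : ℕ => hcov _ (hpow n)
  obtain ⟨a, b, hne, hab⟩ := Finite.exists_ne_map_eq_of_infinite c
  wlog hlt : a < b generalizing a b with H
  · exact H b a hne.symm hab.symm (by omega)
  obtain ⟨d, hd, rfl⟩ : ∃ d, 0 < d ∧ b = a + d := ⟨b - a, by omega, by omega⟩
  obtain ⟨L', hL', ⟨eL⟩⟩ := PicInv.exists_inverse (PicMul.isInvertible_tensorPow hL a)
  have hinv' : PicF.cl L ^ a * PicF.cl L' = 1 := by
    rw [← cl_tensorPow, ← cl_tensor]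
    exact (cl_eq_iff.2 ⟨eL⟩).trans PicMul.one_def.symm
  obtain ⟨hconn, hlft, hqc, hM⟩ := hT (c a)
  let T₀ := T (c a)
  let p := pullback.fst (X ↘ Spec (CommRingCat.of k)) (q (c a))
  have key : ∀ (s : Spec (CommRingCat.of k) ⟶ T₀) (hs : s ≫ q (c a) = 𝟙 _) (N : X.Modules),
      Nonempty (Pic13.fibreMod k X (q (c a)) s hs (M (c a)) ≅ N) →
      PicF.cl (Pic13.fibreMod k X (q (c a)) s hs (CohB1.tensorMod (M (c a)) ((Scheme.Modules.pullback p).obj L'))) =
        PicF.cl N * PicF.cl L' := by
    intro s hs N hN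
    show PicF.pullCl (Pic13.sliceAt k X (q (c a)) s hs)
      (PicF.cl (CohB1.tensorMod (M (c a)) ((Scheme.Modules.pullback p).obj L'))) = _
    rw [cl_tensor, PicMul.pullCl_mul]
    congr 1
    · exact cl_eq_iff.2 hN
    · show PicF.cl ((Scheme.Modules.pullback (Pic13.sliceAt k X (q (c a)) s hs)).obj
        ((Scheme.Modules.pullback p).obj L')) = _
      exact cl_eq_iff.2 ⟨(Scheme.Modules.pullbackComp _ p).app L' ≪≫
        (Scheme.Modules.pullbackCongr (sliceAt_fst (q (c a)) s hs)).app L' ≪≫ (Scheme.Modules.pullbackId _).app L'⟩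
  have hmove : ∀ (c' : κ), c a = c' → ∀ (s : Spec (CommRingCat.of k) ⟶ T c') (hs : s ≫ q c' = 𝟙 _) (N : X.Modules),
      Nonempty (Pic13.fibreMod k X (q c') s hs (M c') ≅ N) →
      ∃ (s' : Spec (CommRingCat.of k) ⟶ T₀) (hs' : s' ≫ q (c a) = 𝟙 _),
        Nonempty (Pic13.fibreMod k X (q (c a)) s' hs' (M (c a)) ≅ N) := by
    rintro c' rfl s hs N h
    exact ⟨s, hs, h⟩
  obtain ⟨tb, htb, heb⟩ := hmove _ hab (t (a + d)) (ht (a + d)) _ (he (a + d))
  refine ⟨d, hd, T₀, q (c a), hconn, hlft, hqc, _,
    InvX.isInvertible_tensorMod hM (PicClLib.isInvertible_pullback p hL'), tb, t a, htb, ht a, ?_, ?_⟩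
  · refine cl_eq_iff.1 ((key tb htb _ heb).trans ?_)
    rw [cl_tensorPow, cl_tensorPow, pow_add, mul_assoc, mul_comm (PicF.cl L ^ d), ← mul_assoc, hinv', one_mul]
  · refine cl_eq_iff.1 ((key (t a) (ht a) _ (he a)).trans ?_)
    rw [cl_tensorPow, hinv', PicMul.one_def]

/-- Numerically trivial modules on a projective scheme are τ-equivalent to zero. -/
theorem isTauEquivZero_proj {H : X.Modules} (hH : CohB1.IsAmple H) {L : X.Modules} (hL : IsNT k L) :
    Pic13.IsTauEquivZero k X L :=
  isTauEquivZero_of_bounded (isBounded_nt hH) (fun _ h => h.1) hL.1 fun n => hL.pow k n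

/-- Degrees of powers. -/
theorem curveDeg_pow {Y : Scheme.{u}} (ι : Y ⟶ X) [IsClosedImmersion ι] [IsIntegral Y]
    (hdim : topologicalKrullDim Y = 1) {L : X.Modules} (hL : PicF.IsInvertible L) : ∀ n : ℕ,
    Pic13.curveDeg k (ι ≫ (X ↘ Spec (CommRingCat.of k))) ((Scheme.Modules.pullback ι).obj (CohB1.tensorPow L n)) =
      n * Pic13.curveDeg k (ι ≫ (X ↘ Spec (CommRingCat.of k))) ((Scheme.Modules.pullback ι).obj L)
  | 0 => by rw [Nat.cast_zero, zero_mul]; exact curveDeg_structure ι
  | n + 1 => by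
    show Pic13.curveDeg k _ ((Scheme.Modules.pullback ι).obj (CohB1.tensorMod (CohB1.tensorPow L n) L)) = _
    rw [curveDeg_tensor k ι hdim (PicMul.isInvertible_tensorPow hL n) hL, curveDeg_pow ι hdim hL n]
    push_cast
    ring

end Groth.Agent.Pic13Lib.NumTriv
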