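import Groth.Agent.AssPtX.Noeth
import Groth.Agent.Euler.Main
import Groth.Agent.FlatG.Gamma
import Groth.Agent.ProjUPX.TwistFrame
import Groth.Agent.ProjUPX.Unique
import Groth.Agent.PnCoh.TwistH0
import Groth.Agent.PnCoh.TwistQCoh
import Groth.Agent.Proj16.Points
import Groth.Agent.PnCoh.Finite.ProjSpace
import Groth.Agent.PnCoh.Chow.Proper
import Groth.Agent.Pic13Lib.HypAvoid
import Groth.Agent.SeesawX.PnFibre
import Groth.Agent.H23.PicMul
import Groth.Prelude.Def_Pic13

/-!
# Twisting down loses a section when no associated point is closed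
-/

set_option autoImplicit false
set_option linter.style.haveILetI false
set_option linter.unusedSectionVars false
set_option backward.isDefEq.respectTransparency false
set_option backward.isDefEq.respectTransparency.types false

universe u

open CategoryTheory CategoryTheory.Limits AlgebraicGeometry TopologicalSpace Opposite

noncomputable section

namespace Groth.Agent.Pic13Lib.NegTwistDrop

open Groth.Agent

attribute [local instance] MvPolynomial.gradedAlgebra FlatG.Pol.secR

variable (k : Type u) [Field k] (n : ℕ)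

/-- The linear form with given coefficients. -/
def lin : (Fin (n + 1) → k) →ₗ[k] MvPolynomial (Fin (n + 1)) k :=
  Fintype.linearCombination k fun i => (MvPolynomial.X i : MvPolynomial (Fin (n + 1)) k)

theorem lin_mem (c : Fin (n + 1) → k) : lin k n c ∈ CohB1.polyGrading n k 1 := by
  rw [lin, Fintype.linearCombination_apply]
  exact Submodule.sum_mem _ fun i _ => Submodule.smul_mem _ _ (MvPolynomial.isHomogeneous_X k i)

theorem lin_single (j : Fin (n + 1)) : lin k n (Pi.single j 1) = MvPolynomial.X j := by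
  rw [lin, Fintype.linearCombination_apply_single, one_smul]

/-- The linear forms vanishing at a point. -/
def W (x : ↥(Proj (CohB1.polyGrading n k))) : Submodule k (Fin (n + 1) → k) :=
  ((x.asHomogeneousIdeal.toIdeal).restrictScalars k).comap (lin k n)

theorem mem_W {x : ↥(Proj (CohB1.polyGrading n k))} {c : Fin (n + 1) → k} :
    c ∈ W k n x ↔ lin k n c ∈ x.asHomogeneousIdeal.toIdeal := Iff.rfl

theorem W_ne_top (x : ↥(Proj (CohB1.polyGrading n k))) : W k n x ≠ ⊤ := fun h => by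
  obtain ⟨⟨j⟩, hj⟩ := Opens.mem_iSup.1 (ProjRegular.coords_cover.ge
    (show x ∈ (⊤ : (Proj (CohB1.polyGrading n k)).Opens) from trivial))
  refine hj ?_
  have h1 : (Pi.single j 1 : Fin (n + 1) → k) ∈ W k n x := h ▸ Submodule.mem_top
  rw [mem_W, lin_single] at h1
  exact h1

/-- A point at which the vanishing linear forms have codimension one is closed. -/
theorem isClosed_of_codim_one (x : ↥(Proj (CohB1.polyGrading n k))) (c₀ : Fin (n + 1) → k)
    (h : ∀ c, ∃ a : k, c - a • c₀ ∈ W k n x) : IsClosed ({x} : Set ↥(Proj (CohB1.polyGrading n k))) := by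
  classical
  refine isClosed_of_closure_subset fun y hy => ?_
  have hxy : x.asHomogeneousIdeal.toIdeal ≤ y.asHomogeneousIdeal.toIdeal := fun f hf => by
    by_contra hfy
    obtain ⟨z, hz1, hz2⟩ := mem_closure_iff.1 hy _ (Proj.basicOpen (CohB1.polyGrading n k) f).2 hfy
    rw [Set.mem_singleton_iff] at hz2
    subst hz2
    exact hz1 hf
  have hc₀ : lin k n c₀ ∉ y.asHomogeneousIdeal.toIdeal := fun hmem => by
    refine W_ne_top k n y (eq_top_iff.2 fun c _ => ?_)
    obtain ⟨a, ha⟩ := h c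
    have h1 : c - a • c₀ ∈ W k n y := hxy ha
    have h2 : a • c₀ ∈ W k n y := Submodule.smul_mem _ a hmem
    have := Submodule.add_mem _ h1 h2
    rwa [sub_add_cancel] at this
  choose a ha using fun i : Fin (n + 1) => h (Pi.single i 1)
  have hle : y.asHomogeneousIdeal.toIdeal ≤ x.asHomogeneousIdeal.toIdeal := by
    intro g hg
    rw [← DirectSum.sum_support_decompose (CohB1.polyGrading n k) g]
    refine Ideal.sum_mem _ fun d _ => ?_
    let f : MvPolynomial (Fin (n + 1)) k := ((DirectSum.decompose (CohB1.polyGrading n k) g) d).1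
    have hf : f.IsHomogeneous d := ((DirectSum.decompose (CohB1.polyGrading n k) g) d).2
    have hfy : f ∈ y.asHomogeneousIdeal.toIdeal := y.asHomogeneousIdeal.isHomogeneous d hg
    show f ∈ x.asHomogeneousIdeal.toIdeal
    let φ := Ideal.Quotient.mk x.asHomogeneousIdeal.toIdeal
    have hX : ∀ i, φ (MvPolynomial.X i) = φ (lin k n c₀) * φ (MvPolynomial.C (a i)) := fun i => by
      rw [← map_mul, Ideal.Quotient.eq]
      have h1 : lin k n (Pi.single i 1 - a i • c₀) ∈ x.asHomogeneousIdeal.toIdeal := ha i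
      rwa [map_sub, map_smul, lin_single, MvPolynomial.smul_eq_C_mul, mul_comm] at h1
    have key : φ f = φ (lin k n c₀) ^ d * φ (MvPolynomial.C (MvPolynomial.eval a f)) := by
      have h1 : φ f = MvPolynomial.eval₂Hom (φ.comp MvPolynomial.C) (fun i => φ (MvPolynomial.X i)) f :=
        (congrArg (fun ψ : MvPolynomial (Fin (n + 1)) k →+* _ => ψ f) (MvPolynomial.ringHom_ext
          (f := φ) (g := MvPolynomial.eval₂Hom (φ.comp MvPolynomial.C) (fun i => φ (MvPolynomial.X i)))
          (fun r => by simp) (fun i => by simp)))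
      rw [h1, ProjUPX.loc_scale (φ.comp MvPolynomial.C) (fun i => φ (MvPolynomial.C (a i)))
        (fun i => φ (MvPolynomial.X i)) (φ (lin k n c₀)) hX hf]
      refine congrArg (_ * ·) ?_
      exact (MvPolynomial.eval₂_comp (f := φ.comp MvPolynomial.C) (g := a) (p := f)).symm
    rw [← Ideal.Quotient.eq_zero_iff_mem]
    show φ f = 0
    by_cases hev : MvPolynomial.eval a f = 0
    · rw [key, hev, map_zero, map_zero, mul_zero]
    · exfalso
      refine hc₀ (y.isPrime.mem_of_pow_mem d ?_)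
      have hu : IsUnit (MvPolynomial.C (MvPolynomial.eval a f) : MvPolynomial (Fin (n + 1)) k) :=
        (IsUnit.mk0 _ hev).map MvPolynomial.C
      refine (Ideal.mul_unit_mem_iff_mem _ hu).1 ?_
      rw [← map_pow, ← map_mul, Ideal.Quotient.eq] at key
      have := Ideal.sub_mem _ hfy (hxy key)
      rwa [sub_sub_cancel] at this
  exact Set.mem_singleton_iff.2 (ProjectiveSpectrum.ext (HomogeneousIdeal.ext (le_antisymm hle hxy)))

/-- The section of `O(1)` of a linear form. -/
def t (c : Fin (n + 1) → k) : Γ(Twist.twist (CohB1.polyGrading n k) 1, (⊤ : (Proj (CohB1.polyGrading n k)).Opens)) :=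
  ProjUPX.sec (CohB1.polyGrading n k) (lin_mem k n c)

theorem t_add_smul (c d : Fin (n + 1) → k) (r : k) :
    t k n (c + r • d) = t k n c +
      (show Γ(Proj (CohB1.polyGrading n k), ⊤) from Coh.resTop _ (op ⊤) (PnCoh.constTop (Fin (n + 1)) r)) • t k n d := by
  have h1 : (⟨lin k n (c + r • d), lin_mem k n _⟩ : MvPolynomial.homogeneousSubmodule (Fin (n + 1)) k 1) =
      ⟨lin k n c, lin_mem k n c⟩ + r • ⟨lin k n d, lin_mem k n d⟩ :=
    Subtype.ext (by simp [map_add, map_smul])
  refine (congrArg PnCoh.globalOfEquiv h1).trans ((PnCoh.globalOf_add _ _).trans ?_)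
  rw [PnCoh.globalOf_smul]
  rfl

theorem exists_avoid [Infinite k] {S : Set ↥(Proj (CohB1.polyGrading n k))} (hS : S.Finite) :
    ∃ c, ∀ y ∈ S, c ∉ W k n y := by
  classical
  by_contra! h
  haveI := hS.to_subtype
  obtain ⟨y, hy⟩ := Subspace.exists_eq_top_of_iUnion_eq_univ (p := fun y : S => W k n y.1)
    (Set.eq_univ_of_forall fun c => Set.mem_iUnion.2 (by
      obtain ⟨y, hy, hy'⟩ := h c
      exact ⟨⟨y, hy⟩, hy'⟩))
  exact W_ne_top k n y.1 hy

variable [IsAlgClosed k] (G : (CohB1.ProjSpace n k).Modules)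

/-- Sections of a module and of its twist by one. -/
abbrev G₁ : (CohB1.ProjSpace n k).Modules := (DCoh.tensorBi.obj G).obj (Twist.twistProjSpace n k 1)

/-- Multiplication by a linear form on sections. -/
def T (c : Fin (n + 1) → k) : Γ(G, ⊤) →ₗ[k] Γ(G₁ k n G, ⊤) where
  toFun m := QCoh.tmS G (Twist.twistProjSpace n k 1) m (t k n c)
  map_add' := fun _ _ => QCoh.tmS_add_left _ _ _ _ _
  map_smul' := fun _ _ => QCoh.tmS_smul_left G (Twist.twistProjSpace n k 1) _ _ _

theorem T_add_smul (c d : Fin (n + 1) → k) (r : k) (m : Γ(G, ⊤)) :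
    T k n G (c + r • d) m = T k n G c m + r • T k n G d m := by
  show QCoh.tmS G (Twist.twistProjSpace n k 1) m (t k n (c + r • d)) = _
  rw [t_add_smul]
  refine (QCoh.tmS_add_right _ _ m _ _).trans (congrArg (_ + ·) ?_)
  exact QCoh.tmS_smul_right G (Twist.twistProjSpace n k 1) _ m _

/-- The germ at a point, linearly. -/
def germKer (x : CohB1.ProjSpace n k) : Submodule k Γ(G, ⊤) where
  carrier := {m | G.presheaf.germ ⊤ x trivial m = 0}
  add_mem' := fun {a b} ha hb => by
    rw [Set.mem_setOf_eq] at ha hb ⊢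
    rw [map_add, ha, hb, add_zero]
  zero_mem' := map_zero _
  smul_mem' := fun r m hm => by
    rw [Set.mem_setOf_eq] at hm ⊢
    refine (QCoh.germ_smul' G (show x ∈ (⊤ : (CohB1.ProjSpace n k).Opens) from trivial) _ m).trans ?_
    rw [hm, smul_zero]

variable {G}

theorem exists_res_eq_zero {M : (CohB1.ProjSpace n k).Modules} {x : CohB1.ProjSpace n k} {s : Γ(M, ⊤)}
    (h : M.presheaf.germ ⊤ x trivial s = 0) :
    ∃ (V : (CohB1.ProjSpace n k).Opens), x ∈ V ∧ M.presheaf.map (homOfLE (le_top : V ≤ ⊤)).op s = 0 := by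
  obtain ⟨V, hxV, i₁, i₂, he⟩ := M.presheaf.germ_eq (U := ⊤) (V := ⊤) x trivial trivial s 0
    (h.trans (map_zero _).symm)
  exact ⟨V, hxV, he.trans (map_zero _)⟩

theorem germ_T_eq_zero {x : CohB1.ProjSpace n k} {m : Γ(G, ⊤)} (h : G.presheaf.germ ⊤ x trivial m = 0)
    (c : Fin (n + 1) → k) : (G₁ k n G).presheaf.germ ⊤ x trivial (T k n G c m) = 0 := by
  obtain ⟨V, hxV, hV⟩ := exists_res_eq_zero k n h
  rw [← (G₁ k n G).presheaf.germ_res_apply (homOfLE (le_top : V ≤ ⊤)) x hxV]
  refine (congrArg ((G₁ k n G).presheaf.germ V x hxV) ((QCoh.map_tmS G (Twist.twistProjSpace n k 1) _ m (t k n c)).trans ?_)).trans (map_zero _)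
  rw [hV]
  have h0 := QCoh.tmS_add_left G (Twist.twistProjSpace n k 1) (0 : Γ(G, V)) 0
    ((Twist.twistProjSpace n k 1).presheaf.map (homOfLE (le_top : V ≤ ⊤)).op (t k n c))
  rw [add_zero] at h0
  exact left_eq_add.1 h0

theorem isQCoh_O1 : Coh.IsQCoh (Twist.twistProjSpace n k 1) :=
  PnCoh.isQCoh_twist (ProjRegular.coords k n) ProjRegular.coords_mem ProjRegular.coords_cover 1

theorem germ_eq_zero_of_T (hG : Coh.IsQCoh G) {x : CohB1.ProjSpace n k} {c : Fin (n + 1) → k}
    (hc : c ∉ W k n x) {m : Γ(G, ⊤)} (h : (G₁ k n G).presheaf.germ ⊤ x trivial (T k n G c m) = 0) :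
    G.presheaf.germ ⊤ x trivial m = 0 := by
  obtain ⟨V₀, hxV₀, hV₀⟩ := exists_res_eq_zero k n h
  let B : (CohB1.ProjSpace n k).Opens := Proj.basicOpen (CohB1.polyGrading n k) (lin k n c)
  obtain ⟨V, hV, hxV, hle⟩ := exists_isAffineOpen_mem_and_subset (show x ∈ V₀ ⊓ B from ⟨hxV₀, hc⟩)
  have hle' : V ≤ V₀ ⊓ B := hle
  have he : InvX.IsFrame ((Twist.twistProjSpace n k 1).presheaf.map (homOfLE (le_top : V ≤ ⊤)).op (t k n c)) := by
    have h1 := (ProjUPX.isFrame_sec (CohB1.polyGrading n k) (lin_mem k n c)).res (hle'.trans inf_le_right)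
    rw [AModX.res_res] at h1
    exact h1
  have h0 : QCoh.tmS G (Twist.twistProjSpace n k 1) (G.presheaf.map (homOfLE (le_top : V ≤ ⊤)).op m)
      ((Twist.twistProjSpace n k 1).presheaf.map (homOfLE (le_top : V ≤ ⊤)).op (t k n c)) = 0 := by
    rw [← QCoh.map_tmS]
    show (G₁ k n G).presheaf.map _ (T k n G c m) = 0
    rw [show (homOfLE (le_top : V ≤ ⊤)).op = (homOfLE (le_top : V₀ ≤ ⊤)).op ≫ (homOfLE (hle'.trans inf_le_left)).op from
      Subsingleton.elim _ _, Functor.map_comp, ConcreteCategory.comp_apply, hV₀, map_zero]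
  have h1 := QCoh.tmS_add_left G (Twist.twistProjSpace n k 1) (0 : Γ(G, V)) 0
    ((Twist.twistProjSpace n k 1).presheaf.map (homOfLE (le_top : V ≤ ⊤)).op (t k n c))
  rw [add_zero] at h1
  have hm := (Euler.bijective_tmS_frame hG (isQCoh_O1 k n) hV he).1 (a₁ := G.presheaf.map (homOfLE (le_top : V ≤ ⊤)).op m) (a₂ := 0)
    (h0.trans (left_eq_add.1 h1).symm)
  rw [← G.presheaf.germ_res_apply (homOfLE (le_top : V ≤ ⊤)) x hxV m, hm, map_zero]

/-- Twisting down loses a section when no associated point is closed. -/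
theorem finrank_lt (hG : Coh.IsCoh G) (hG₁ : Coh.IsCoh (G₁ k n G))
    (hass : ∀ x : CohB1.ProjSpace n k, Curv2.IsWeakAssPoint G x → ¬ IsClosed ({x} : Set (CohB1.ProjSpace n k))) :
    Module.finrank k Γ(G, ⊤) ≤ Module.finrank k Γ(G₁ k n G, ⊤) ∧ (Module.finrank k Γ(G₁ k n G, ⊤) ≠ 0 →
      Module.finrank k Γ(G, ⊤) < Module.finrank k Γ(G₁ k n G, ⊤)) := by
  classical
  haveI hP : IsNoetherian (Proj (CohB1.polyGrading n k)) := Proj16.isNoetherian_proj _
  haveI : IsNoetherian (CohB1.ProjSpace n k) := hP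
  obtain ⟨c₀, hc₀⟩ := exists_avoid k n (S := {x | Curv2.IsWeakAssPoint G x})
    ((AssPtX.finite_assPoints hG (U := ⊤) isCompact_univ).subset fun x hx => ⟨trivial, AssPtX.isAssPoint_iff.2 hx⟩)
  haveI : IsProper (CohB1.ProjSpace n k ↘ Spec (CommRingCat.of k)) := PnCoh.Chow.isProper_toSpec n k
  haveI : Module.Finite k Γ(G, ⊤) := FlatG.finite_gamma (R := k) hG
  haveI : Module.Finite k Γ(G₁ k n G, ⊤) := FlatG.finite_gamma (R := k) hG₁
  have hinj : Function.Injective (T k n G c₀) := (injective_iff_map_eq_zero _).2 fun m hm =>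
    AssPtX.eq_zero_of_germ hG.1 m fun y _ hy => germ_eq_zero_of_T k n hG.1 (hc₀ y hy) (by rw [hm, map_zero])
  refine ⟨LinearMap.finrank_le_finrank_of_injective hinj, fun h0 =>
    lt_of_le_of_ne (LinearMap.finrank_le_finrank_of_injective hinj) fun heq => ?_⟩
  let e := LinearEquiv.ofBijective (T k n G c₀)
    ⟨hinj, (LinearMap.injective_iff_surjective_of_finrank_eq_finrank heq).1 hinj⟩
  obtain ⟨m₀, hm₀⟩ : ∃ m : Γ(G, ⊤), m ≠ 0 := by
    by_contra hcon
    push Not at hcon
    haveI : Subsingleton Γ(G, ⊤) := subsingleton_of_forall_eq 0 hcon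
    exact h0 (heq ▸ Module.finrank_zero_of_subsingleton)
  obtain ⟨x, hx, hgx⟩ : ∃ x : CohB1.ProjSpace n k, Curv2.IsWeakAssPoint G x ∧ G.presheaf.germ ⊤ x trivial m₀ ≠ 0 := by
    by_contra hcon
    push Not at hcon
    exact hm₀ (AssPtX.eq_zero_of_germ hG.1 m₀ fun y _ hy => hcon y hy)
  refine hass x hx (isClosed_of_codim_one k n x c₀ fun c => ?_)
  let K := germKer k n G x
  let S : Module.End k Γ(G, ⊤) := e.symm.toLinearMap.comp (T k n G c)
  have hS : ∀ m, T k n G c₀ (S m) = T k n G c m := fun m => e.apply_symm_apply _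
  have hK : K ≤ K.comap S := fun m hm => germ_eq_zero_of_T k n hG.1 (hc₀ x hx) (by
    rw [hS]; exact germ_T_eq_zero k n hm c)
  haveI : Nontrivial (Γ(G, ⊤) ⧸ K) := Submodule.Quotient.nontrivial_iff.2 fun h => hgx (h.ge Submodule.mem_top)
  obtain ⟨a, ha⟩ := Module.End.exists_eigenvalue (K.mapQ K S hK)
  obtain ⟨v, hv⟩ := ha.exists_hasEigenvector
  obtain ⟨m, rfl⟩ := K.mkQ_surjective v
  refine ⟨a, by_contra fun hW => hv.2 ?_⟩
  have h1 : S m - a • m ∈ K := by
    rw [← Submodule.Quotient.eq]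
    exact (hv.apply_eq_smul :)
  have h2 : (G₁ k n G).presheaf.germ ⊤ x trivial (T k n G c₀ (S m - a • m)) = 0 := germ_T_eq_zero k n h1 c₀
  rw [map_sub, map_smul, hS] at h2
  have h3 : T k n G (c - a • c₀) m = T k n G c m - a • T k n G c₀ m := by
    rw [sub_eq_add_neg c, ← neg_smul, T_add_smul, neg_smul, ← sub_eq_add_neg]
  rw [← h3] at h2
  exact (Submodule.Quotient.mk_eq_zero K).2 (germ_eq_zero_of_T k n hG.1 hW h2)

section Twist

variable {X : Scheme.{u}} {M L : X.Modules}

theorem isWeakAssPoint_of_iso (e : M ≅ L) (hM : Coh.IsQCoh M) (hL : Coh.IsQCoh L) {x : X}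
    (h : Curv2.IsWeakAssPoint M x) : Curv2.IsWeakAssPoint L x := by
  obtain ⟨V, hV, hxV, -⟩ := exists_isAffineOpen_mem_and_subset (x := x) (U := ⊤) trivial
  rw [AssPtX.isWeakAssPoint_iff_sections hL hV hxV]
  rw [AssPtX.isWeakAssPoint_iff_sections hM hV hxV] at h
  let a : Γ(M, V) ≃+ Γ(L, V) :=
    { toFun := e.hom.app V
      invFun := e.inv.app V
      left_inv := fun s => congrArg (fun φ => Scheme.Modules.Hom.app φ V s) e.hom_inv_id
      right_inv := fun s => congrArg (fun φ => Scheme.Modules.Hom.app φ V s) e.inv_hom_id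
      map_add' := map_add _ }
  refine (AssPtX.mem_weakAss_equiv (RingEquiv.refl Γ(X, V)) a
    (fun r s => Scheme.Modules.Hom.app_smul e.hom r s) _).2 ?_
  rw [RingEquiv.toRingHom_refl, Ideal.comap_id]
  exact h

/-- Twisting by an invertible module does not change the associated points. -/
theorem isWeakAssPoint_tensor (hM : Coh.IsQCoh M) (hL : PicF.IsInvertible L) {x : X}
    (h : Curv2.IsWeakAssPoint M x) : Curv2.IsWeakAssPoint ((DCoh.tensorBi.obj M).obj L) x := by
  obtain ⟨U, hxU, e, he⟩ := InvX.exists_frame hL x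
  obtain ⟨V, hV, hxV, hVU⟩ := exists_isAffineOpen_mem_and_subset hxU
  have hLq : Coh.IsQCoh L := ProjUPX.isQCoh_of_isInvertible hL
  have hT : Coh.IsQCoh ((DCoh.tensorBi.obj M).obj L) := KFlatLib.isQCoh_tensor hM hLq
  rw [AssPtX.isWeakAssPoint_iff_sections hT hV hxV]
  rw [AssPtX.isWeakAssPoint_iff_sections hM hV hxV] at h
  let f : Γ(M, V) →+ Γ((DCoh.tensorBi.obj M).obj L, V) :=
    AddMonoidHom.mk' (fun s => QCoh.tmS M L s (AModX.res L hVU e)) fun s s' => QCoh.tmS_add_left M L s s' _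
  let a := AddEquiv.ofBijective f (Euler.bijective_tmS_frame hM hLq hV (he.res hVU))
  refine (AssPtX.mem_weakAss_equiv (RingEquiv.refl Γ(X, V)) a
    (fun r s => QCoh.tmS_smul_left M L r s _) _).2 ?_
  rw [RingEquiv.toRingHom_refl, Ideal.comap_id]
  exact h

end Twist

open Groth.Agent.H23 Groth.Agent.H23.PicMul in
/-- Twisting down by one loses a section, on the twists of a module. -/
theorem h0_twist {F : (CohB1.ProjSpace n k).Modules} (hF : Coh.IsCoh F)
    (hass : ∀ x : CohB1.ProjSpace n k, Curv2.IsAssPoint F x → ¬ IsClosed ({x} : Set (CohB1.ProjSpace n k)))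
    (d : ℤ) :
    Module.finrank k (Coh.HH (CohB1.ProjSpace n k) (CohB1.tensorMod F (Twist.twistProjSpace n k (d - 1))) 0) ≤
      Module.finrank k (Coh.HH (CohB1.ProjSpace n k) (CohB1.tensorMod F (Twist.twistProjSpace n k d)) 0) ∧
    (Module.finrank k (Coh.HH (CohB1.ProjSpace n k) (CohB1.tensorMod F (Twist.twistProjSpace n k d)) 0) ≠ 0 →
      Module.finrank k (Coh.HH (CohB1.ProjSpace n k) (CohB1.tensorMod F (Twist.twistProjSpace n k (d - 1))) 0) <
        Module.finrank k (Coh.HH (CohB1.ProjSpace n k) (CohB1.tensorMod F (Twist.twistProjSpace n k d)) 0)) := by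
  letI := PicMul.clMonoid (X := CohB1.ProjSpace n k)
  have hinv : ∀ a : ℤ, PicF.IsInvertible (Twist.twistProjSpace n k a) := fun a =>
    PnCoh.Finite.isInvertible_twist (ProjRegular.coords k n) ProjRegular.coords_mem ProjRegular.coords_cover a
  haveI hP : IsNoetherian (Proj (CohB1.polyGrading n k)) := Proj16.isNoetherian_proj _
  haveI : IsNoetherian (CohB1.ProjSpace n k) := hP
  have hcoh : ∀ a : ℤ, Coh.IsCoh (CohB1.tensorMod F (Twist.twistProjSpace n k a)) := fun a =>
    AmpleVan.isCoh_tensor hF (AmpleVan.isCoh_invertible (hinv a))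
  let G := CohB1.tensorMod F (Twist.twistProjSpace n k (d - 1))
  have e : Nonempty (G₁ k n G ≅ CohB1.tensorMod F (Twist.twistProjSpace n k d)) := by
    refine PicMul.cl_eq_iff.1 ?_
    show PicF.cl (CohB1.tensorMod G (Twist.twistProjSpace n k 1)) = _
    rw [PicMul.cl_tensor, PicMul.cl_tensor, PicMul.cl_tensor, mul_assoc]
    refine congrArg (PicF.cl F * ·) ?_
    have h := map_mul (SeesawX.PnFibre.twistHom n k) (Multiplicative.ofAdd (d - 1)) (Multiplicative.ofAdd 1)
    rw [← ofAdd_add, sub_add_cancel] at h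
    exact h.symm
  obtain ⟨e⟩ := e
  have hG₁ : Coh.IsCoh (G₁ k n G) := AmpleVan.isCoh_tensor (hcoh (d - 1)) (AmpleVan.isCoh_invertible (hinv 1))
  have key : Module.finrank k (Coh.HH (CohB1.ProjSpace n k) (CohB1.tensorMod F (Twist.twistProjSpace n k d)) 0) =
      Module.finrank k Γ(G₁ k n G, ⊤) :=
    ((CurveCohLib.hhEquiv (k := k) e 0).finrank_eq).symm.trans (FlatG.h0Equiv k (G₁ k n G)).finrank_eq
  rw [key, (FlatG.h0Equiv k G).finrank_eq]
  refine finrank_lt k n (hcoh (d - 1)) hG₁ (fun x hx => hass x (AssPtX.isAssPoint_iff.2 ?_))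
  obtain ⟨i⟩ : Nonempty ((DCoh.tensorBi.obj G).obj (Twist.twistProjSpace n k (1 - d)) ≅ F) := by
    refine PicMul.cl_eq_iff.1 ?_
    show PicF.cl (CohB1.tensorMod G (Twist.twistProjSpace n k (1 - d))) = _
    rw [PicMul.cl_tensor, PicMul.cl_tensor, mul_assoc]
    have h := map_mul (SeesawX.PnFibre.twistHom n k) (Multiplicative.ofAdd (d - 1)) (Multiplicative.ofAdd (1 - d))
    rw [← ofAdd_add, show (d - 1) + (1 - d) = 0 by ring, ofAdd_zero, map_one] at h
    exact (congrArg (PicF.cl F * ·) h.symm).trans (mul_one _)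
  exact isWeakAssPoint_of_iso i (AmpleVan.isCoh_tensor (hcoh (d - 1)) (AmpleVan.isCoh_invertible (hinv _))).1 hF.1
    (isWeakAssPoint_tensor (hcoh (d - 1)).1 (hinv (1 - d)) hx)

end Groth.Agent.Pic13Lib.NegTwistDrop
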