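import Groth.Agent.PnCoh.Chow.DevInput
import Groth.Agent.AmpleVan.FiniteSurj
import Groth.Agent.Pic13Lib.AlgEqEuler
import Groth.Agent.Pic13Lib.IntNum

/-!
# The module of Chow's dévissage, compatibly with an invertible twist
-/

set_option autoImplicit false
set_option linter.style.haveILetI false
set_option linter.unusedSectionVars false
set_option backward.isDefEq.respectTransparency false
set_option backward.isDefEq.respectTransparency.types false
set_option maxHeartbeats 1000000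

universe u

open CategoryTheory CategoryTheory.Limits AlgebraicGeometry TopologicalSpace Opposite MvPolynomial
open Groth.Agent.PnCoh Groth.Agent.PnCoh.Chow
open Groth.Agent.H23 Groth.Agent.H23.PicMul

attribute [local instance] PicMul.clMonoid

noncomputable section

namespace Groth.Agent.Pic13Lib

/-- Higher cohomology over the preimages of basic opens, from vanishing on the preimage of the affine. -/
theorem subsingleton_HU_preimage {A : Type u} [CommRing A] {X X' : Scheme.{u}} (f : X ⟶ Spec (CommRingCat.of A))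
    (π : X' ⟶ X) [IsProper π] [X.IsSeparated] {V : X.Opens} (hV : IsAffineOpen V) {M : X'.Modules}
    (hM : Coh.IsQCoh M) (b : Γ(X, V)) (q : ℕ)
    (h : Subsingleton (Coh.HH (π ⁻¹ᵁ V).toScheme (M.restrict (π ⁻¹ᵁ V).ι) (q + 1))) :
    Subsingleton (CohTop.HU (X := X'.toPresheafedSpace.carrier) (QCoh.abSheaf M) (q + 1) (π ⁻¹ᵁ X.basicOpen b)) := by
  haveI : X'.IsSeparated := ⟨by
    rw [← terminal.comp_from π]
    exact MorphismProperty.comp_mem @IsSeparated _ _ inferInstance Scheme.IsSeparated.isSeparated_terminal_from⟩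
  haveI : CompactSpace (π ⁻¹ᵁ V).toScheme :=
    isCompact_iff_compactSpace.1 (π.isCompact_preimage (hU := hV.isCompact))
  haveI : (π ⁻¹ᵁ V).toScheme.IsSeparated := ⟨by
    rw [← terminal.comp_from (π ⁻¹ᵁ V).ι]
    exact MorphismProperty.comp_mem @IsSeparated _ _ inferInstance Scheme.IsSeparated.isSeparated_terminal_from⟩
  letI := QCoh.modHH (QCoh.idTop (π ⁻¹ᵁ V).toScheme) (M.restrict (π ⁻¹ᵁ V).ι) (q + 1)
  obtain ⟨e⟩ := QCoh.HH_localization (Coh.toGlobal (relQ π hV) b) (M := M.restrict (π ⁻¹ᵁ V).ι) (QCoh.isQCoh_restrict _ hM) (q + 1)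
  have h1 := subsingleton_HU_of_HHon (M.restrict (π ⁻¹ᵁ V).ι) _ q (by
    haveI := h
    exact e.toEquiv.subsingleton)
  have h2 := (QCoh.Ab.subsingleton_HU_restr_iff (π ⁻¹ᵁ V).ι.isOpenEmbedding q
    (QCoh.abSheaf M) _).1 h1
  rw [← image_basicOpen_relQ π hV b]
  exact h2

/-- A twist by the pullback of a module trivial on `V` restricts as the module itself. -/
theorem nonempty_restrict_twist {X X' : Scheme.{u}} (π : X' ⟶ X) {V : X.Opens} (M : X'.Modules) {L : X.Modules}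
    (h : Nonempty (L.restrict V.ι ≅ Coh.structureModule V)) :
    Nonempty ((CohB1.tensorMod M ((Scheme.Modules.pullback π).obj L)).restrict (π ⁻¹ᵁ V).ι ≅
      M.restrict (π ⁻¹ᵁ V).ι) := by
  obtain ⟨e⟩ := h
  obtain ⟨u⟩ := PicClLib.nonempty_pullback_structureModule (π ∣_ V)
  let a : (Scheme.Modules.pullback (π ⁻¹ᵁ V).ι).obj ((Scheme.Modules.pullback π).obj L) ≅
      Coh.structureModule (π ⁻¹ᵁ V).toScheme :=
    (Scheme.Modules.pullbackComp (π ⁻¹ᵁ V).ι π).app L ≪≫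
      (Scheme.Modules.pullbackCongr (morphismRestrict_ι π V).symm).app L ≪≫
      ((Scheme.Modules.pullbackComp (π ∣_ V) V.ι).app L).symm ≪≫
      (Scheme.Modules.pullback (π ∣_ V)).mapIso (((Scheme.Modules.restrictFunctorIsoPullback V.ι).app L).symm ≪≫ e) ≪≫ u
  obtain ⟨b⟩ := cl_eq_iff.1 (show PicF.cl ((Scheme.Modules.pullback (π ⁻¹ᵁ V).ι).obj
      (CohB1.tensorMod M ((Scheme.Modules.pullback π).obj L))) =
      PicF.cl ((Scheme.Modules.pullback (π ⁻¹ᵁ V).ι).obj M) by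
    show PicF.pullCl (π ⁻¹ᵁ V).ι (PicF.cl _) = _
    rw [cl_tensor, PicMul.pullCl_mul]
    show _ * PicF.cl ((Scheme.Modules.pullback (π ⁻¹ᵁ V).ι).obj ((Scheme.Modules.pullback π).obj L)) = _
    rw [cl_eq_iff.2 ⟨a⟩, ← PicMul.one_def, mul_one]
    rfl)
  exact ⟨(Scheme.Modules.restrictFunctorIsoPullback (π ⁻¹ᵁ V).ι).app _ ≪≫ b ≪≫
    ((Scheme.Modules.restrictFunctorIsoPullback (π ⁻¹ᵁ V).ι).app M).symm⟩

/-- Chow's dévissage module, with the Euler characteristics of its twist. -/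
theorem exists_devissage_twist {k : Type u} [Field k] {X : Scheme.{u}} [IsIntegral X]
    [X.Over (Spec (CommRingCat.of k))] [IsProper (X ↘ Spec (CommRingCat.of k))] {L : X.Modules}
    (hL : PicF.IsInvertible L) :
    ∃ (N : ℕ) (X' : Scheme.{u}) (π : X' ⟶ X) (p : X' ⟶ CohB1.ProjSpace N k) (M : X'.Modules) (G : X.Modules),
      IsClosedImmersion p ∧ IsProper π ∧ p ≫ CohB1.ProjSpace.toSpec N k = π ≫ (X ↘ Spec (CommRingCat.of k)) ∧
      Coh.IsCoh M ∧ Coh.IsCoh G ∧ CohB1.support G = Set.univ ∧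
      Nonempty ((G.presheaf.stalk (genericPoint X)) ≃ₗ[X.presheaf.stalk (genericPoint X)]
        IsLocalRing.ResidueField (X.presheaf.stalk (genericPoint X))) ∧
      (letI : X'.Over (Spec (CommRingCat.of k)) := ⟨π ≫ (X ↘ Spec (CommRingCat.of k))⟩
       Curv2.euler k X G = Curv2.euler k X' M ∧
        Curv2.euler k X (CohB1.tensorMod G L) =
          Curv2.euler k X' (CohB1.tensorMod M ((Scheme.Modules.pullback π).obj L))) := by
  classical
  let f : X ⟶ Spec (CommRingCat.of k) := X ↘ Spec (CommRingCat.of k)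
  obtain ⟨N, X', π, p, hint, hp, hpf, hπ, U, hU, hiso⟩ := chow_integral f
  haveI : CompactSpace X := QuasiCompact.compactSpace_of_compactSpace f
  haveI : IsLocallyNoetherian X := LocallyOfFiniteType.isLocallyNoetherian f
  haveI : IsNoetherian X := { __ := ‹IsLocallyNoetherian X›, __ := ‹CompactSpace X› }
  haveI : X.IsSeparated := ⟨by
    rw [← terminal.comp_from f]
    exact MorphismProperty.comp_mem @IsSeparated _ _ inferInstance inferInstance⟩
  have hloc : ∀ x : X, ∃ V : X.Opens, IsAffineOpen V ∧ x ∈ V ∧ Nonempty (L.restrict V.ι ≅ Coh.structureModule V) := fun x => by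
    obtain ⟨U₀, hxU, e, he⟩ := InvX.exists_frame hL x
    obtain ⟨V, hV, hxV, hVU⟩ := exists_isAffineOpen_mem_and_subset hxU
    obtain ⟨φ⟩ := InvX.nonempty_iso_of_isFrame (he.res (show V ≤ U₀ from hVU))
    exact ⟨V, hV, hxV, ⟨φ⟩⟩
  choose V hV hxV hLV using hloc
  obtain ⟨t, ht⟩ := isCompact_univ.elim_finite_subcover (fun x : X => (V x : Set X)) (fun x => (V x).2)
    fun x _ => Set.mem_iUnion.2 ⟨x, hxV x⟩
  have hcov' : ∀ x : X, ∃ i : t, x ∈ V i.1 := fun x => by
    obtain ⟨z, hz, hxz⟩ := Set.mem_iUnion₂.1 (ht (Set.mem_univ x))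
    exact ⟨⟨z, hz⟩, hxz⟩
  haveI : ∀ i : t, IsNoetherianRing Γ(X, V i.1) := fun i => IsLocallyNoetherian.component_noetherian ⟨_, hV i.1⟩
  choose d₀ hd₀ using fun i : t => exists_rel_vanishing f π p (V := V i.1) (hV i.1) hpf
  let d : ℕ := Finset.univ.sup d₀
  let M := pullTw p (d : ℤ)
  let G := (Coh.push π).obj M
  let M' := CohB1.tensorMod M ((Scheme.Modules.pullback π).obj L)
  have hGq : Coh.IsQCoh G := QCoh.isQCoh_pushforward π (isQCoh_pullTw p _)
  have hGc : Coh.IsCoh G := ⟨hGq, QCoh.isFT_of_finite hGq (fun i : t => V i.1)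
    (IsOpenCover.mk (top_le_iff.1 fun x _ => Opens.mem_iSup.2 (hcov' x))) (fun i => hV i.1)
    (fun i => finite_sections_push f π p (hV i.1) hpf d)⟩
  haveI : IsLocallyNoetherian X' := LocallyOfFiniteType.isLocallyNoetherian π
  have hMc : Coh.IsCoh M := isCoh_pullTw p _
  have hM'c : Coh.IsCoh M' := AmpleVan.isCoh_tensor hMc (AmpleVan.isCoh_invertible (PicClLib.isInvertible_pullback π hL))
  -- the generic stalk
  have hη : genericPoint X ∈ U := ((genericPoint_spec X).mem_open_set_iff U.2).2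
    (by obtain ⟨u⟩ := hU; exact ⟨u.1, trivial, u.2⟩)
  obtain ⟨x', hx'⟩ : ∃ x' : (π ⁻¹ᵁ U).toScheme, (π ∣_ U) x' = ⟨genericPoint X, hη⟩ :=
    (TopCat.homeoOfIso (asIso (π ∣_ U).base)).surjective _
  obtain ⟨⟨l⟩, hl⟩ := cov_coord k (p x'.1)
  let O : X'.Opens := p ⁻¹ᵁ Proj.basicOpen (CohB1.polyGrading N k) (MvPolynomial.X l)
  let W : X.Opens := U.ι ''ᵁ (inv (π ∣_ U) ⁻¹ᵁ ((π ⁻¹ᵁ U).ι ⁻¹ᵁ O))
  have hWU : W ≤ U := U.ι_image_le _
  have hW : π ⁻¹ᵁ W ≤ O := by
    intro y hy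
    obtain ⟨w, hw, hwy⟩ := hy
    have hyU : π y ∈ U := hwy ▸ w.2
    have h1 : w = (π ∣_ U) ⟨y, hyU⟩ := Subtype.ext (hwy.trans (by
      rw [morphismRestrict_base_coe]))
    have h2 : (π ⁻¹ᵁ U).ι (inv (π ∣_ U) w) ∈ O := hw
    rw [h1, ← Scheme.Hom.comp_apply (π ∣_ U), IsIso.hom_inv_id] at h2
    exact h2
  have hηW : genericPoint X ∈ W := by
    refine ⟨⟨genericPoint X, hη⟩, ?_, rfl⟩
    show (π ⁻¹ᵁ U).ι (inv (π ∣_ U) ⟨genericPoint X, hη⟩) ∈ O
    rw [← hx', ← Scheme.Hom.comp_apply (π ∣_ U), IsIso.hom_inv_id]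
    exact hl
  obtain ⟨est⟩ := nonempty_stalk_equiv_residueField
    (isFrame_push_of_isIso π hWU hW (isFrame_pFrame p (ProjPt.X_mem l) (d : ℤ))) hηW
  have hsupp : genericPoint X ∈ CohB1.support G := (QCoh.simpleAt_of_residueField hGq _ est).2
  letI : X'.Over (Spec (CommRingCat.of k)) := ⟨π ≫ f⟩
  -- cohomology of the direct images
  have key : ∀ (K : X'.Modules), Coh.IsQCoh K →
      (∀ i : t, Nonempty (K.restrict (π ⁻¹ᵁ V i.1).ι ≅ M.restrict (π ⁻¹ᵁ V i.1).ι)) →
      Curv2.euler k X ((Coh.push π).obj K) = Curv2.euler k X' K := fun K hK hres => by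
    refine finsum_congr fun q => ?_
    let B : Opens X → Prop := fun W => ∃ (i : t) (b : Γ(X, V i.1)), W = X.basicOpen b
    have hB : ∀ (U : Opens X) (y : X), y ∈ U → ∃ W, W ≤ U ∧ y ∈ W ∧ B W := fun U y hy => by
      obtain ⟨i, hi⟩ := hcov' y
      obtain ⟨b, hbU, hyb⟩ := (hV i.1).exists_basicOpen_le (V := U) ⟨y, hy⟩ hi
      exact ⟨X.basicOpen b, hbU, hyb, i, b, rfl⟩
    have hnat := H_push_equiv_natural_of_HU (Y := X.toPresheafedSpace.carrier) π.base B hB
      (QCoh.abSheaf K) (fun W hW r => by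
        obtain ⟨i, b, rfl⟩ := hW
        obtain ⟨φ⟩ := hres i
        exact subsingleton_HU_preimage f π (hV i.1) hK b r
          (PnCoh.Chow.subsingleton_HH_of_iso φ.symm _ (hd₀ i d (Finset.le_sup (Finset.mem_univ i)) r))) q
    obtain ⟨eHH⟩ := nonempty_linearEquiv_of_natPushEquiv k π rfl K q hnat
    rw [eHH.finrank_eq]
  refine ⟨N, X', π, p, M, G, hp, hπ, hpf, hMc, hGc, Set.eq_univ_of_univ_subset ?_, ⟨est⟩,
    key M hMc.1 fun i => ⟨Iso.refl _⟩, ?_⟩
  · rw [← genericPoint_closure]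
    exact (QCoh.isClosed_support_of_isFT hGc.1 hGc.2).closure_subset_iff.2 (Set.singleton_subset_iff.2 hsupp)
  · obtain ⟨e⟩ := AmpleVan.FiniteSurj.nonempty_push_twist π M hL
    rw [CurveCohLib.euler_congr (k := k) e]
    exact key M' hM'c.1 fun i => nonempty_restrict_twist π M (hLV i.1)

end Groth.Agent.Pic13Lib
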