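import Groth.Agent.Pic13Lib.BoundedReg
import Groth.Agent.InvX.GenEpi
import Groth.Agent.FlatG.Gamma
import Groth.Agent.HyperplaneLib.Main
import Groth.Agent.SeesawX.Unit
import Groth.Agent.QCoh.Support
import Groth.Agent.QCoh16.SerreFree

/-!
# Cokernels of maps between fixed sheaves form bounded families
-/

set_option autoImplicit false
set_option linter.style.haveILetI false
set_option linter.unusedSectionVars false
set_option backward.isDefEq.respectTransparency false
set_option backward.isDefEq.respectTransparency.types false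
set_option maxHeartbeats 1000000

universe u

open CategoryTheory CategoryTheory.Limits AlgebraicGeometry TopologicalSpace Opposite
open Groth.Agent.H23 Groth.Agent.H23.PicMul

attribute [local instance] PicMul.clMonoid

noncomputable section

namespace Groth.Agent.Pic13Lib

variable {X Y : Scheme.{u}}

/-- The map out of a finite free sheaf given by sections. -/
abbrev descSect {E : X.Modules} {a : ℕ} (τ : Fin a → Γ(E, ⊤)) : FlatMod.freeMod X a ⟶ E :=
  Sigma.desc fun j => InvX.ofSect (τ j)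

theorem eq_descSect {E : X.Modules} {a : ℕ} (f : FlatMod.freeMod X a ⟶ E) :
    f = descSect fun j => InvX.one (Sigma.ι (fun _ : Fin a => Coh.structureModule X) j ≫ f) :=
  Sigma.hom_ext _ _ fun j => by
    rw [Sigma.ι_desc]
    exact SeesawX.hom_ext_one _ _ (InvX.one_ofSect _).symm

theorem nonempty_coker_congr {E E' : X.Modules} (e : E ≅ E') {a : ℕ} (τ : Fin a → Γ(E, ⊤)) (τ' : Fin a → Γ(E', ⊤))
    (h : ∀ j, e.hom.app ⊤ (τ j) = τ' j) : Nonempty (cokernel (descSect τ) ≅ cokernel (descSect τ')) := by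
  have w : descSect τ ≫ e.hom = (Iso.refl _).hom ≫ descSect τ' := by
    rw [Iso.refl_hom, Category.id_comp]
    refine Sigma.hom_ext _ _ fun j => ?_
    rw [Sigma.ι_desc_assoc, Sigma.ι_desc]
    refine SeesawX.hom_ext_one _ _ ?_
    exact (congrArg (e.hom.app ⊤) (InvX.one_ofSect (τ j))).trans ((h j).trans (InvX.one_ofSect (τ' j)).symm)
  exact ⟨cokernel.mapIso _ _ (Iso.refl _) e w⟩

/-- The pullback of a cokernel of a map given by sections. -/
theorem nonempty_coker_pullback (g : X ⟶ Y) {E : Y.Modules} {a : ℕ} (τ : Fin a → Γ(E, ⊤)) :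
    Nonempty ((Scheme.Modules.pullback g).obj (cokernel (descSect τ)) ≅
      cokernel (descSect fun j => ProjUP.pullSec g E (τ j))) := by
  let G := Scheme.Modules.pullback g
  haveI : G.IsLeftAdjoint := (Scheme.Modules.pullbackPushforwardAdjunction g).isLeftAdjoint
  haveI : PreservesColimitsOfSize.{0, 0} G := inferInstance
  let e : FlatMod.freeMod X a ≅ G.obj (FlatMod.freeMod Y a) :=
    Sigma.mapIso (fun _ => (SeesawX.unitIso g).symm) ≪≫ (PreservesCoproduct.iso G _).symm
  have he : e.hom ≫ G.map (descSect τ) = descSect fun j => ProjUP.pullSec g E (τ j) := by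
    refine Sigma.hom_ext _ _ fun j => ?_
    rw [Sigma.ι_desc]
    have h1 : Sigma.ι (fun _ : Fin a => Coh.structureModule X) j ≫ e.hom =
        (SeesawX.unitIso g).inv ≫ G.map (Sigma.ι (fun _ : Fin a => Coh.structureModule Y) j) := by
      rw [← ι_comp_sigmaComparison G (fun _ : Fin a => Coh.structureModule Y) j]
      exact (Category.assoc _ _ _).symm.trans
        ((congrArg (· ≫ _) (Sigma.ι_map (fun _ => (SeesawX.unitIso g).inv) j)).trans (Category.assoc _ _ _))
    rw [← Category.assoc, h1, Category.assoc, ← G.map_comp, Sigma.ι_desc, Iso.inv_comp_eq]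
    have hinj : ∀ φ ψ : G.obj (Coh.structureModule Y) ⟶ G.obj E,
        φ.app ⊤ (ProjUP.pullSec g (Coh.structureModule Y) (1 : Γ(Y, ⊤))) =
          ψ.app ⊤ (ProjUP.pullSec g (Coh.structureModule Y) (1 : Γ(Y, ⊤))) → φ = ψ := fun φ ψ h =>
      ((Scheme.Modules.pullbackPushforwardAdjunction g).homEquiv _ _).injective (SeesawX.hom_ext_one _ _ (by
        simp only [Adjunction.homEquiv_unit]
        exact h))
    refine hinj _ _ ((HyperplaneLib.map_app_pullSec g (InvX.ofSect (τ j)) _).trans ?_)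
    refine (congrArg (ProjUP.pullSec g E) (InvX.one_ofSect (τ j))).trans
      ((InvX.one_ofSect (ProjUP.pullSec g E (τ j))).symm.trans ?_)
    · have hu : (SeesawX.unitIso g).hom.app ⊤ (ProjUP.pullSec g (Coh.structureModule Y) (1 : Γ(Y, ⊤))) =
          (show Γ(Coh.structureModule X, ⊤) from (1 : Γ(X, ⊤))) := by
        rw [← HyperplaneLib.qPullSec_eq]
        exact SeesawX.unitIso_pullSec_one g ⊤ le_top
      exact (congrArg ((InvX.ofSect (ProjUP.pullSec g E (τ j))).app ⊤) hu).symm
  exact ⟨PreservesCokernel.iso G _ ≪≫ (cokernelEpiComp e.hom (G.map (descSect τ))).symm ≪≫ cokernelIsoOfEq he⟩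

variable {k : Type u} [Field k] [X.Over (Spec (CommRingCat.of k))]

theorem isBounded_mono {P P' : X.Modules → Prop} (h : ∀ F, P F → P' F) (hb : Pic13.IsBounded k X P') :
    Pic13.IsBounded k X P := by
  obtain ⟨T, q, h₁, h₂, G, hG, hmem⟩ := hb
  exact ⟨T, q, h₁, h₂, G, hG, fun L hL => hmem L (h L hL)⟩

variable [IsProper (X ↘ Spec (CommRingCat.of k))]

attribute [local instance] FlatG.Pol.secR

/-- Cokernels of maps from a finite free sheaf to a fixed coherent sheaf form a bounded family. -/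
theorem isBounded_coker {E : X.Modules} (hE : Coh.IsCoh E) (a : ℕ) :
    Pic13.IsBounded k X fun F => ∃ τ : Fin a → Γ(E, ⊤), Nonempty (cokernel (descSect τ) ≅ F) := by
  classical
  haveI := FlatG.finite_gamma k hE
  let b := Module.finBasis k Γ(E, ⊤)
  let σ := Fin a × Fin (Module.finrank k Γ(E, ⊤))
  let A := MvPolynomial σ k
  let q : Spec (CommRingCat.of A) ⟶ Spec (CommRingCat.of k) := Spec.map (CommRingCat.ofHom MvPolynomial.C)
  haveI : LocallyOfFiniteType q := by
    rw [HasRingHomProperty.Spec_iff (P := @LocallyOfFiniteType)]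
    exact RingHom.finiteType_algebraMap.2 (inferInstance : Algebra.FiniteType k A)
  let P := Pic13.prodK k X q
  let f : P ⟶ X := pullback.fst (X ↘ Spec (CommRingCat.of k)) q
  let g : P ⟶ Spec (CommRingCat.of A) := pullback.snd (X ↘ Spec (CommRingCat.of k)) q
  let w : σ → Γ(Spec (CommRingCat.of A), ⊤) := fun v => (Scheme.ΓSpecIso (CommRingCat.of A)).inv (MvPolynomial.X v)
  let E' : P.Modules := (Scheme.Modules.pullback f).obj E
  let τU : Fin a → Γ(E', ⊤) := fun j =>
    ∑ l, g.appTop (w (j, l)) • (ProjUP.pullSec f E (b l) : Γ((Scheme.Modules.pullback f).obj E, ⊤))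
  haveI := CurveCohLib.isNoetherian_of_proper (k := k) (X := X)
  haveI : IsLocallyNoetherian P := LocallyOfFiniteType.isLocallyNoetherian f
  have hE' : Coh.IsCoh E' := ZClosLib.isCoh_pullback _ hE
  have hfree : Coh.IsQCoh (FlatMod.freeMod P a) := QCoh16.isQCoh_free a
  refine ⟨_, q, inferInstance, inferInstance, cokernel (descSect τU), QCoh.isCoh_cokernel hfree hE' _,
    fun F ⟨τ, ⟨eF⟩⟩ => ?_⟩
  let ev : A →+* k := MvPolynomial.eval fun v : σ => b.repr (τ v.1) v.2
  let t : Spec (CommRingCat.of k) ⟶ Spec (CommRingCat.of A) := Spec.map (CommRingCat.ofHom ev)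
  have ht : t ≫ q = 𝟙 _ := by
    rw [← Spec.map_comp, show CommRingCat.ofHom MvPolynomial.C ≫ CommRingCat.ofHom ev = 𝟙 (CommRingCat.of k) from
      CommRingCat.hom_ext (RingHom.ext fun c => MvPolynomial.eval_C c), Spec.map_id]
  let s := Pic13.sliceAt k X q t ht
  have hw : ∀ v : σ, s.appTop (g.appTop (w v)) =
      Coh.toGlobal (X ↘ Spec (CommRingCat.of k)) (b.repr (τ v.1) v.2) := fun v => by
    have h1 : s.appTop (g.appTop (w v)) = (X ↘ Spec (CommRingCat.of k)).appTop (t.appTop (w v)) := by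
      have := congrArg (fun φ => Scheme.Hom.appTop φ (w v)) (sliceAt_snd (X := X) q t ht)
      rw [Scheme.Hom.comp_appTop, Scheme.Hom.comp_appTop] at this
      exact this
    have h2 : t.appTop (w v) = (Scheme.ΓSpecIso (CommRingCat.of k)).inv (ev (MvPolynomial.X v)) :=
      (ConcreteCategory.congr_hom (Scheme.ΓSpecIso_inv_naturality (CommRingCat.ofHom ev)) (MvPolynomial.X v)).symm
    rw [h1, h2, MvPolynomial.eval_X]
    rfl
  let e : (Scheme.Modules.pullback s).obj E' ≅ E :=
    (Scheme.Modules.pullbackComp s f).app E ≪≫ (Scheme.Modules.pullbackCongr (sliceAt_fst (X := X) q t ht)).app E ≪≫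
      (Scheme.Modules.pullbackId X).app E
  have he : ∀ x : Γ(E, ⊤), e.hom.app ⊤ (ProjUP.pullSec s E' (ProjUP.pullSec f E x)) = x := fun x => by
    refine Eq.trans ?_ (HyperplaneLib.id_app_pullSec E x)
    refine congrArg (((Scheme.Modules.pullbackId X).hom.app E).app ⊤) ?_
    refine Eq.trans ?_ (HyperplaneLib.congr_app_pullSec (sliceAt_fst (X := X) q t ht) E x)
    exact congrArg (((Scheme.Modules.pullbackCongr (sliceAt_fst (X := X) q t ht)).hom.app E).app ⊤)
      (HyperplaneLib.comp_app_pullSec s f E x)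
  have hτ : ∀ j, e.hom.app ⊤ (ProjUP.pullSec s E' (τU j)) = τ j := fun j => by
    refine (congrArg (e.hom.app ⊤) ((map_sum
      (((Scheme.Modules.pullbackPushforwardAdjunction s).unit.app E').app ⊤).hom _ Finset.univ).trans
      (Finset.sum_congr rfl fun l _ => HyperplaneLib.pullSec_smul' s E' _ _))).trans ?_
    refine (map_sum (e.hom.app ⊤).hom _ Finset.univ).trans ?_
    refine Eq.trans (Finset.sum_congr rfl fun l _ => ?_) (b.sum_repr (τ j))
    refine (Scheme.Modules.Hom.app_smul e.hom _ _).trans ?_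
    rw [hw]
    show ((show Γ(X, ⊤) from Coh.toGlobal (X ↘ Spec (CommRingCat.of k)) (b.repr (τ j) l)) • _ : Γ(E, ⊤)) = _
    rw [he (b l)]
    exact congrArg (fun z : Γ(X, ⊤) => (z • b l : Γ(E, ⊤)))
      (ConcreteCategory.congr_hom (X.presheaf.map_id (op ⊤)) _).symm
  obtain ⟨e₁⟩ := nonempty_coker_pullback s τU
  obtain ⟨e₂⟩ := nonempty_coker_congr e _ τ hτ
  exact ⟨t, ht, ⟨e₁ ≪≫ e₂ ≪≫ eF⟩⟩

/-- Twisting a bounded family by a fixed sheaf. -/
theorem isBounded_tensor [IsLocallyNoetherian X] {L : X.Modules} (hL : PicF.IsInvertible L) {P : X.Modules → Prop}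
    (hb : Pic13.IsBounded k X P) :
    Pic13.IsBounded k X fun F => ∃ F', P F' ∧ Nonempty (CohB1.tensorMod F' L ≅ F) := by
  obtain ⟨T, q, h₁, h₂, G, hG, hmem⟩ := hb
  haveI := h₁
  let f := pullback.fst (X ↘ Spec (CommRingCat.of k)) q
  haveI : IsLocallyNoetherian (Pic13.prodK k X q) := LocallyOfFiniteType.isLocallyNoetherian f
  refine ⟨T, q, h₁, h₂, CohB1.tensorMod G ((Scheme.Modules.pullback f).obj L),
    AmpleVan.isCoh_tensor hG (AmpleVan.isCoh_invertible (PicClLib.isInvertible_pullback _ hL)),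
    fun F ⟨F', hF', ⟨e⟩⟩ => ?_⟩
  obtain ⟨t, ht, ⟨e'⟩⟩ := hmem F' hF'
  refine ⟨t, ht, ?_⟩
  rw [← cl_eq_iff] at *
  show PicF.pullCl (Pic13.sliceAt k X q t ht) (PicF.cl (CohB1.tensorMod G _)) = _
  rw [cl_tensor, PicMul.pullCl_mul, ← cl_eq_iff.2 ⟨e⟩, cl_tensor]
  refine congrArg₂ (· * ·) (cl_eq_iff.2 ⟨e'⟩) (cl_eq_iff.2 ⟨?_⟩)
  exact (Scheme.Modules.pullbackComp _ _).app L ≪≫
    (Scheme.Modules.pullbackCongr (sliceAt_fst (X := X) q t ht)).app L ≪≫ (Scheme.Modules.pullbackId X).app L

end Groth.Agent.Pic13Lib
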