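import Groth.Agent.Pic13Lib.NumTrivProj
import Groth.Agent.Pic13Lib.ChowTwist
import Groth.Agent.Lib.TwistSumInv
import Groth.Agent.QCoh.DevissageSum

/-!
# Euler characteristics of numerically trivial twists on proper schemes
-/

set_option autoImplicit false
set_option linter.style.haveILetI false
set_option linter.unusedSectionVars false
set_option backward.isDefEq.respectTransparency false
set_option backward.isDefEq.respectTransparency.types false
set_option maxHeartbeats 1000000

universe u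

open CategoryTheory CategoryTheory.Limits AlgebraicGeometry TopologicalSpace Opposite
open Groth.Agent.H23 Groth.Agent.H23.PicMul

attribute [local instance] PicMul.clMonoid

noncomputable section

namespace Groth.Agent.Pic13Lib.NumTriv

variable {k : Type u} [Field k] {X : Scheme.{u}} [X.Over (Spec (CommRingCat.of k))]
  [IsProper (X ↘ Spec (CommRingCat.of k))]

theorem chi_zero {M : X.Modules} (hM : IsZero M) : SurfPairing.χ k (PicF.cl M) = 0 := by
  rw [SurfPairing.χ_cl, Euler.euler_eq_sum k M 0 fun q _ => Euler.subsingleton_HH_of_isZero hM q, Finset.range_zero,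
    Finset.sum_empty]

theorem phi_zero (A : X.Modules) {M : X.Modules} (hM : IsZero M) : phi k (PicF.cl A) M = 0 := by
  rw [phi, ← cl_ten, chi_zero ((K0TensorInv.ten A).map_isZero hM), chi_zero hM, sub_zero]

theorem phi_iso (A : X.Modules) {M N : X.Modules} (e : Nonempty (M ≅ N)) :
    phi k (PicF.cl A) N = phi k (PicF.cl A) M := by
  simp only [phi, cl_eq_iff.2 e]

/-- Euler characteristics of sums of copies. -/
theorem chi_sigma {T : X.Modules} (hT : Coh.IsCoh T) {r : ℕ} (hc : Coh.IsCoh (∐ fun _ : Fin r => T)) :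
    SurfPairing.χ k (PicF.cl (∐ fun _ : Fin r => T)) = r * SurfPairing.χ k (PicF.cl T) := by
  obtain ⟨d, hd⟩ := Euler.exists_bound (k := k) (X := X)
  rw [SurfPairing.χ_cl, SurfPairing.χ_cl, Euler.euler_eq_sum k _ d (hd _ hc.1), Euler.euler_eq_sum k _ d (hd _ hT.1),
    Finset.mul_sum]
  refine Finset.sum_congr rfl fun q _ => ?_
  haveI := fun (_ : Fin r) => CurveCohLib.finite_HH (k := k) hT q
  rw [TwistSum.finrank_HH_sigma (k := k) (fun _ : Fin r => T) q, Finset.sum_const, Finset.card_univ, Fintype.card_fin]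
  push_cast [nsmul_eq_mul]
  ring

variable [IsAlgClosed k]

/-- Euler characteristics do not change under numerically trivial twists. -/
theorem phi_eq_zero {L : X.Modules} (hL : IsNT k L) {F : X.Modules} (hF : Coh.IsCoh F) :
    phi k (PicF.cl L) F = 0 := by
  classical
  haveI := CurveCohLib.isNoetherian_of_proper (k := k) (X := X)
  let P : X.Modules → Prop := fun M => phi k (PicF.cl L) M = 0
  have h23 : ∀ S : ShortComplex X.Modules, S.ShortExact → Coh.IsCoh S.X₁ → Coh.IsCoh S.X₂ → Coh.IsCoh S.X₃ →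
      (P S.X₁ → P S.X₂ → P S.X₃) ∧ (P S.X₁ → P S.X₃ → P S.X₂) ∧ (P S.X₂ → P S.X₃ → P S.X₁) := by
    intro S hS a b c
    have h := phi_add (k := k) hL.1 hS a b c
    simp only [P]
    refine ⟨fun h1 h2 => ?_, fun h1 h3 => ?_, fun h2 h3 => ?_⟩ <;> omega
  refine QCoh.devissage P (fun M N e h => (phi_iso L e).trans h) (fun M hM => phi_zero L hM) Set.univ
    (fun S hS a b c _ => (h23 S hS a b c).2.1) (fun ξ _ hsmall Z i _ _ hr => ?_)
    (fun S hS a b c _ => (h23 S hS a b c).2.2) hF (Set.subset_univ _)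
  letI : Z.Over (Spec (CommRingCat.of k)) := ⟨i ≫ (X ↘ Spec (CommRingCat.of k))⟩
  haveI : IsProper (Z ↘ Spec (CommRingCat.of k)) :=
    show IsProper (i ≫ (X ↘ Spec (CommRingCat.of k))) from inferInstance
  haveI := CurveCohLib.isNoetherian_of_proper (k := k) (X := Z)
  have hLZ := PicClLib.isInvertible_pullback i hL.1
  obtain ⟨N, X', π, p, M, G, hp, hπ, hpf, hM, hG, hGs, -, hχ, hχL⟩ := exists_devissage_twist (k := k) hLZ
  letI : X'.Over (Spec (CommRingCat.of k)) := ⟨π ≫ (Z ↘ Spec (CommRingCat.of k))⟩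
  haveI : IsProper (X' ↘ Spec (CommRingCat.of k)) :=
    show IsProper (π ≫ (Z ↘ Spec (CommRingCat.of k))) from inferInstance
  haveI : CompactSpace X' := QuasiCompact.compactSpace_of_compactSpace (X' ↘ Spec (CommRingCat.of k))
  have hA : CohB1.IsAmple ((Scheme.Modules.pullback p).obj (Twist.twistProjSpace N k 1)) :=
    AmpleVan.FiniteSurj.isAmple_pullback_of_isAffineHom p isAmple_twistProjSpace_one
  have hN : IsNT k ((Scheme.Modules.pullback π).obj ((Scheme.Modules.pullback i).obj L)) := by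
    refine ⟨PicClLib.isInvertible_pullback π hLZ, isNumEquivZero_of_numEq (PicClLib.isInvertible_pullback π hLZ) ?_⟩
    have h0 := numEq_structure hL.1 hL.2
    obtain ⟨e⟩ := PicClLib.nonempty_pullback_structureModule i
    obtain ⟨e'⟩ := PicClLib.nonempty_pullback_structureModule π
    have h1 := numEq_pullback (k := k) i rfl hL.1 InvX.isInvertible_structureModule h0
    have h2 := numEq_pullback (k := k) π rfl hLZ (PicClLib.isInvertible_pullback i InvX.isInvertible_structureModule) h1
    intro ξ' hξ'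
    rw [h2 ξ' hξ']
    exact CurveCohLib.euler_congr (k := k) (PicGrp.tensorModIso (Iso.refl _)
      ((Scheme.Modules.pullback π).mapIso e ≪≫ e'))
  have hGL : Curv2.euler k Z (CohB1.tensorMod G ((Scheme.Modules.pullback i).obj L)) = Curv2.euler k Z G :=
    hχL.trans ((euler_tensor_proj hA hN hM).trans hχ.symm)
  -- the direct image in `X`
  have hG' := QCoh.isCoh_push i hG
  have hPG : P ((Coh.push i).obj G) := by
    obtain ⟨e₂⟩ := AmpleVan.FiniteSurj.nonempty_push_twist i G hL.1
    have hGLc : Coh.IsCoh (CohB1.tensorMod G ((Scheme.Modules.pullback i).obj L)) :=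
      AmpleVan.isCoh_tensor hG (AmpleVan.isCoh_invertible hLZ)
    show phi k _ _ = 0
    rw [phi, ← cl_tensor, SurfPairing.χ_cl, SurfPairing.χ_cl, CurveCohLib.euler_congr (k := k) e₂,
      Pic13Lib.euler_push i rfl hGLc.1, Pic13Lib.euler_push i rfl hG.1, hGL, sub_self]
  have hξ : i (genericPoint Z) = ξ :=
    (inseparable_iff_closure_eq.2 ((QCoh.range_eq_closure i).symm.trans hr)).eq
  have hkill : ∀ (V : X.affineOpens) (a : Γ(X, V.1)), ξ ∉ X.basicOpen a →
      ∀ m : Γ((Coh.push i).obj G, V.1), a • m = 0 := fun V a hax m => by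
    refine (QCoh.pushforward_smul i V.1 a m).trans ?_
    have h0 : i.app V.1 a = 0 := by
      by_contra hne
      have h' := (QCoh.ne_zero_iff_mem_basicOpen (i.app V.1 a)).1 hne
      rw [← Scheme.preimage_basicOpen] at h'
      exact hax (hξ ▸ h')
    rw [h0]
    exact zero_smul Γ(Z, i ⁻¹ᵁ V.1) (show Γ(G, i ⁻¹ᵁ V.1) from m)
  have hmem : ξ ∈ CohB1.support ((Coh.push i).obj G) := by
    obtain ⟨U, hU, hξU⟩ := QCoh.exists_affine_mem (i (genericPoint Z))
    obtain ⟨m, hm⟩ := (QCoh.mem_support_iff hG.1 (hU.preimage i) hξU).1 (hGs.ge (Set.mem_univ (genericPoint Z)))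
    rw [← hξ]
    refine (QCoh.mem_support_iff hG'.1 hU hξU).2 ⟨m, fun f hf h0 => hm (i.app U f) ?_ ?_⟩
    · rw [← Scheme.preimage_basicOpen]; exact hf
    · exact (QCoh.pushforward_smul i U f m).symm.trans h0
  obtain ⟨r, hr0, hP⟩ := QCoh.exists_sum_structure P ξ (fun S hS a b c _ => h23 S hS a b c) hsmall hG'
    ((QCoh.support_push_subset i hG.1).trans hr.le) hmem hkill hPG i hr
  let O := (Coh.push i).obj (Coh.structureModule Z)
  have hO : Coh.IsCoh O := QCoh.isCoh_push_structure i
  let OL := (K0TensorInv.ten L).obj O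
  haveI := Abelian.hasFiniteBiproducts (C := X.Modules)
  let e : (⨁ fun _ : ULift.{u} (Fin r) => O) ≅ ∐ fun _ : Fin r => O :=
    biproduct.isoCoproduct _ ≪≫ Sigma.whiskerEquiv (f := fun _ : ULift.{u} (Fin r) => O) (g := fun _ : Fin r => O)
      Equiv.ulift fun _ => Iso.refl _
  have hbc : Coh.IsCoh (∐ fun _ : Fin r => O) := by
    have hb := QCoh.isCoh_biproduct (fun _ : ULift.{u} (Fin r) => O) fun _ => hO
    exact QCoh.isCoh_of_mono e.inv hb ((QCoh.isQCoh_iff_iso e.symm).2 hb.1)
  haveI := K0TensorInv.isIso_tenCoprod hL.1 (fun _ : ULift.{u} (Fin r) => O)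
  let eL : (K0TensorInv.ten L).obj (∐ fun _ : Fin r => O) ≅ ∐ fun _ : Fin r => OL :=
    (K0TensorInv.ten L).mapIso (Sigma.whiskerEquiv (f := fun _ : Fin r => O) (g := fun _ : ULift.{u} (Fin r) => O)
      Equiv.ulift.symm fun _ => Iso.refl _) ≪≫
      (asIso (Sigma.desc fun j => (K0TensorInv.ten L).map (Sigma.ι (fun _ : ULift.{u} (Fin r) => O) j))).symm ≪≫
      Sigma.whiskerEquiv (f := fun _ : ULift.{u} (Fin r) => OL) (g := fun _ : Fin r => OL) Equiv.ulift fun _ => Iso.refl _
  have hbL : Coh.IsCoh (∐ fun _ : Fin r => OL) := by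
    have hb := K0TensorInv.isCoh_ten hL.1 hbc
    exact QCoh.isCoh_of_mono eL.inv hb ((QCoh.isQCoh_iff_iso eL.symm).2 hb.1)
  have key : phi k (PicF.cl L) (⨁ fun _ : ULift.{u} (Fin r) => O) = r * phi k (PicF.cl L) O := by
    rw [← phi_iso L ⟨e⟩, phi, phi, ← cl_ten, cl_eq_iff.2 ⟨eL⟩, chi_sigma hO hbc,
      chi_sigma (K0TensorInv.isCoh_ten hL.1 hO) hbL, cl_ten]
    ring
  have h0 : (r : ℤ) * phi k (PicF.cl L) O = 0 := key.symm.trans hP
  exact (mul_eq_zero.1 h0).resolve_left (by omega)

end Groth.Agent.Pic13Lib.NumTriv
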