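import Groth.Agent.Pic13Lib.AlgEqEuler
import Groth.Agent.S1455
import Groth.Agent.FlatG.FlatC

/-!
# Finitely many Euler characteristics among the fibres of a coherent module
-/

set_option autoImplicit false
set_option linter.style.haveILetI false
set_option linter.unusedSectionVars false
set_option backward.isDefEq.respectTransparency false
set_option backward.isDefEq.respectTransparency.types false

universe u

open CategoryTheory CategoryTheory.Limits AlgebraicGeometry TopologicalSpace

noncomputable section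

namespace Groth.Agent.Pic13Lib

/-- A field valued point landing in an immersed subscheme factors through it. -/
theorem exists_lift_preimmersion {k : Type u} [Field k] {Z T : Scheme.{u}} (ι : Z ⟶ T) [IsPreimmersion ι]
    (t : Spec (CommRingCat.of k) ⟶ T) (z : Z) (hz : ι z = t (IsLocalRing.closedPoint k)) :
    ∃ tz : Spec (CommRingCat.of k) ⟶ Z, tz ≫ ι = t := by
  obtain ⟨ψ, hψ⟩ : ∃ ψ : T.residueField (t (IsLocalRing.closedPoint k)) ⟶ CommRingCat.of k,
      Spec.map ψ ≫ T.fromSpecResidueField (t (IsLocalRing.closedPoint k)) = t :=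
    ⟨_, Scheme.descResidueField_stalkClosedPointTo_fromSpecResidueField k T t⟩
  haveI : IsIso (ι.residueFieldMap z) := by
    refine (ConcreteCategory.isIso_iff_bijective _).2 ⟨(ι.residueFieldMap z).hom.injective, fun y => ?_⟩
    obtain ⟨a, rfl⟩ := Z.residue_surjective z y
    obtain ⟨b, rfl⟩ := ι.stalkMap_surjective z a
    exact ⟨T.residue (ι z) b, congr($(Scheme.residue_residueFieldMap ι z) b)⟩
  refine ⟨Spec.map (inv (ι.residueFieldMap z) ≫ (T.residueFieldCongr hz).hom ≫ ψ) ≫ Z.fromSpecResidueField z, ?_⟩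
  rw [Category.assoc, ← Scheme.Hom.SpecMap_residueFieldMap_fromSpecResidueField, ← Spec.map_comp_assoc,
    IsIso.hom_inv_id_assoc, Spec.map_comp, Category.assoc, Scheme.residueFieldCongr_fromSpecResidueField, hψ]

/-- A family over a scheme of finite type is flat over finitely many strata containing all the points. -/
theorem exists_flat_strata {k : Type u} [Field k] {X : Scheme.{u}} [X.Over (Spec (CommRingCat.of k))]
    [IsProper (X ↘ Spec (CommRingCat.of k))] {T : Scheme.{u}} (q : T ⟶ Spec (CommRingCat.of k))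
    [LocallyOfFiniteType q] [QuasiCompact q] {G : (Pic13.prodK k X q).Modules} (hG : Coh.IsCoh G) :
    ∃ (N : ℕ) (Z : Fin N → Scheme.{u}) (r : ∀ l, Z l ⟶ Spec (CommRingCat.of k))
      (G' : ∀ l, (Pic13.prodK k X (r l)).Modules),
      (∀ l, LocallyOfFiniteType (r l) ∧ QuasiCompact (r l) ∧ Coh.IsCoh (G' l) ∧
        FlatMod.IsFlatOver (pullback.snd (X ↘ Spec (CommRingCat.of k)) (r l)) (G' l)) ∧
      ∀ (t : Spec (CommRingCat.of k) ⟶ T) (ht : t ≫ q = 𝟙 _), ∃ (l : Fin N) (tz : Spec (CommRingCat.of k) ⟶ Z l)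
        (htz : tz ≫ r l = 𝟙 _),
        Nonempty (Pic13.fibreMod k X (r l) tz htz (G' l) ≅ Pic13.fibreMod k X q t ht G) := by
  haveI : IsLocallyNoetherian T := LocallyOfFiniteType.isLocallyNoetherian q
  haveI : CompactSpace T := QuasiCompact.compactSpace_of_compactSpace q
  haveI : IsNoetherian T := ⟨⟩
  let f : Pic13.prodK k X q ⟶ T := pullback.snd (X ↘ Spec (CommRingCat.of k)) q
  haveI : IsProper f := (inferInstance : IsProper (pullback.snd _ _))
  haveI : IsLocallyNoetherian (Pic13.prodK k X q) := LocallyOfFiniteType.isLocallyNoetherian f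
  haveI : LocallyOfFinitePresentation (X ↘ Spec (CommRingCat.of k)) :=
    AlgStLib.locallyOfFinitePresentation_of_isLocallyNoetherian _ inferInstance
  haveI : LocallyOfFinitePresentation f := MorphismProperty.pullback_snd _ _ inferInstance
  obtain ⟨n, I, -, hlast, h0, -, hflat⟩ := S1455.result f G hG.1 ((QCoh.isCoh_iff_isFP).1 hG)
  let j : ∀ i : Fin n, ((I i.castSucc).subschemeι ⁻¹ᵁ (I i.succ).support.compl).toScheme ⟶ T := fun i =>
    ((I i.castSucc).subschemeι ⁻¹ᵁ (I i.succ).support.compl).ι ≫ (I i.castSucc).subschemeι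
  let m : ∀ i, Pic13.prodK k X (j i ≫ q) ⟶ Pic13.prodK k X q := fun i =>
    pullback.lift (pullback.fst _ _) (pullback.snd _ _ ≫ j i) (by rw [Category.assoc]; exact pullback.condition)
  let G' : ∀ i, (Pic13.prodK k X (j i ≫ q)).Modules := fun i => (Scheme.Modules.pullback (m i)).obj G
  have hsq : ∀ i, IsPullback (m i) (pullback.snd _ _) f (j i) := fun i => by
    refine IsPullback.of_right ?_ (pullback.lift_snd _ _ _) (IsPullback.of_hasPullback _ _)
    rw [pullback.lift_fst]
    exact IsPullback.of_hasPullback _ _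
  have hc : ∀ i : Fin n, CompactSpace ↥((I i.castSucc).subschemeι ⁻¹ᵁ (I i.succ).support.compl) := fun i => by
    haveI : NoetherianSpace ↥((I i.castSucc).subscheme) :=
      ((I i.castSucc).subschemeι.isClosedEmbedding.isInducing).noetherianSpace
    exact isCompact_iff_compactSpace.1 (NoetherianSpace.isCompact _)
  refine ⟨n, _, fun i => j i ≫ q, G', fun i => ⟨inferInstance, ?_, ?_,
    (FlatG.flatC_iff_isPullback hG.1 (hsq i)).2 (hflat i)⟩, fun t ht => ?_⟩
  · haveI : CompactSpace ↥(((I i.castSucc).subschemeι ⁻¹ᵁ (I i.succ).support.compl).toScheme) := hc i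
    exact (quasiCompact_iff_compactSpace (j i ≫ q)).2 inferInstance
  · haveI : IsLocallyNoetherian ((I i.castSucc).subschemeι ⁻¹ᵁ (I i.succ).support.compl).toScheme :=
      LocallyOfFiniteType.isLocallyNoetherian (j i)
    haveI : IsProper (pullback.snd (X ↘ Spec (CommRingCat.of k)) (j i ≫ q)) :=
      MorphismProperty.pullback_snd _ _ inferInstance
    haveI : IsLocallyNoetherian (Pic13.prodK k X (j i ≫ q)) :=
      LocallyOfFiniteType.isLocallyNoetherian (pullback.snd (X ↘ Spec (CommRingCat.of k)) (j i ≫ q))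
    exact ZClosLib.isCoh_pullback (m i) hG
  obtain ⟨i, hi, hi'⟩ : ∃ i : Fin n, t (IsLocalRing.closedPoint k) ∈ ((I i.castSucc).support : Set T) ∧
      t (IsLocalRing.closedPoint k) ∉ ((I i.succ).support : Set T) := by
    by_contra hcon
    have hall : ∀ l, t (IsLocalRing.closedPoint k) ∈ ((I l).support : Set T) := fun l => by
      induction l using Fin.induction with
      | zero => rw [h0]; trivial
      | succ l ih => exact by_contra fun h => hcon ⟨l, ih, h⟩
    have h := hall (Fin.last n)
    rw [hlast] at h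
    simp at h
  obtain ⟨w, hw⟩ : t (IsLocalRing.closedPoint k) ∈ Set.range (I i.castSucc).subschemeι := by
    rw [Scheme.IdealSheafData.range_subschemeι]; exact hi
  have hwU : w ∈ (I i.castSucc).subschemeι ⁻¹ᵁ (I i.succ).support.compl := by
    show (I i.castSucc).subschemeι w ∈ ((I i.succ).support.compl : Set T)
    rw [hw]
    exact hi'
  obtain ⟨tz, htz⟩ := exists_lift_preimmersion (j i) t ⟨w, hwU⟩ hw
  have htq : tz ≫ j i ≫ q = 𝟙 _ := by rw [reassoc_of% htz, ht]
  have hm : Pic13.sliceAt k X (j i ≫ q) tz htq ≫ m i = Pic13.sliceAt k X q t ht := by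
    refine pullback.hom_ext ?_ ?_
    · rw [Category.assoc, pullback.lift_fst, sliceAt_fst, sliceAt_fst]
    · rw [Category.assoc, pullback.lift_snd, ← Category.assoc, sliceAt_snd, sliceAt_snd, Category.assoc, htz]
  exact ⟨i, tz, htq, ⟨(Scheme.Modules.pullbackComp (Pic13.sliceAt k X (j i ≫ q) tz htq) (m i)).app G ≪≫
    (Scheme.Modules.pullbackCongr hm).app G⟩⟩

/-- The fibres of a coherent module in a family over a scheme of finite type have finitely many Euler
characteristics. -/
theorem finite_euler_fibres {k : Type u} [Field k] {X : Scheme.{u}} [X.Over (Spec (CommRingCat.of k))]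
    [IsProper (X ↘ Spec (CommRingCat.of k))] {T : Scheme.{u}} (q : T ⟶ Spec (CommRingCat.of k))
    [LocallyOfFiniteType q] [QuasiCompact q] {G : (Pic13.prodK k X q).Modules} (hG : Coh.IsCoh G) :
    ∃ S : Set ℤ, S.Finite ∧ ∀ (t : Spec (CommRingCat.of k) ⟶ T) (ht : t ≫ q = 𝟙 _),
      Curv2.euler k X (Pic13.fibreMod k X q t ht G) ∈ S := by
  obtain ⟨N, Z, r, G', hr, hcov⟩ := exists_flat_strata q hG
  haveI : LocallyOfFinitePresentation (X ↘ Spec (CommRingCat.of k)) :=
    AlgStLib.locallyOfFinitePresentation_of_isLocallyNoetherian _ inferInstance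
  have hlc : ∀ l, IsLocallyConstant fun z => PerfAux.eulerChar (pullback.snd (X ↘ Spec (CommRingCat.of k)) (r l)) (G' l) z :=
    fun l => by
      haveI := (hr l).1
      haveI : IsLocallyNoetherian (Z l) := LocallyOfFiniteType.isLocallyNoetherian (r l)
      haveI : IsProper (pullback.snd (X ↘ Spec (CommRingCat.of k)) (r l)) :=
        MorphismProperty.pullback_snd _ _ inferInstance
      haveI : LocallyOfFinitePresentation (pullback.snd (X ↘ Spec (CommRingCat.of k)) (r l)) :=
        MorphismProperty.pullback_snd _ _ inferInstance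
      haveI : IsLocallyNoetherian (Pic13.prodK k X (r l)) :=
        LocallyOfFiniteType.isLocallyNoetherian (pullback.snd (X ↘ Spec (CommRingCat.of k)) (r l))
      exact S1026.result _ (G' l) ((QCoh.isCoh_iff_isFP).1 (hr l).2.2.1) (hr l).2.2.2
  refine ⟨⋃ l, Set.range fun z => PerfAux.eulerChar (pullback.snd (X ↘ Spec (CommRingCat.of k)) (r l)) (G' l) z,
    Set.finite_iUnion fun l => ?_, fun t ht => ?_⟩
  · haveI := (hr l).2.1
    haveI : CompactSpace ↥(Z l) := QuasiCompact.compactSpace_of_compactSpace (r l)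
    exact (hlc l).range_finite
  obtain ⟨l, tz, htz, ⟨e⟩⟩ := hcov t ht
  refine Set.mem_iUnion.2 ⟨l, tz (IsLocalRing.closedPoint k), ?_⟩
  show PerfAux.eulerChar _ (G' l) _ = _
  rw [eulerChar_point (r l) tz htz (G' l) (hr l).2.2.1.1]
  exact CurveCohLib.euler_congr (k := k) e

end Groth.Agent.Pic13Lib
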