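import Groth.Agent.Pic13Lib.MumfordMain
import Groth.Agent.Pic13Lib.BoundedReg
import Groth.Agent.HilbPoly.HNChain
import Mathlib.Algebra.Group.ForwardDiff

/-!
# Uniform regularity for a given Hilbert function
-/

set_option autoImplicit false
set_option linter.style.haveILetI false
set_option linter.unusedSectionVars false
set_option backward.isDefEq.respectTransparency false
set_option backward.isDefEq.respectTransparency.types false
set_option maxHeartbeats 1000000

universe u

open CategoryTheory CategoryTheory.Limits AlgebraicGeometry TopologicalSpace Opposite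

noncomputable section

namespace Groth.Agent.Pic13Lib

/-- The binomial coefficients of a function on the integers. -/
def coeffs (n : ℕ) (f : ℤ → ℤ) : Fin (n + 1) → ℤ := fun j => (fwdDiff (1 : ℤ))^[(j : ℕ)] f 0

theorem eq_sum_coeffs (n : ℕ) (f : ℤ → ℤ) (Q : Polynomial ℚ) (hQ : Q.natDegree ≤ n)
    (h : ∀ t : ℤ, (f t : ℚ) = Q.eval (t : ℚ)) (r : ℤ) :
    f r = ∑ j : Fin (n + 1), coeffs n f j * Ring.choose r (j : ℕ) := by
  let R : Polynomial ℚ := ∑ j : Fin (n + 1), Polynomial.C ((coeffs n f j : ℚ) / ((j : ℕ).factorial : ℚ)) * descPochhammer ℚ j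
  have hR : ∀ t : ℤ, R.eval (t : ℚ) = ((∑ j : Fin (n + 1), coeffs n f j * Ring.choose t (j : ℕ) : ℤ) : ℚ) := fun t => by
    rw [Polynomial.eval_finsetSum, Int.cast_sum]
    refine Finset.sum_congr rfl fun j _ => ?_
    rw [Polynomial.eval_mul, Polynomial.eval_C, Int.cast_mul, show ((Ring.choose t (j : ℕ) : ℤ) : ℚ) = Ring.choose (t : ℚ) (j : ℕ) from
      Ring.map_choose (Int.castRingHom ℚ) t j, Ring.choose_eq_smul]
    rw [← descPochhammer_map (Int.castRingHom ℚ) (j : ℕ), Polynomial.eval_map,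
      show (descPochhammer ℤ (j : ℕ)).smeval (t : ℚ) = Polynomial.eval₂ (Int.castRingHom ℚ) (t : ℚ) (descPochhammer ℤ (j : ℕ)) from
        (Polynomial.eval₂_smulOneHom_eq_smeval ℤ (descPochhammer ℤ (j : ℕ)) (t : ℚ)).symm.trans
          (congrArg (fun φ => Polynomial.eval₂ φ (t : ℚ) (descPochhammer ℤ (j : ℕ))) (RingHom.ext_int _ _))]
    rw [smul_eq_mul]
    ring
  have hdeg : R.natDegree ≤ n := by
    refine Polynomial.natDegree_sum_le_of_forall_le _ _ fun j _ => ?_
    refine (Polynomial.natDegree_C_mul_le _ _).trans ?_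
    rw [descPochhammer_natDegree]
    exact Nat.le_of_lt_succ j.2
  have hEq : Q = R := by
    refine Polynomial.eq_of_natDegree_lt_card_of_eval_eq _ _ (f := fun m : Fin (n + 1) => (((m : ℕ) : ℤ) : ℚ))
      (fun a b hab => Fin.ext (by simpa using hab)) (fun m => ?_)
      (by rw [Fintype.card_fin]; exact Nat.lt_succ_of_le (max_le hQ hdeg))
    rw [← h, hR, Int.cast_inj]
    have h1 := shift_eq_sum_fwdDiff_iter (h := (1 : ℤ)) f (m : ℕ) 0
    rw [zero_add, nsmul_eq_mul, mul_one] at h1
    simp only [coeffs]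
    rw [Fin.sum_univ_eq_sum_range (fun j => (fwdDiff (1 : ℤ))^[j] f 0 * Ring.choose ((m : ℕ) : ℤ) j) (n + 1)]
    refine h1.trans (Eq.trans ?_ (Finset.sum_subset (Finset.range_subset_range.2 m.2) fun j _ hj => ?_))
    · refine Finset.sum_congr rfl fun j _ => ?_
      rw [Ring.choose_natCast, nsmul_eq_mul, mul_comm]
    · rw [Ring.choose_natCast, Nat.choose_eq_zero_of_lt (by simpa using hj), Nat.cast_zero, mul_zero]
  exact Int.cast_inj.1 ((h r).trans ((congrArg (Polynomial.eval (r : ℚ)) hEq).trans (hR r)))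

/-- The twists of a coherent sheaf on projective space have polynomial Euler characteristics. -/
theorem exists_poly_pn (k : Type u) [Field k] (n : ℕ) {F : (CohB1.ProjSpace n k).Modules} (hF : Coh.IsCoh F) :
    ∃ P : Polynomial ℚ, P.natDegree ≤ n ∧ ∀ d : ℤ, (FGA.eulerCharLE k (CohB1.ProjSpace n k)
      (CohB1.tensorMod F (Twist.twistProjSpace n k d)) n : ℚ) = P.eval (d : ℚ) := by
  haveI : IsProper (CohB1.ProjSpace n k ↘ Spec (CommRingCat.of k)) := PnCoh.Chow.isProper_toSpec n _
  obtain ⟨P, hdeg, hP⟩ := exists_poly_twistOn (𝟙 (CohB1.ProjSpace n k)) (Category.id_comp _) hF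
  refine ⟨P, hdeg, fun d => ?_⟩
  rw [← hP d]
  refine congrArg Int.cast (Mumford.euler_iso ?_)
  refine Classical.choice (H23.PicMul.cl_eq_iff.1 ?_)
  letI := H23.PicMul.clMonoid (CohB1.ProjSpace n k)
  show PicF.cl (CohB1.tensorMod F _) = PicF.cl (CohB1.tensorMod F _)
  rw [H23.PicMul.cl_tensor, H23.PicMul.cl_tensor,
    H23.PicMul.cl_eq_iff.2 ⟨(Scheme.Modules.pullbackId (CohB1.ProjSpace n k)).app (Twist.twistProjSpace n k d)⟩]
  rfl

/-- Subsheaves of a free sheaf with a given Hilbert function are uniformly regular. -/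
theorem exists_regularity (n p : ℕ) (f : ℤ → ℤ) :
    ∃ m : ℤ, ∀ (k : Type u) [Field k] (F : (CohB1.ProjSpace n k).Modules) (ι : F ⟶ FlatMod.freeMod (CohB1.ProjSpace n k) p)
      [Mono ι], Coh.IsCoh F →
      (∀ t : ℤ, FGA.eulerCharLE k (CohB1.ProjSpace n k) (CohB1.tensorMod F (Twist.twistProjSpace n k t)) n = f t) →
      ∀ i : ℕ, 1 ≤ i → Subsingleton (Coh.HH (CohB1.ProjSpace n k) (CohB1.tensorMod F (Twist.twistProjSpace n k (m - i))) i) := by
  refine ⟨MvPolynomial.eval (coeffs n f) (Mumford.bound p n), fun k _ F ι _ hF h i hi => ?_⟩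
  refine Mumford.subsingleton_bound p n k F hF ι (coeffs n f) (fun r => ?_) i hi
  obtain ⟨P, hdeg, hP⟩ := exists_poly_pn k n hF
  exact (h r).trans (eq_sum_coeffs n f P hdeg (fun t => by rw [← h t]; exact hP t) r)

end Groth.Agent.Pic13Lib
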