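import Groth.Agent.Pic13Lib.MumfordStep
import Groth.Agent.Pic13Lib.PnFieldExt
import Mathlib.FieldTheory.IsAlgClosed.AlgebraicClosure

/-!
# Mumford's uniform regularity bound
-/

set_option autoImplicit false
set_option linter.style.haveILetI false
set_option linter.unusedSectionVars false
set_option backward.isDefEq.respectTransparency false
set_option backward.isDefEq.respectTransparency.types false
set_option maxHeartbeats 1000000

universe u

open CategoryTheory CategoryTheory.Limits AlgebraicGeometry TopologicalSpace Opposite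

noncomputable section

namespace Groth.Agent.Pic13Lib.Mumford

/-- Regularity over an infinite field. -/
theorem isMRegular_bound (k : Type u) [Field k] [Infinite k] (p : ℕ) : ∀ (n : ℕ) (F : (CohB1.ProjSpace n k).Modules),
    Coh.IsCoh F → (∃ ι : F ⟶ FlatMod.freeMod (CohB1.ProjSpace n k) p, Mono ι) → ∀ a, HasCoeffs n F a →
      Curv2.IsMRegular k n F (MvPolynomial.eval a (bound p n)) := by
  intro n
  induction n with
  | zero => exact fun F _ _ a _ q hq hqn => absurd hqn (by omega)
  | succ n ih =>
    rintro F hF ⟨ι, hι⟩ a ha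
    rw [eval_bound_succ]
    exact isMRegular_step n p (fun b => MvPolynomial.eval b (bound p n)) ih F hF ι a ha

/-- The vanishing at Mumford's bound, over any field. -/
theorem subsingleton_bound (p n : ℕ) (k : Type u) [Field k] (F : (CohB1.ProjSpace n k).Modules) (hF : Coh.IsCoh F)
    (ι : F ⟶ FlatMod.freeMod (CohB1.ProjSpace n k) p) [Mono ι] (a : Fin (n + 1) → ℤ) (ha : HasCoeffs n F a)
    (i : ℕ) (hi : 1 ≤ i) :
    Subsingleton (Coh.HH (CohB1.ProjSpace n k)
      (CohB1.tensorMod F (Twist.twistProjSpace n k (MvPolynomial.eval a (bound p n) - i))) i) := by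
  rcases Nat.lt_or_ge n i with hin | hin
  · exact ProjRegular.subsingleton_HH_high (k := k) (n := n) hF _ i hin
  let K := AlgebraicClosure k
  obtain ⟨φ, hsq, hφ⟩ := exists_pn_map k K n
  haveI : Flat φ := MorphismProperty.of_isPullback hsq.flip
    (HasRingHomProperty.Spec_iff.2 (RingHom.flat_algebraMap_iff.2 inferInstance))
  haveI := isNoetherian_pn (k := k) n
  haveI := isNoetherian_pn (k := K) n
  have hfree : Coh.IsQCoh (FlatMod.freeMod (CohB1.ProjSpace n k) p) := QCoh16.isQCoh_free p
  haveI := LimModLib.mono_pullback_of_flat φ hF.1 hfree ι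
  haveI : (Scheme.Modules.pullback φ).IsLeftAdjoint := (Scheme.Modules.pullbackPushforwardAdjunction φ).isLeftAdjoint
  haveI : PreservesColimitsOfSize.{0, 0} (Scheme.Modules.pullback φ) := inferInstance
  let eF : (Scheme.Modules.pullback φ).obj (FlatMod.freeMod (CohB1.ProjSpace n k) p) ≅
      FlatMod.freeMod (CohB1.ProjSpace n K) p :=
    PreservesCoproduct.iso (Scheme.Modules.pullback φ) _ ≪≫ Sigma.mapIso fun _ => SeesawX.unitIso φ
  have hFK : Coh.IsCoh ((Scheme.Modules.pullback φ).obj F) := ZClosLib.isCoh_pullback φ hF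
  have hK : HasCoeffs n ((Scheme.Modules.pullback φ).obj F) a := fun r => by
    obtain ⟨e⟩ := nonempty_pn_twist hφ F r
    rw [← euler_iso e, ← ha r]
    exact Finset.sum_congr rfl fun j _ => by rw [(pn_hh hsq (ProjRegular.isCoh_twistBy hF r).1 j).1]
  have h := isMRegular_bound K p n _ hFK ⟨(Scheme.Modules.pullback φ).map ι ≫ eF.hom, mono_comp _ _⟩ a hK i hi hin
  obtain ⟨e⟩ := nonempty_pn_twist hφ F (MvPolynomial.eval a (bound p n) - i)
  exact (pn_hh hsq (ProjRegular.isCoh_twistBy hF _).1 i).2 (QCoh.subsingleton_HH_of_iso e.symm i h)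

end Groth.Agent.Pic13Lib.Mumford
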