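import Groth.Agent.Pic13Lib.HilbCoeff

/-!
# Kernels of quotients of free sheaves are uniformly regular
-/

set_option autoImplicit false
set_option linter.style.haveILetI false
set_option linter.unusedSectionVars false
set_option backward.isDefEq.respectTransparency false
set_option backward.isDefEq.respectTransparency.types false
set_option maxHeartbeats 1000000

universe u

open CategoryTheory CategoryTheory.Limits AlgebraicGeometry TopologicalSpace Opposite
open Groth.Agent.RegEpi

noncomputable section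

namespace Groth.Agent.Pic13Lib

theorem euler_free {k : Type u} [Field k] (n p : ℕ) (t : ℤ) :
    FGA.eulerCharLE k (CohB1.ProjSpace (n + 1) k)
      ((twF (k := k) (n := n + 1) t).obj (FlatMod.freeMod (Proj (CohB1.polyGrading (n + 1) k)) p)) (n + 1) =
      (p : ℤ) * Ring.choose (t + ((n + 1 : ℕ) : ℤ)) (n + 1) := by
  obtain ⟨e⟩ := twF_sigma_unit_iso (k := k) (n := n + 1) p t
  have h1 : FGA.eulerCharLE k (CohB1.ProjSpace (n + 1) k)
      ((twF (k := k) (n := n + 1) t).obj (FlatMod.freeMod (Proj (CohB1.polyGrading (n + 1) k)) p)) (n + 1) =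
      FGA.eulerCharLE k (CohB1.ProjSpace (n + 1) k) (∐ fun _ : Fin p => Twist.twistProjSpace (n + 1) k t) (n + 1) :=
    Mumford.euler_iso (k := k) (n := n + 1) e
  refine h1.trans ?_
  rw [← S4466.result k (n + 1) (Nat.succ_pos n) t, Finset.mul_sum]
  haveI := Mumford.isNoetherian_pn (k := k) (n + 1)
  haveI hP : IsNoetherian (Proj (CohB1.polyGrading (n + 1) k)) := Proj16.isNoetherian_proj _
  refine Finset.sum_congr rfl fun q _ => ?_
  rw [@TwistSum.finrank_HH_sigma k _ (CohB1.ProjSpace (n + 1) k) _ p (fun _ => Twist.twistProjSpace (n + 1) k t) q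
    (fun _ => PnCoh.Finite.projSpace_finite_HH (n + 1) k _ (CurveDeg.isCoh_of_isInvertible
      (PnCoh.Finite.isInvertible_twist (ProjRegular.coords k (n + 1)) ProjRegular.coords_mem ProjRegular.coords_cover t)) q),
    Finset.sum_const, Finset.card_univ, Fintype.card_fin, smul_eq_mul, Nat.cast_mul]
  ring

/-- The Euler characteristics of the kernel of a quotient of a free sheaf. -/
theorem euler_kernel {k : Type u} [Field k] (n p : ℕ) {F : (CohB1.ProjSpace (n + 1) k).Modules}
    (φ : FlatMod.freeMod (CohB1.ProjSpace (n + 1) k) p ⟶ F) [Epi φ] (hF : Coh.IsCoh F) (t : ℤ) :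
    FGA.eulerCharLE k (CohB1.ProjSpace (n + 1) k) (CohB1.tensorMod (kernel φ) (Twist.twistProjSpace (n + 1) k t)) (n + 1) =
      (p : ℤ) * Ring.choose (t + ((n + 1 : ℕ) : ℤ)) (n + 1) -
        FGA.eulerCharLE k (CohB1.ProjSpace (n + 1) k) (CohB1.tensorMod F (Twist.twistProjSpace (n + 1) k t)) (n + 1) := by
  haveI := Mumford.isNoetherian_pn (k := k) (n + 1)
  haveI hP : IsNoetherian (Proj (CohB1.polyGrading (n + 1) k)) := Proj16.isNoetherian_proj _
  let S : ShortComplex (Proj (CohB1.polyGrading (n + 1) k)).Modules :=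
    ShortComplex.mk (kernel.ι φ) φ (kernel.condition φ)
  have hS : S.ShortExact := { exact := ShortComplex.exact_of_f_is_kernel _ (kernelIsKernel φ) }
  have hfree : Coh.IsCoh (FlatMod.freeMod (Proj (CohB1.polyGrading (n + 1) k)) p) := Syzygy.isCoh_sigma_O p
  have hK : Coh.IsCoh (kernel φ) := QCoh.isCoh_kernel hfree hF φ
  have hex := RegDescent.twSeq_exact (ProjRegular.coords k (n + 1)) ProjRegular.coords_mem ProjRegular.coords_cover hS t
  have hadd := Mumford.euler_ses (k := k) (n := n + 1) hex (ProjRegular.isCoh_twistBy hK t)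
    (ProjRegular.isCoh_twistBy hfree t) (ProjRegular.isCoh_twistBy hF t)
  rw [← euler_free (k := k) n p t]
  exact eq_sub_of_add_eq hadd.symm

/-- Kernels of quotients of free sheaves with a given Hilbert function are uniformly regular. -/
theorem exists_kernel_regularity (n p : ℕ) (f : ℤ → ℤ) :
    ∃ m : ℤ, ∀ (k : Type u) [Field k] (F : (CohB1.ProjSpace n k).Modules) (φ : FlatMod.freeMod (CohB1.ProjSpace n k) p ⟶ F),
      Coh.IsCoh F → Epi φ →
      (∀ t : ℤ, FGA.eulerCharLE k (CohB1.ProjSpace n k) (CohB1.tensorMod F (Twist.twistProjSpace n k t)) n = f t) →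
      Curv2.IsMRegular k n (kernel φ) m := by
  cases n with
  | zero => exact ⟨0, fun k _ F φ _ _ _ i hi hin => absurd hin (by omega)⟩
  | succ n =>
    obtain ⟨m, hm⟩ := exists_regularity (n + 1) p (fun t => (p : ℤ) * Ring.choose (t + ((n + 1 : ℕ) : ℤ)) (n + 1) - f t)
    refine ⟨m, fun k _ F φ hF hφ h i hi _ => ?_⟩
    haveI := hφ
    haveI := Mumford.isNoetherian_pn (k := k) (n + 1)
    haveI hP : IsNoetherian (Proj (CohB1.polyGrading (n + 1) k)) := Proj16.isNoetherian_proj _
    refine hm k (kernel φ) (kernel.ι φ) (QCoh.isCoh_kernel (Syzygy.isCoh_sigma_O p) hF φ) (fun t => ?_) i hi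
    rw [euler_kernel n p φ hF t, h t]

end Groth.Agent.Pic13Lib
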