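import Groth.Agent.Lib.RegEpiPn
import Groth.Agent.Lib.SyzygyPn
import Groth.Agent.Pic13Lib.CokerFam
import Groth.Agent.PnCoh.Chow.Proper
import Groth.Agent.S0002

/-!
# A regular sheaf is presented by linear forms, with bounded numbers of generators and relations
-/

set_option autoImplicit false
set_option linter.style.haveILetI false
set_option linter.unusedSectionVars false
set_option backward.isDefEq.respectTransparency false
set_option backward.isDefEq.respectTransparency.types false
set_option maxHeartbeats 1000000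

universe u

open CategoryTheory CategoryTheory.Limits AlgebraicGeometry TopologicalSpace Opposite
open Groth.Agent.PnCoh.Finite Groth.Agent.ProjRegular Groth.Agent.RegEpi

noncomputable section

namespace Groth.Agent.Pic13Lib

variable {k : Type u} [Field k]

/-- Finitely many sections spanning `H⁰`, their number prescribed. -/
theorem exists_sigma_hom_le {X : Scheme.{u}} [X.Over (Spec (CommRingCat.of k))] (G : X.Modules)
    [Module.Finite k (Coh.HH X G 0)] {N : ℕ} (hN : Module.finrank k (Coh.HH X G 0) ≤ N) :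
    ∃ ψ : FlatMod.freeMod X N ⟶ G,
      Function.Surjective (Canon.HHlin k ψ 0) ∧ (Curv2.IsGloballyGenerated G → Epi ψ) := by
  let e := LinearEquiv.ofBijective _ (evalOneLin_bijective k G)
  haveI : Module.Finite k (Coh.structureModule X ⟶ G) := Module.Finite.equiv e.symm
  let w := Module.finBasis k (Coh.structureModule X ⟶ G)
  have hrk : Module.finrank k (Coh.structureModule X ⟶ G) ≤ N := e.finrank_eq.le.trans hN
  let v : Fin N → (Coh.structureModule X ⟶ G) := fun j => if h : (j : ℕ) < _ then w ⟨j, h⟩ else 0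
  have hspan : ∀ φ : Coh.structureModule X ⟶ G, φ ∈ Submodule.span k (Set.range v) := fun φ => by
    refine Submodule.span_mono ?_ (w.span_eq.ge (Submodule.mem_top (x := φ)))
    rintro _ ⟨i, rfl⟩
    exact ⟨⟨i, i.2.trans_le hrk⟩, dif_pos i.2⟩
  let ψ : FlatMod.freeMod X N ⟶ G := Sigma.desc v
  refine ⟨ψ, fun x => ?_, fun hG => ?_⟩
  · obtain ⟨φ, rfl⟩ := (evalOneLin_bijective k G).2 x
    induction hspan φ using Submodule.span_induction with
    | mem y hy =>
      obtain ⟨a, rfl⟩ := hy
      refine ⟨Canon.HHlin k (Sigma.ι (fun _ : Fin N => Coh.structureModule X) a) 0 (oneClass X), ?_⟩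
      rw [PnDual.HHlin_comp, Sigma.ι_desc]
      rfl
    | zero => exact ⟨0, by rw [map_zero, map_zero]⟩
    | add y z _ _ hy hz =>
      obtain ⟨y', hy'⟩ := hy
      obtain ⟨z', hz'⟩ := hz
      exact ⟨y' + z', by rw [map_add, map_add, hy', hz']⟩
    | smul c y _ hy =>
      obtain ⟨y', hy'⟩ := hy
      exact ⟨c • y', by rw [map_smul, map_smul, hy']⟩
  · obtain ⟨ι, p, hp⟩ := hG
    haveI : Epi p := hp
    refine ⟨fun {W} a c hac => (cancel_epi p).1 (Sigma.hom_ext _ _ fun i => ?_)⟩
    suffices h : ∀ φ : Coh.structureModule X ⟶ G, φ ≫ a = φ ≫ c by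
      exact (Category.assoc _ _ _).symm.trans ((h _).trans (Category.assoc _ _ _))
    intro φ
    induction hspan φ using Submodule.span_induction with
    | mem y hy =>
      obtain ⟨j, rfl⟩ := hy
      rw [← Sigma.ι_desc v j, Category.assoc, Category.assoc, hac]
    | zero => rw [zero_comp, zero_comp]
    | add y z _ _ hy hz => rw [Preadditive.add_comp, Preadditive.add_comp, hy, hz]
    | smul c' y _ hy => rw [Linear.smul_comp, Linear.smul_comp, hy]

theorem finrank_H0_le {X : Scheme.{u}} [X.Over (Spec (CommRingCat.of k))] {A B C : X.Modules} {f : A ⟶ B} {g : B ⟶ C}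
    {w : f ≫ g = 0} (h : (ShortComplex.mk f g w).ShortExact) [Module.Finite k (Coh.HH X B 0)] :
    Module.finrank k (Coh.HH X A 0) ≤ Module.finrank k (Coh.HH X B 0) :=
  LinearMap.finrank_le_finrank_of_injective (PnDual.HHlin_f_injective (k := k) h)

variable {n : ℕ} [(Proj (CohB1.polyGrading n k)).Over (Spec (CommRingCat.of k))]

local notation "PP" => Proj (CohB1.polyGrading n k)

/-- The kernel of a map surjective on `H⁰` to a regular sheaf is regular. -/
theorem subsingleton_kernel_regular {G : (Proj (CohB1.polyGrading n k)).Modules}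
    (hR : Reg0 (𝒜 := CohB1.polyGrading n k) G) {b : ℕ} (ψ : FlatMod.freeMod PP b ⟶ G) [Epi ψ]
    (hs : Function.Surjective (Canon.HHlin k ψ 0)) (i : ℕ) (hi : 1 ≤ i) :
    Subsingleton (Coh.HH PP ((twF (1 - (i : ℤ))).obj (kernel ψ)) i) := by
  let S : ShortComplex (Proj (CohB1.polyGrading n k)).Modules :=
    ShortComplex.mk (kernel.ι ψ) ψ (kernel.condition ψ)
  have hS : S.ShortExact :=
    { exact := ShortComplex.exact_of_f_is_kernel _ (kernelIsKernel ψ) }
  rcases Nat.lt_or_ge i 2 with h2 | h2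
  · obtain rfl : i = 1 := by omega
    obtain ⟨e0⟩ := twF_zero_iso (k := k) (n := n) (kernel ψ)
    rw [show (1 : ℤ) - (1 : ℕ) = 0 by norm_num]
    refine QCoh.subsingleton_HH_of_iso e0.symm 1 ?_
    refine subsingleton_of_forall_eq 0 fun x => ?_
    obtain ⟨φ⟩ := unitIso (k := k) (n := n)
    have h1 : Subsingleton (Coh.HH PP (∐ fun _ : Fin b => Coh.structureModule (Proj (CohB1.polyGrading n k))) 1) :=
      subsingleton_HH_sigma _ 1 fun _ =>
        QCoh.subsingleton_HH_of_iso φ.symm 1 (S0844.result k n 0 1 (fun h => by omega) (fun h => by omega))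
    obtain ⟨y, rfl⟩ := (PnDual.HHlin_f_eq_zero_iff (k := k) hS 0 x).1 (h1.elim _ _)
    obtain ⟨z, rfl⟩ := hs y
    exact LinearMap.mem_ker.1 (LinearMap.mem_ker.2 ((QCoh.Ab.connecting_eq_zero_iff
      (X := (Proj (CohB1.polyGrading n k)).toPresheafedSpace.carrier) (QCoh.toAb_shortExact hS) 0 _).2 ⟨z, rfl⟩))
  · have hS' := shortExact_twistBy (coords k n) coords_mem coords_cover (1 - (i : ℤ)) hS
    obtain ⟨q, rfl⟩ : ∃ q, i = q + 1 := ⟨i - 1, by omega⟩
    refine subsingleton_of_forall_eq 0 fun x => ?_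
    obtain ⟨e1⟩ := twF_sigma_unit_iso (k := k) (n := n) b (1 - ((q + 1 : ℕ) : ℤ))
    have h1 : Subsingleton (Coh.HH PP ((twF (1 - ((q + 1 : ℕ) : ℤ))).obj S.X₂) (q + 1)) :=
      QCoh.subsingleton_HH_of_iso e1.symm (q + 1)
        (subsingleton_HH_sigma_twist b _ _ (fun h => by omega) (fun h => by omega))
    obtain ⟨y, rfl⟩ := (PnDual.HHlin_f_eq_zero_iff (k := k) hS' q x).1 (h1.elim _ _)
    have h3 := hR q (by omega)
    have hy : y = 0 := by
      have : Subsingleton (Coh.HH PP ((twF (1 - ((q + 1 : ℕ) : ℤ))).obj G) q) := by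
        rw [show (1 : ℤ) - ((q + 1 : ℕ) : ℤ) = -(q : ℤ) by push_cast; ring]
        exact h3
      exact this.elim _ _
    rw [hy, map_zero]

variable [IsProper ((Proj (CohB1.polyGrading n k)) ↘ Spec (CommRingCat.of k))]

/-- The first twist of a `0`-regular sheaf is a cokernel between fixed sheaves. -/
theorem exists_presentation {G : (Proj (CohB1.polyGrading n k)).Modules} (hG : Coh.IsCoh G)
    (hR : Reg0 (𝒜 := CohB1.polyGrading n k) G) {N : ℕ} (hN : Module.finrank k (Coh.HH PP G 0) ≤ N) :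
    ∃ τ : Fin (Module.finrank k (Coh.HH PP ((twF 1).obj (FlatMod.freeMod PP N)) 0)) →
        Γ((twF 1).obj (FlatMod.freeMod PP N), ⊤),
      Nonempty (cokernel (descSect τ) ≅ (twF 1).obj G) := by
  haveI hP : IsNoetherian (Proj (CohB1.polyGrading n k)) := Proj16.isNoetherian_proj _
  haveI := S0002.result k PP G hG 0
  obtain ⟨ψ, hs, hg⟩ := exists_sigma_hom_le G hN
  haveI : Epi ψ := hg (ProjRegular.isGloballyGenerated coords_mem coords_cover coords_noetherian
    (good_of_isCoh coords_mem hG) hR)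
  let S : ShortComplex (Proj (CohB1.polyGrading n k)).Modules :=
    ShortComplex.mk (kernel.ι ψ) ψ (kernel.condition ψ)
  have hS : S.ShortExact :=
    { exact := ShortComplex.exact_of_f_is_kernel _ (kernelIsKernel ψ) }
  have w1 : (twF 1).map (kernel.ι ψ) ≫ (twF 1).map ψ = 0 := by
    rw [← Functor.map_comp, kernel.condition, Functor.map_zero]
  have hS' : (ShortComplex.mk ((twF 1).map (kernel.ι ψ)) ((twF 1).map ψ) w1).ShortExact :=
    hS.map_of_exact (twF 1)
  have hfree : Coh.IsCoh (FlatMod.freeMod PP N) := Syzygy.isCoh_sigma_O N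
  let K := (twF 1).obj (kernel ψ)
  have hKc : Coh.IsCoh K := ProjRegular.isCoh_twistBy (k := k) (n := n) (QCoh.isCoh_kernel hfree hG ψ) 1
  have hEc : Coh.IsCoh ((twF 1).obj (FlatMod.freeMod PP N)) := ProjRegular.isCoh_twistBy (k := k) (n := n) hfree 1
  have hKR : Reg0 (𝒜 := CohB1.polyGrading n k) K := fun q hq => by
    obtain ⟨e⟩ := twF_twF_iso (k := k) (n := n) (kernel ψ) 1 (-(q : ℤ)) (1 - (q : ℤ)) (sub_eq_add_neg _ _)
    exact QCoh.subsingleton_HH_of_iso e.symm q (subsingleton_kernel_regular hR ψ hs q hq)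
  haveI hfK : Module.Finite k (Coh.HH PP K 0) := S0002.result k PP K hKc 0
  haveI hfE : Module.Finite k (Coh.HH PP ((twF 1).obj (FlatMod.freeMod PP N)) 0) := S0002.result k PP _ hEc 0
  have hle : Module.finrank k (Coh.HH PP K 0) ≤ Module.finrank k (Coh.HH PP ((twF 1).obj (FlatMod.freeMod PP N)) 0) :=
    finrank_H0_le hS'
  obtain ⟨φ, -, hφ⟩ := exists_sigma_hom_le K hle
  haveI : Epi φ := hφ (ProjRegular.isGloballyGenerated coords_mem coords_cover coords_noetherian
    (good_of_isCoh coords_mem hKc) hKR)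
  let ι' : K ⟶ (twF 1).obj (FlatMod.freeMod PP N) := (twF 1).map (kernel.ι ψ)
  haveI := hS'.epi_g
  refine ⟨_, ⟨cokernelIsoOfEq (eq_descSect (φ ≫ ι')).symm ≪≫ cokernelEpiComp φ ι' ≪≫
    IsColimit.coconePointUniqueUpToIso (cokernelIsCokernel ι') hS'.gIsCokernel⟩⟩

end Groth.Agent.Pic13Lib
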