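import Groth.Agent.Pic13Lib.AlgEqEuler
import Groth.Agent.CycCov7.Inverse
import Groth.Agent.Nakai.Main
import Groth.Agent.Nakai.Coeff
import Groth.Agent.ParShLib.ResStalk

/-!
# Twists of an ample module by τ-trivial modules are ample
-/

set_option autoImplicit false
set_option linter.style.haveILetI false
set_option linter.unusedSectionVars false
set_option backward.isDefEq.respectTransparency false
set_option backward.isDefEq.respectTransparency.types false

universe u

open CategoryTheory AlgebraicGeometry TopologicalSpace Opposite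
open scoped Groth.Agent.H23.PicMul

attribute [local instance] HasDerivedCategory.standard

noncomputable section

namespace Groth.Agent.Pic13Lib

open Groth.Agent

variable {k : Type u} [Field k] {X : Scheme.{u}} [X.Over (Spec (CommRingCat.of k))]
  [IsProper (X ↘ Spec (CommRingCat.of k))]

theorem euler_tensor_pow_of_isTauEquivZero {L : X.Modules} (hL : PicF.IsInvertible L)
    (hτ : Pic13.IsTauEquivZero k X L) {E : X.Modules} (hE : Coh.IsCoh E) (m : ℕ) :
    Curv2.euler k X (CohB1.tensorMod E (CohB1.tensorPow L m)) = Curv2.euler k X E := by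
  haveI : IsNoetherian X := CurveCohLib.isNoetherian_of_proper (k := k)
  induction m with
  | zero =>
    refine euler_of_cl ?_
    rw [H23.PicMul.cl_tensor, H23.PicMul.cl_tensorPow, pow_zero, mul_one]
  | succ m ih =>
    refine Eq.trans (euler_of_cl ?_) ((euler_tensor_of_isTauEquivZero hL hτ
      (AmpleVan.isCoh_tensor hE (AmpleVan.isCoh_invertible (H23.PicMul.isInvertible_tensorPow hL m)))).trans ih)
    simp only [H23.PicMul.cl_tensor, H23.PicMul.cl_tensorPow, pow_succ, mul_assoc]

theorem euler_tensor_pow_inverse {L L' : X.Modules} (hL : PicF.IsInvertible L) (hτ : Pic13.IsTauEquivZero k X L)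
    (e : CohB1.tensorMod L L' ≅ Coh.structureModule X) {E : X.Modules} (hE : Coh.IsCoh E) (m : ℕ) :
    Curv2.euler k X (CohB1.tensorMod E (CohB1.tensorPow L' m)) = Curv2.euler k X E := by
  haveI : IsNoetherian X := CurveCohLib.isNoetherian_of_proper (k := k)
  have hL' := CycCov7.isInvertible_right L L' e
  refine (euler_tensor_pow_of_isTauEquivZero hL hτ
    (AmpleVan.isCoh_tensor hE (AmpleVan.isCoh_invertible (H23.PicMul.isInvertible_tensorPow hL' m))) m).symm.trans
    (euler_of_cl ?_)
  have hcl : PicF.cl L * PicF.cl L' = 1 := by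
    rw [← H23.PicMul.cl_tensor]
    exact H23.PicMul.cl_eq_iff.2 ⟨e⟩
  simp only [H23.PicMul.cl_tensor, H23.PicMul.cl_tensorPow]
  rw [mul_assoc, ← mul_pow, mul_comm (PicF.cl L'), hcl, one_pow, mul_one]

/-- A module whose twists do not affect Euler characteristics keeps ampleness. -/
theorem isAmple_tensor {A H : X.Modules} (hA : PicF.IsInvertible A) (hH : CohB1.IsAmple H)
    (h : ∀ E : X.Modules, Coh.IsCoh E → ∀ j : ℕ,
      Curv2.euler k X (CohB1.tensorMod E (CohB1.tensorPow A j)) = Curv2.euler k X E) :
    CohB1.IsAmple (CohB1.tensorMod A H) := by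
  haveI : IsNoetherian X := CurveCohLib.isNoetherian_of_proper (k := k)
  have hAH := H23.PicMul.isInvertible_tensor hA hH.1
  refine Nakai.isAmple_of_pos (k := k) hAH (Nakai.isPos_of_coeff hAH fun Z _ d hd hZd P hP => ?_)
  refine Nakai.coeff_pos (k := k) hH Z d hZd P fun n => ?_
  rw [← hP n]
  refine congrArg Int.cast ((h _ (AmpleVan.isCoh_tensor (ParShLib.isCoh_quotMod Z)
    (AmpleVan.isCoh_invertible (H23.PicMul.isInvertible_tensorPow hH.1 (∑ i, n i)))) (∑ i, n i)).symm.trans
    (euler_of_cl ?_) |> fun e => (euler_of_cl ?_).trans e)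
  · simp only [Nakai.cl_tensorPows, H23.PicMul.cl_tensor, H23.PicMul.cl_tensorPow]
  · simp only [Nakai.cl_tensorPows, H23.PicMul.cl_tensor, H23.PicMul.cl_tensorPow, mul_pow]
    ac_rfl

theorem twists_ample {H L L' : X.Modules} (hH : CohB1.IsAmple H) (hL : PicF.IsInvertible L)
    (e : CohB1.tensorMod L L' ≅ Coh.structureModule X) (hτ : Pic13.IsTauEquivZero k X L) (m : ℕ) :
    CohB1.IsAmple (CohB1.tensorMod (CohB1.tensorPow L m) H) ∧ CohB1.IsAmple (CohB1.tensorMod (CohB1.tensorPow L' m) H) := by
  constructor
  · refine isAmple_tensor (k := k) (H23.PicMul.isInvertible_tensorPow hL m) hH fun E hE j => ?_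
    refine (euler_of_cl ?_).trans (euler_tensor_pow_of_isTauEquivZero hL hτ hE (m * j))
    simp only [H23.PicMul.cl_tensor, H23.PicMul.cl_tensorPow, pow_mul]
  · refine isAmple_tensor (k := k) (H23.PicMul.isInvertible_tensorPow (CycCov7.isInvertible_right L L' e) m) hH
      fun E hE j => ?_
    refine (euler_of_cl ?_).trans (euler_tensor_pow_inverse hL hτ e hE (m * j))
    simp only [H23.PicMul.cl_tensor, H23.PicMul.cl_tensorPow, pow_mul]

end Groth.Agent.Pic13Lib
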